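import Cfsg.Agent.FixSixth.Graded

/-!
# Operators permuting a direct sum decomposition, and weights of abelian groups
-/

set_option autoImplicit false

namespace Cfsg.Lib.FixSixth

open Module LinearMap

universe u v w x

variable {K : Type w} [Field K] {V : Type v} [AddCommGroup V] [Module K V] [FiniteDimensional K V]

section Perm

variable {ι : Type x} [Fintype ι]

theorem finrank_biSup {W : ι → Submodule K V} (hind : iSupIndep W) (s : Finset ι) :
    finrank K ↥(⨆ i ∈ s, W i) = ∑ i ∈ s, finrank K ↥(W i) := by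
  classical
  induction s using Finset.induction with
  | empty => rw [Finset.sum_empty, show (⨆ i ∈ (∅ : Finset ι), W i) = ⊥ by simp, finrank_bot]
  | insert a s ha ih =>
    rw [Finset.sum_insert ha, Finset.iSup_insert, ← ih]
    have hd : Disjoint (W a) (⨆ j ∈ s, W j) := hind.disjoint_biSup (y := (s : Set ι)) (by simpa using ha)
    have h := Submodule.finrank_sup_add_finrank_inf_eq (W a) (⨆ j ∈ s, W j)
    rw [hd.eq_bot, finrank_bot] at h
    omega

/-- An operator of order three permuting the summands of a decomposition: the fixed space lies between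
a third of the moved part, and that plus the stable part. -/
theorem fixDim_perm (h3 : (3 : K) ≠ 0) {T : End K V} (hT : T ^ 3 = 1) {W : ι → Submodule K V}
    (hind : iSupIndep W) (htop : ⨆ i, W i = ⊤) (σ : ι → ι) (hσ : ∀ i, σ (σ (σ i)) = i)
    (hW : ∀ i, ∀ v ∈ W i, T v ∈ W (σ i)) [DecidableEq ι] :
    (∑ i ∈ Finset.univ.filter (fun i => σ i ≠ i), finrank K ↥(W i)) ≤ 3 * fixDim T ∧
      3 * fixDim T ≤ finrank K V + 2 * ∑ i ∈ Finset.univ.filter (fun i => σ i = i), finrank K ↥(W i) := by
  classical
  have hT3 : ∀ v, T (T (T v)) = v := fun v => by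
    have := LinearMap.congr_fun hT v
    simpa [pow_succ] using this
  have hTinj : Function.Injective T := fun a b h => by rw [← hT3 a, h, hT3]
  have hdim : ∀ i, finrank K ↥(W (σ i)) = finrank K ↥(W i) := fun i => by
    have h : ∀ j, finrank K ↥(W j) ≤ finrank K ↥(W (σ j)) := fun j => by
      refine LinearMap.finrank_le_finrank_of_injective
        (f := (T.comp (W j).subtype).codRestrict (W (σ j)) fun v => hW j v v.2) ?_
      intro a b hab
      exact Subtype.ext (hTinj (congrArg (fun z : ↥(W (σ j)) => (z : V)) hab))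
    refine le_antisymm ?_ (h i)
    have := (h (σ i)).trans (h (σ (σ i)))
    rwa [hσ] at this
  have hσinj : Function.Injective σ := fun a b h => by rw [← hσ a, h, hσ]
  let e := Fintype.equivFin ι
  set R := Finset.univ.filter (fun i => e i < e (σ i) ∧ e i < e (σ (σ i))) with hR
  set F := Finset.univ.filter (fun i => σ i = i) with hF
  set M := Finset.univ.filter (fun i => σ i ≠ i) with hM
  set R1 := R.image σ with hR1
  set R2 := R.image (fun i => σ (σ i)) with hR2
  have hRne : ∀ i ∈ R, σ i ≠ i := fun i hi h => by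
    simp [hR, h] at hi
  have hd01 : Disjoint R R1 := by
    rw [Finset.disjoint_left]
    rintro i hi hi'
    obtain ⟨j, hj, rfl⟩ := Finset.mem_image.1 hi'
    simp only [hR, Finset.mem_filter, Finset.mem_univ, true_and, hσ] at hi hj
    exact lt_asymm hj.1 hi.2
  have hd02 : Disjoint R R2 := by
    rw [Finset.disjoint_left]
    rintro i hi hi'
    obtain ⟨j, hj, rfl⟩ := Finset.mem_image.1 hi'
    simp only [hR, Finset.mem_filter, Finset.mem_univ, true_and, hσ] at hi hj
    exact lt_asymm hj.2 hi.1
  have hd12 : Disjoint R1 R2 := by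
    rw [Finset.disjoint_left]
    rintro i hi hi'
    obtain ⟨j, hj, rfl⟩ := Finset.mem_image.1 hi'
    obtain ⟨l, hl, hlj⟩ := Finset.mem_image.1 hi
    have : l = σ j := hσinj hlj
    subst this
    simp only [hR, Finset.mem_filter, Finset.mem_univ, true_and, hσ] at hj hl
    exact lt_asymm hj.1 hl.2
  have hcover : M = R ∪ R1 ∪ R2 := by
    ext i
    simp only [hM, Finset.mem_filter, Finset.mem_univ, true_and, Finset.mem_union]
    constructor
    · intro hi
      have h1 : e i ≠ e (σ i) := fun h => hi (e.injective h).symm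
      have h2 : e i ≠ e (σ (σ i)) := fun h => hi (by
        have h0 := e.injective h
        conv_lhs => rw [h0, hσ])
      have h3' : e (σ i) ≠ e (σ (σ i)) := fun h => hi (hσinj (e.injective h)).symm
      by_cases hA : e i < e (σ i) ∧ e i < e (σ (σ i))
      · exact Or.inl (Or.inl (by simp [hR, hA]))
      by_cases hB : e (σ i) < e i ∧ e (σ i) < e (σ (σ i))
      · exact Or.inr (Finset.mem_image.2 ⟨σ i, by simp [hR, hσ, hB], hσ i⟩)
      · refine Or.inl (Or.inr (Finset.mem_image.2 ⟨σ (σ i), ?_, hσ i⟩))
        simp only [hR, Finset.mem_filter, Finset.mem_univ, true_and, hσ]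
        constructor <;> omega
    · rintro ((hi | hi) | hi)
      · exact hRne i hi
      · obtain ⟨j, hj, rfl⟩ := Finset.mem_image.1 hi
        exact fun h => hRne j hj (hσinj h)
      · obtain ⟨j, hj, rfl⟩ := Finset.mem_image.1 hi
        exact fun h => hRne j hj (hσinj (hσinj h))
  have hsum1 : ∑ i ∈ R1, finrank K ↥(W i) = ∑ i ∈ R, finrank K ↥(W i) := by
    rw [hR1, Finset.sum_image fun a _ b _ h => hσinj h]
    exact Finset.sum_congr rfl fun i _ => hdim i
  have hsum2 : ∑ i ∈ R2, finrank K ↥(W i) = ∑ i ∈ R, finrank K ↥(W i) := by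
    rw [hR2, Finset.sum_image fun a _ b _ h => hσinj (hσinj h)]
    exact Finset.sum_congr rfl fun i _ => by rw [hdim, hdim]
  have hsumM : ∑ i ∈ M, finrank K ↥(W i) = 3 * ∑ i ∈ R, finrank K ↥(W i) := by
    rw [hcover, Finset.sum_union (Finset.disjoint_union_left.2 ⟨hd02, hd12⟩), Finset.sum_union hd01,
      hsum1, hsum2]
    omega
  have hsumall : ∑ i ∈ F, finrank K ↥(W i) + ∑ i ∈ M, finrank K ↥(W i) = finrank K V := by
    rw [hF, hM, Finset.sum_filter_add_sum_filter_not, ← finrank_biSup hind]
    rw [show (⨆ i ∈ (Finset.univ : Finset ι), W i) = ⊤ by simp [htop], finrank_top]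
  set S := ⨆ i ∈ R, W i with hS
  have hT1 : ∀ v ∈ S, T v ∈ ⨆ i ∈ R1, W i := by
    intro v hv
    have : S ≤ (⨆ i ∈ R1, W i).comap T := iSup₂_le fun i hi w hw =>
      Submodule.mem_iSup_of_mem (σ i) (Submodule.mem_iSup_of_mem (Finset.mem_image_of_mem σ hi) (hW i w hw))
    exact this hv
  have hT2 : ∀ v ∈ S, T (T v) ∈ ⨆ i ∈ R2, W i := by
    intro v hv
    have : S ≤ (⨆ i ∈ R2, W i).comap (T.comp T) := iSup₂_le fun i hi w hw =>
      Submodule.mem_iSup_of_mem (σ (σ i))
        (Submodule.mem_iSup_of_mem (Finset.mem_image_of_mem _ hi) (hW _ _ (hW i w hw)))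
    exact this hv
  constructor
  · rw [hsumM]
    refine Nat.mul_le_mul_left 3 ?_
    rw [← finrank_biSup hind R]
    refine LinearMap.finrank_le_finrank_of_injective
      (f := ((projFix T 3).comp S.subtype).codRestrict (ker (T - 1)) fun v =>
        mem_ker_sub_one.2 (projFix_fixed hT (v : V))) ?_
    rw [injective_iff_map_eq_zero]
    intro v hv
    have hv0 : projFix T 3 (v : V) = 0 := congrArg (fun z : ↥(ker (T - 1)) => (z : V)) hv
    have h0 : (v : V) + T v + T (T v) = 0 := by
      have h := hv0
      rw [projFix, LinearMap.smul_apply, smul_eq_zero] at h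
      rcases h with h | h
      · exact absurd h (inv_ne_zero (by exact_mod_cast h3))
      · simpa [Finset.sum_range_succ, pow_succ] using h
    have hmem : (v : V) ∈ ⨆ i ∈ R1 ∪ R2, W i := by
      rw [Finset.iSup_union, show (v : V) = -(T v + T (T v)) from eq_neg_of_add_eq_zero_left
        (by rw [← add_assoc]; exact h0)]
      exact Submodule.neg_mem _ (Submodule.add_mem_sup (hT1 v v.2) (hT2 v v.2))
    have hdis : Disjoint S (⨆ i ∈ R1 ∪ R2, W i) :=
      hind.disjoint_biSup_biSup (s := (R : Set ι)) (t := ((R1 ∪ R2 : Finset ι) : Set ι))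
        (Finset.disjoint_coe.2 (Finset.disjoint_union_right.2 ⟨hd01, hd02⟩))
    exact Subtype.ext (Submodule.disjoint_def.1 hdis v v.2 hmem)
  · have hle : ker (T - 1) ≤ (⨆ i ∈ F, W i) ⊔ Submodule.map (projFix T 3) S := by
      intro v hv
      rw [← projFix_of_fixed (k := 3) (by exact_mod_cast h3) (mem_ker_sub_one.1 hv)]
      have hall : (⊤ : Submodule K V) ≤
          ((⨆ i ∈ F, W i) ⊔ Submodule.map (projFix T 3) S).comap (projFix T 3) := by
        rw [← htop]
        refine iSup_le fun i w hw => ?_
        rw [Submodule.mem_comap]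
        by_cases hi : σ i = i
        · refine Submodule.mem_sup_left ?_
          have hWi : ∀ u ∈ W i, T u ∈ W i := fun u hu => by simpa [hi] using hW i u hu
          refine Submodule.mem_iSup_of_mem i (Submodule.mem_iSup_of_mem (by simp [hF, hi]) ?_)
          simp only [projFix, LinearMap.smul_apply, LinearMap.sum_apply]
          refine Submodule.smul_mem _ _ (Submodule.sum_mem _ fun j hj => ?_)
          clear hj
          induction j with
          | zero => simpa using hw
          | succ j ih => rw [pow_succ', Module.End.mul_apply]; exact hWi _ ih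
        · refine Submodule.mem_sup_right ?_
          have hi' : i ∈ R ∪ R1 ∪ R2 := by rw [← hcover]; simp [hM, hi]
          have hproj : ∀ u, projFix T 3 (T u) = projFix T 3 u := fun u => by
            simp [projFix, Finset.sum_range_succ, pow_succ, hT3]
            abel
          simp only [Finset.mem_union, hR1, hR2, Finset.mem_image] at hi'
          rcases hi' with (hi' | ⟨j, hj, rfl⟩) | ⟨j, hj, rfl⟩
          · exact ⟨w, Submodule.mem_iSup_of_mem i (Submodule.mem_iSup_of_mem hi' hw), rfl⟩
          · refine ⟨T (T w), Submodule.mem_iSup_of_mem j (Submodule.mem_iSup_of_mem hj ?_), ?_⟩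
            · simpa [hσ] using hW _ _ (hW _ _ hw)
            · rw [hproj, hproj]
          · refine ⟨T w, Submodule.mem_iSup_of_mem j (Submodule.mem_iSup_of_mem hj ?_), hproj w⟩
            simpa [hσ] using hW _ _ hw
      exact hall Submodule.mem_top
    have h := (Submodule.finrank_mono hle).trans (Submodule.finrank_add_le_finrank_add_finrank _ _)
    have h2 := Submodule.finrank_map_le (projFix T 3) S
    rw [hS, finrank_biSup hind] at h2
    rw [hS] at h
    rw [finrank_biSup hind] at h
    unfold fixDim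
    omega

end Perm

section Weights

variable {G : Type u} [Group G]

/-- An invariant subspace has an invariant complement when the group order is invertible. -/
theorem exists_invariant_compl [Finite G] (hG : (Nat.card G : K) ≠ 0) (ρ : Representation K G V)
    (p : Submodule K V) (hp : ∀ g, p ≤ p.comap (ρ g)) :
    ∃ q : Submodule K V, (∀ g, q ≤ q.comap (ρ g)) ∧ IsCompl p q := by
  classical
  haveI := Fintype.ofFinite G
  obtain ⟨c, hc⟩ := Submodule.exists_isCompl p
  set π : End K V := p.subtype.comp (Submodule.projectionOnto p c hc) with hπ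
  set π' : End K V := (Nat.card G : K)⁻¹ • ∑ g : G, ρ g * π * ρ g⁻¹ with hπ'
  have hmem : ∀ v, π' v ∈ p := fun v => by
    rw [hπ', LinearMap.smul_apply, LinearMap.sum_apply]
    exact p.smul_mem _ (p.sum_mem fun g _ => hp g (by rw [hπ]; exact Submodule.coe_mem _))
  have hid : ∀ v ∈ p, π' v = v := fun v hv => by
    have h : ∀ g : G, (ρ g * π * ρ g⁻¹) v = v := fun g => by
      have h1 : π (ρ g⁻¹ v) = ρ g⁻¹ v := by
        rw [hπ, LinearMap.comp_apply]
        exact congrArg Subtype.val (Submodule.projectionOnto_apply_left hc ⟨_, hp g⁻¹ hv⟩)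
      rw [Module.End.mul_apply, Module.End.mul_apply, h1, ← Module.End.mul_apply, ← map_mul]
      simp
    rw [hπ', LinearMap.smul_apply, LinearMap.sum_apply, Finset.sum_congr rfl fun g _ => h g,
      Finset.sum_const, Finset.card_univ, ← Nat.card_eq_fintype_card, ← Nat.cast_smul_eq_nsmul K,
      smul_smul, inv_mul_cancel₀ hG, one_smul]
  have hcomm : ∀ h : G, π' * ρ h = ρ h * π' := fun h => by
    rw [hπ', smul_mul_assoc, mul_smul_comm, Finset.sum_mul, Finset.mul_sum]
    congr 1
    refine Fintype.sum_equiv (Equiv.mulLeft h⁻¹) _ _ fun g => ?_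
    simp only [Equiv.coe_mulLeft, mul_inv_rev, inv_inv]
    rw [← mul_assoc (ρ h), ← mul_assoc (ρ h), ← map_mul, mul_inv_cancel_left,
      mul_assoc _ (ρ g⁻¹) (ρ h), ← map_mul]
  refine ⟨ker π', fun g v hv => ?_, ?_⟩
  · rw [Submodule.mem_comap, mem_ker, ← Module.End.mul_apply, hcomm, Module.End.mul_apply,
      mem_ker.1 hv, map_zero]
  · constructor
    · exact Submodule.disjoint_def.2 fun v hv hv' => by rw [← hid v hv]; exact hv'
    · rw [codisjoint_iff, eq_top_iff]
      intro v _
      rw [← add_sub_cancel (π' v) v]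
      refine Submodule.add_mem_sup (hmem v) ?_
      rw [mem_ker, map_sub, hid _ (hmem v), sub_self]

/-- A commuting family of operators has a common eigenvector. -/
theorem exists_common_eigen [IsAlgClosed K] (ρ : Representation K G V)
    (hab : ∀ a b : G, a * b = b * a) (p : Submodule K V) (hp : ∀ g, p ≤ p.comap (ρ g)) (hp0 : p ≠ ⊥) :
    ∃ v ∈ p, v ≠ 0 ∧ ∀ g, ∃ c : K, ρ g v = c • v := by
  classical
  suffices H : ∀ n, ∀ q : Submodule K V, finrank K q ≤ n → (∀ g, q ≤ q.comap (ρ g)) → q ≠ ⊥ →
      ∃ v ∈ q, v ≠ 0 ∧ ∀ g, ∃ c : K, ρ g v = c • v from H _ p le_rfl hp hp0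
  intro n
  induction n with
  | zero => exact fun q hn _ h => absurd (Submodule.finrank_eq_zero.1 (Nat.le_zero.1 hn)) h
  | succ n ih =>
    intro q hn hq hq0
    by_cases hsc : ∀ g, ∃ c : K, ∀ v ∈ q, ρ g v = c • v
    · obtain ⟨v, hv, hv0⟩ := Submodule.exists_mem_ne_zero_of_ne_bot hq0
      exact ⟨v, hv, hv0, fun g => (hsc g).imp fun c hc => hc v hv⟩
    · push Not at hsc
      obtain ⟨g, hg⟩ := hsc
      haveI : Nontrivial q := Submodule.nontrivial_iff_ne_bot.2 hq0
      obtain ⟨c, hc⟩ := Module.End.exists_eigenvalue ((ρ g).restrict (hq g) : End K q)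
      set r := Submodule.map q.subtype (Module.End.eigenspace ((ρ g).restrict (hq g) : End K q) c) with hr
      have hrle : r ≤ q := Submodule.map_subtype_le q _
      have hlt : r < q := by
        refine lt_of_le_of_ne hrle fun h => ?_
        obtain ⟨v, hv, hv'⟩ := hg c
        rw [← h] at hv
        obtain ⟨w, hw, rfl⟩ := hv
        exact hv' (congrArg (fun z : q => (z : V)) (Module.End.mem_eigenspace_iff.1 hw))
      have hrinv : ∀ h, r ≤ r.comap (ρ h) := by
        rintro h _ ⟨w, hw, rfl⟩
        refine ⟨⟨ρ h w, hq h w.2⟩, Module.End.mem_eigenspace_iff.2 (Subtype.ext ?_), rfl⟩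
        have hw' : ρ g (w : V) = c • (w : V) :=
          congrArg (fun z : q => (z : V)) (Module.End.mem_eigenspace_iff.1 hw)
        show ρ g (ρ h w) = c • ρ h w
        rw [← Module.End.mul_apply, ← map_mul, hab, map_mul, Module.End.mul_apply, hw', map_smul]
      have hr0 : r ≠ ⊥ := by
        obtain ⟨w, hw, hw0⟩ := Submodule.exists_mem_ne_zero_of_ne_bot hc
        intro h
        have : (w : V) ∈ r := ⟨w, hw, rfl⟩
        rw [h, Submodule.mem_bot] at this
        exact hw0 (Subtype.ext this)
      have := Submodule.finrank_lt_finrank_of_lt hlt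
      obtain ⟨v, hv, hv'⟩ := ih r (by omega) hrinv hr0
      exact ⟨v, hrle hv, hv'⟩

/-- The weight space of a character. -/
def weight (ρ : Representation K G V) (χ : G →* K) : Submodule K V :=
  ⨅ g, Module.End.eigenspace (ρ g) (χ g)

omit [FiniteDimensional K V] in
theorem mem_weight {ρ : Representation K G V} {χ : G →* K} {v : V} :
    v ∈ weight ρ χ ↔ ∀ g, ρ g v = χ g • v := by
  simp [weight, Submodule.mem_iInf]

/-- Common eigenspaces of an abelian group of invertible order exhaust the space. -/
theorem iSup_weight [IsAlgClosed K] [Finite G] (hab : ∀ a b : G, a * b = b * a)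
    (hG : (Nat.card G : K) ≠ 0) (ρ : Representation K G V) : ⨆ χ : G →* K, weight ρ χ = ⊤ := by
  classical
  set S := ⨆ χ : G →* K, weight ρ χ with hS
  have hinv : ∀ g, S ≤ S.comap (ρ g) := fun g => iSup_le fun χ v hv => by
    rw [Submodule.mem_comap, mem_weight.1 hv g]
    exact Submodule.mem_iSup_of_mem χ (Submodule.smul_mem _ _ hv)
  obtain ⟨q, hq, hc⟩ := exists_invariant_compl hG ρ S hinv
  by_contra hne
  have hq0 : q ≠ ⊥ := fun h => hne (by have := hc.sup_eq_top; rwa [h, sup_bot_eq] at this)
  obtain ⟨v, hv, hv0, hev⟩ := exists_common_eigen ρ hab q hq hq0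
  choose c hcc using hev
  have hc1 : c 1 = 1 := by
    have h := hcc 1
    rw [map_one, Module.End.one_apply] at h
    exact (smul_left_injective K hv0 (by simpa using h)).symm
  have hmul : ∀ a b, c (a * b) = c a * c b := fun a b => by
    refine smul_left_injective K hv0 ?_
    show c (a * b) • v = (c a * c b) • v
    rw [← hcc, map_mul, Module.End.mul_apply, hcc b, map_smul, hcc a, smul_smul, mul_comm]
  let χ : G →* K := { toFun := c, map_one' := hc1, map_mul' := hmul }
  have : v ∈ S := Submodule.mem_iSup_of_mem χ (mem_weight.2 hcc)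
  exact hv0 (Submodule.disjoint_def.1 hc.disjoint v this hv)

omit [FiniteDimensional K V] in
/-- Weight spaces are independent. -/
theorem iSupIndep_weight (ρ : Representation K G V) : iSupIndep (weight ρ) := by
  classical
  rw [iSupIndep_def]
  intro χ
  rw [Submodule.disjoint_def]
  intro v hv hv'
  -- separate by induction on the number of characters involved
  obtain ⟨s, hs⟩ := Submodule.mem_iSup_iff_exists_finset.1 hv'
  suffices H : ∀ (s : Finset (G →* K)), χ ∉ s → ∀ v ∈ weight ρ χ, v ∈ (⨆ ψ ∈ s, weight ρ ψ) → v = 0 by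
    refine H (s.erase χ) (Finset.notMem_erase _ _) v hv ?_
    refine (iSup₂_le fun ψ hψ => iSup_le fun hne => ?_ :
      (⨆ ψ ∈ s, ⨆ (_ : ψ ≠ χ), weight ρ ψ) ≤ _) hs
    exact le_iSup₂_of_le ψ (Finset.mem_erase.2 ⟨hne, hψ⟩) le_rfl
  intro s
  induction s using Finset.induction with
  | empty => intro _ v _ hv'; simpa using hv'
  | insert ψ s hψ ih =>
    intro hχ v hv hv'
    rw [Finset.iSup_insert, Submodule.mem_sup] at hv'
    obtain ⟨a, ha, b, hb, rfl⟩ := hv'
    obtain ⟨g, hg⟩ : ∃ g, χ g ≠ ψ g := by
      by_contra h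
      push Not at h
      exact hχ (Finset.mem_insert.2 (Or.inl (MonoidHom.ext h)))
    have hsinv : (⨆ φ ∈ s, weight ρ φ) ≤ (⨆ φ ∈ s, weight ρ φ).comap (ρ g - ψ g • (1 : End K V)) :=
      iSup₂_le fun φ hφ w hw => by
        rw [Submodule.mem_comap, LinearMap.sub_apply, LinearMap.smul_apply, Module.End.one_apply,
          mem_weight.1 hw g, ← sub_smul]
        exact Submodule.mem_iSup_of_mem φ (Submodule.mem_iSup_of_mem hφ (Submodule.smul_mem _ _ hw))
    have h1 := hsinv hb
    rw [Submodule.mem_comap] at h1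
    have h2 : (ρ g - ψ g • (1 : End K V)) b = (χ g - ψ g) • (a + b) := by
      rw [sub_smul, ← mem_weight.1 hv g, map_add, smul_add, mem_weight.1 ha g]
      simp only [LinearMap.sub_apply, LinearMap.smul_apply, Module.End.one_apply]
      abel
    rw [h2] at h1
    have h3 := ih (fun h => hχ (Finset.mem_insert_of_mem h)) _ (Submodule.smul_mem _ _ hv) h1
    exact (smul_eq_zero.1 h3).resolve_left (sub_ne_zero.2 hg)

end Weights

end Cfsg.Lib.FixSixth
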