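import Cfsg.Agent.Quadratic.SLTwoDickson

/-!
# The special elements of `SL₂(p)`
-/

set_option autoImplicit false

namespace Cfsg.Lib.FixSixth

open Matrix

variable {p : ℕ} [hp : Fact p.Prime]

/-- The companion element of order three. -/
def x0 (p : ℕ) : SpecialLinearGroup (Fin 2) (ZMod p) :=
  ⟨!![0, -1; 1, -1], by simp [Matrix.det_fin_two]⟩

/-- The upper unipotent element. -/
def u0 (p : ℕ) : SpecialLinearGroup (Fin 2) (ZMod p) :=
  ⟨!![1, 1; 0, 1], by simp [Matrix.det_fin_two]⟩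

/-- A diagonal element. -/
def t0 {p : ℕ} (a : (ZMod p)ˣ) : SpecialLinearGroup (Fin 2) (ZMod p) :=
  ⟨!![(a : ZMod p), 0; 0, ((a⁻¹ : (ZMod p)ˣ) : ZMod p)], by simp [Matrix.det_fin_two]⟩

/-- The second generator, a conjugate of `x0`. -/
def y0 (p : ℕ) : SpecialLinearGroup (Fin 2) (ZMod p) :=
  ⟨!![1, -3; 1, -2], by simp [Matrix.det_fin_two]; ring⟩

theorem coe_u0_pow (p : ℕ) (n : ℕ) :
    ((u0 p ^ n : SpecialLinearGroup (Fin 2) (ZMod p)) : Matrix (Fin 2) (Fin 2) (ZMod p)) =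
      !![1, (n : ZMod p); 0, 1] := by
  induction n with
  | zero => simp [Matrix.one_fin_two]
  | succ n ih => rw [pow_succ, SpecialLinearGroup.coe_mul, ih]; simp [u0, Matrix.mul_fin_two, add_comm]

theorem orderOf_u0 : orderOf (u0 p) = p := by
  refine orderOf_eq_prime (Subtype.ext ?_) fun h => ?_
  · rw [coe_u0_pow]; simp [Matrix.one_fin_two]
  · have := congrArg (fun g : SpecialLinearGroup (Fin 2) (ZMod p) =>
      (g : Matrix (Fin 2) (Fin 2) (ZMod p)) 0 1) h
    simp [u0] at this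

theorem t0_conj_u0 (a : (ZMod p)ˣ) : t0 a * u0 p * (t0 a)⁻¹ = u0 p ^ ((a : ZMod p) ^ 2).val := by
  rw [mul_inv_eq_iff_eq_mul]
  refine Subtype.ext ?_
  rw [SpecialLinearGroup.coe_mul, SpecialLinearGroup.coe_mul, coe_u0_pow, ZMod.natCast_zmod_val]
  have hab : (a : ZMod p) * ((a⁻¹ : (ZMod p)ˣ) : ZMod p) = 1 := Units.mul_inv a
  simp only [t0, u0, Matrix.mul_fin_two]
  generalize ((a⁻¹ : (ZMod p)ˣ) : ZMod p) = y at hab ⊢
  generalize (a : ZMod p) = x at hab ⊢
  have hz : x ^ 2 * y = x := by linear_combination x * hab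
  ext i j
  fin_cases i <;> fin_cases j <;> simp [hz]

theorem t0_mul (a b : (ZMod p)ˣ) : t0 (a * b) = t0 a * t0 b := by
  refine Subtype.ext ?_
  rw [SpecialLinearGroup.coe_mul]
  simp only [t0, Matrix.mul_fin_two, _root_.mul_inv_rev, Units.val_mul]
  generalize ((a⁻¹ : (ZMod p)ˣ) : ZMod p) = y
  generalize ((b⁻¹ : (ZMod p)ˣ) : ZMod p) = z
  generalize (a : ZMod p) = x
  generalize (b : ZMod p) = w
  ext i j
  fin_cases i <;> fin_cases j <;> simp [mul_comm z y]

theorem t0_one : t0 (1 : (ZMod p)ˣ) = 1 := Subtype.ext (by simp [t0, Matrix.one_fin_two])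

theorem t0_pow (a : (ZMod p)ˣ) (n : ℕ) : t0 a ^ n = t0 (a ^ n) := by
  induction n with
  | zero => rw [pow_zero, pow_zero, t0_one]
  | succ n ih => rw [pow_succ, ih, pow_succ, t0_mul]

omit hp in
theorem x0_cube : x0 p ^ 3 = 1 := by
  refine Subtype.ext ?_
  rw [SpecialLinearGroup.coe_pow]
  simp [x0, pow_succ, Matrix.mul_fin_two, Matrix.one_fin_two]

theorem x0_ne_one : x0 p ≠ 1 := fun h => by
  have := congrArg (fun g : SpecialLinearGroup (Fin 2) (ZMod p) =>
      (g : Matrix (Fin 2) (Fin 2) (ZMod p)) 1 0) h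
  simp [x0] at this

theorem y0_eq : u0 p * x0 p * (u0 p)⁻¹ = y0 p := by
  rw [mul_inv_eq_iff_eq_mul]
  refine Subtype.ext ?_
  rw [SpecialLinearGroup.coe_mul, SpecialLinearGroup.coe_mul]
  simp only [x0, y0, u0, Matrix.mul_fin_two]
  ext i j
  fin_cases i <;> fin_cases j <;> simp <;> ring

theorem coe_x0_mul_y0 :
    ((x0 p * y0 p : SpecialLinearGroup (Fin 2) (ZMod p)) : Matrix (Fin 2) (Fin 2) (ZMod p)) =
      !![-1, 2; 0, -1] := by
  rw [SpecialLinearGroup.coe_mul]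
  simp only [x0, y0, Matrix.mul_fin_two]
  ext i j
  fin_cases i <;> fin_cases j <;> simp <;> ring

theorem coe_pow_xy (n : ℕ) :
    (((x0 p * y0 p) ^ n : SpecialLinearGroup (Fin 2) (ZMod p)) : Matrix (Fin 2) (Fin 2) (ZMod p)) =
      !![(-1 : ZMod p) ^ n, -2 * (n : ZMod p) * (-1) ^ n; 0, (-1) ^ n] := by
  induction n with
  | zero => simp [Matrix.one_fin_two]
  | succ n ih =>
    rw [pow_succ, SpecialLinearGroup.coe_mul, ih, coe_x0_mul_y0]
    simp only [Matrix.mul_fin_two]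
    ext i j
    fin_cases i <;> fin_cases j <;> simp [pow_succ] <;> ring

theorem xy_pow : (x0 p * y0 p) ^ (2 * p) = 1 := by
  refine Subtype.ext ?_
  rw [coe_pow_xy]
  simp [Matrix.one_fin_two, pow_mul]

theorem closure_x0_y0 (hp2 : p ≠ 2) :
    Subgroup.closure ({x0 p, y0 p} : Set (SpecialLinearGroup (Fin 2) (ZMod p))) = ⊤ := by
  set H := Subgroup.closure ({x0 p, y0 p} : Set (SpecialLinearGroup (Fin 2) (ZMod p))) with hH
  have hx : x0 p ∈ H := Subgroup.subset_closure (by simp)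
  have hy : y0 p ∈ H := Subgroup.subset_closure (by simp)
  have h2 : ((2 : ℕ) : ZMod p) ≠ 0 := fun h =>
    hp2 ((Nat.prime_dvd_prime_iff_eq hp.out Nat.prime_two).1 ((ZMod.natCast_eq_zero_iff _ _).1 h))
  have h4 : (-4 : ZMod p) ≠ 0 := by
    have : (-4 : ZMod p) = -(((2 : ℕ) : ZMod p) * ((2 : ℕ) : ZMod p)) := by norm_num
    rw [this]
    exact neg_ne_zero.2 (mul_ne_zero h2 h2)
  have hU : ∀ n : ℕ, u0 p ^ n ∈ H := fun n => by
    set j := ((n : ZMod p) * (-4 : ZMod p)⁻¹).val with hj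
    have heq : u0 p ^ n = (x0 p * y0 p) ^ (2 * j) := by
      refine Subtype.ext ?_
      rw [coe_u0_pow, coe_pow_xy, pow_mul, Nat.cast_mul, hj, ZMod.natCast_zmod_val]
      have hid : (n : ZMod p) = -2 * (((2 : ℕ) : ZMod p) * ((n : ZMod p) * (-4 : ZMod p)⁻¹)) := by
        have h := mul_inv_cancel₀ h4
        push_cast
        linear_combination (-(n : ZMod p)) * h
      simp only [neg_one_sq, one_pow, mul_one, ← hid]
    rw [heq]
    exact pow_mem (mul_mem hx hy) _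
  refine Cfsg.Lib.SLTwoSub.closure_transvections H (fun g hg => ?_) (fun g hg => ?_)
  · rw [show g = u0 p ^ 1 by rw [pow_one]; exact Subtype.ext hg]; exact hU 1
  · have : g = x0 p * u0 p ^ (p - 1) * (x0 p)⁻¹ := by
      rw [eq_mul_inv_iff_mul_eq]
      refine Subtype.ext ?_
      rw [SpecialLinearGroup.coe_mul, SpecialLinearGroup.coe_mul, coe_u0_pow, hg,
        Nat.cast_sub hp.out.one_le, ZMod.natCast_self, Nat.cast_one]
      simp only [x0, Matrix.mul_fin_two]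
      ext i j
      fin_cases i <;> fin_cases j <;> simp
    rw [this]
    exact mul_mem (mul_mem hx (hU _)) (inv_mem hx)

/-- The other product has order dividing `p² - 1`. -/
theorem xyi_pow (hp5 : p ≠ 5) (hp2 : p ≠ 2) : (x0 p * (y0 p)⁻¹) ^ (p ^ 2 - 1) = 1 := by
  set g := x0 p * (y0 p)⁻¹ with hg
  set A : Matrix (Fin 2) (Fin 2) (ZMod p) := (g : Matrix (Fin 2) (Fin 2) (ZMod p)) with hA
  have hAeq : A = !![1, -1; -1, 2] := by
    rw [hA, hg, SpecialLinearGroup.coe_mul, SpecialLinearGroup.coe_inv]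
    simp only [x0, y0, Matrix.adjugate_fin_two_of, Matrix.mul_fin_two]
    ext i j
    fin_cases i <;> fin_cases j <;> simp <;> ring
  haveI : CharP (Matrix (Fin 2) (Fin 2) (ZMod p)) p :=
    charP_of_injective_algebraMap (algebraMap (ZMod p) (Matrix (Fin 2) (Fin 2) (ZMod p))).injective p
  set B : Matrix (Fin 2) (Fin 2) (ZMod p) := (2 : ZMod p) • A + (-3 : ZMod p) • 1 with hB
  have hB2 : B ^ 2 = (5 : ZMod p) • 1 := by
    rw [hB, hAeq, pow_two, Matrix.one_fin_two]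
    ext i j
    fin_cases i <;> fin_cases j <;> simp [Matrix.mul_fin_two] <;> ring
  obtain ⟨q, hq⟩ : ∃ q, p = 2 * q + 1 := by
    obtain ⟨q, hq⟩ := hp.out.odd_of_ne_two hp2
    exact ⟨q, hq⟩
  have hBp : B ^ p = ((5 : ZMod p) ^ q) • B := by
    calc B ^ p = B ^ (2 * q + 1) := congrArg (B ^ ·) hq
      _ = _ := by rw [pow_succ, pow_mul, hB2, smul_pow, one_pow, smul_mul_assoc, one_mul]
  have hfro : ∀ C : Matrix (Fin 2) (Fin 2) (ZMod p),
      ((2 : ZMod p) • C + (-3 : ZMod p) • 1) ^ p = (2 : ZMod p) • C ^ p + (-3 : ZMod p) • 1 := fun C => by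
    rw [add_pow_char_of_commute (R := Matrix (Fin 2) (Fin 2) (ZMod p)) (p := p)
      ((Commute.one_right _).smul_right _), smul_pow, smul_pow, ZMod.pow_card, ZMod.pow_card, one_pow]
  have he : ((5 : ZMod p) ^ q) * ((5 : ZMod p) ^ q) = 1 := by
    rw [← pow_add, show q + q = p - 1 by omega]
    refine ZMod.pow_card_sub_one_eq_one fun h => hp5 ?_
    have h' : ((5 : ℕ) : ZMod p) = 0 := by exact_mod_cast h
    exact (Nat.prime_dvd_prime_iff_eq hp.out Nat.prime_five).1 ((ZMod.natCast_eq_zero_iff _ _).1 h')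
  have hBpp : (B ^ p) ^ p = B := by
    rw [hBp, smul_pow, hBp, ZMod.pow_card, smul_smul, he, one_smul]
  have h2 : (2 : ZMod p) ≠ 0 := by
    have : ((2 : ℕ) : ZMod p) ≠ 0 := fun h =>
      hp2 ((Nat.prime_dvd_prime_iff_eq hp.out Nat.prime_two).1 ((ZMod.natCast_eq_zero_iff _ _).1 h))
    exact_mod_cast this
  have hApp : A ^ (p ^ 2) = A := by
    rw [hB, hfro, hfro, ← pow_mul, ← pow_two] at hBpp
    exact smul_right_injective _ h2 (add_right_cancel hBpp)
  have : g ^ (p ^ 2) = g := Subtype.ext (by rw [SpecialLinearGroup.coe_pow]; exact hApp)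
  have h1 : g ^ (p ^ 2 - 1) * g = 1 * g := by
    rw [← pow_succ, Nat.sub_add_cancel (Nat.one_le_pow _ _ hp.out.pos), this, one_mul]
  exact mul_right_cancel h1

end Cfsg.Lib.FixSixth
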