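import Cfsg.Agent.FixSixth.GelfandKazhdan
import Cfsg.Agent.FixSixth.Blocks
import Cfsg.Agent.FixSixth.SLMat

/-!
# The element of order three in cross characteristic
-/

set_option autoImplicit false

namespace Cfsg.Lib.FixSixth

open Module LinearMap Matrix

universe v w

section Poly

variable {K : Type w} [Field K] [IsAlgClosed K] {V : Type v} [AddCommGroup V] [Module K V]
  [FiniteDimensional K V]

/-- An operator with eigenspaces of dimension at most one has a scalar `m`th power on at most an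
`m`-dimensional subspace. -/
theorem finrank_le_of_pow_scalar {C : End K V} (hC : ∀ l, finrank K ↥(Module.End.eigenspace C l) ≤ 1)
    (S : Submodule K V) {m : ℕ} (hm : 0 < m) {μ : K} (hS : ∀ v ∈ S, (C ^ m) v = μ • v) :
    finrank K S ≤ m := by
  classical
  have hprod : ∀ s : Multiset K,
      finrank K ↥(LinearMap.ker (Polynomial.aeval C (s.map fun r => Polynomial.X - Polynomial.C r).prod)) ≤
        Multiset.card s := by
    intro s
    induction s using Multiset.induction with
    | empty =>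
      rw [Multiset.map_zero, Multiset.prod_zero, map_one, Module.End.one_eq_id, ker_id, finrank_bot]
      exact Nat.zero_le _
    | cons r s ih =>
      rw [Multiset.map_cons, Multiset.prod_cons, map_mul, Multiset.card_cons]
      set B := Polynomial.aeval C (s.map fun r => Polynomial.X - Polynomial.C r).prod with hB
      set A := Polynomial.aeval C (Polynomial.X - Polynomial.C r) with hA
      have hAker : finrank K ↥(LinearMap.ker A) ≤ 1 := by
        refine le_trans (le_of_eq ?_) (hC r)
        rw [Module.End.eigenspace_def, hA, map_sub, Polynomial.aeval_X, Polynomial.aeval_C,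
          Algebra.algebraMap_eq_smul_one]
      have h := LinearMap.finrank_range_add_finrank_ker (B.comp (LinearMap.ker (A * B)).subtype)
      have h1 : finrank K ↥(LinearMap.range (B.comp (LinearMap.ker (A * B)).subtype)) ≤ 1 := by
        refine le_trans (Submodule.finrank_mono ?_) hAker
        rintro _ ⟨⟨v, hv⟩, rfl⟩
        exact hv
      have h2 : finrank K ↥(LinearMap.ker (B.comp (LinearMap.ker (A * B)).subtype)) ≤
          finrank K ↥(LinearMap.ker B) := by
        rw [ker_comp, ← Submodule.finrank_map_subtype_eq, Submodule.map_comap_eq]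
        exact Submodule.finrank_mono inf_le_right
      omega
  set P : Polynomial K := Polynomial.X ^ m - Polynomial.C μ with hP
  have hmon : P.Monic := Polynomial.monic_X_pow_sub_C μ hm.ne'
  have hdeg : P.natDegree = m := Polynomial.natDegree_X_pow_sub_C
  have hroots : Multiset.card P.roots = P.natDegree := IsAlgClosed.card_roots_eq_natDegree
  have h := hprod P.roots
  rw [Polynomial.prod_multiset_X_sub_C_of_monic_of_roots_card_eq hmon hroots, hroots, hdeg] at h
  refine le_trans (Submodule.finrank_mono fun v hv => ?_) h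
  rw [LinearMap.mem_ker, hP]
  simp [hS v hv]

/-- The three eigenspaces of an operator of order three fill the space. -/
theorem finrank_le_three_eigen (h3 : (3 : K) ≠ 0) {T : End K V} (hT : T ^ 3 = 1) {a : K} (ha : a ^ 3 = 1)
    (ha1 : a ≠ 1) :
    finrank K V ≤ fixDim T + finrank K ↥(Module.End.eigenspace T a) +
      finrank K ↥(Module.End.eigenspace T (a ^ 2)) := by
  have hsum : 1 + a + a ^ 2 = 0 := by
    have : (a - 1) * (1 + a + a ^ 2) = 0 := by ring_nf; linear_combination ha
    exact (mul_eq_zero.1 this).resolve_left (sub_ne_zero.2 ha1)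
  have hT3 : ∀ v, T (T (T v)) = v := fun v => by
    have := LinearMap.congr_fun hT v
    simpa [pow_succ] using this
  have htop : (⊤ : Submodule K V) ≤
      LinearMap.ker (T - 1) ⊔ Module.End.eigenspace T a ⊔ Module.End.eigenspace T (a ^ 2) := by
    intro v _
    have hcomp : v = ((3 : K)⁻¹ • (v + T v + T (T v))) + ((3 : K)⁻¹ • (v + a ^ 2 • T v + a • T (T v)))
        + ((3 : K)⁻¹ • (v + a • T v + a ^ 2 • T (T v))) := by
      rw [← smul_add, ← smul_add]
      have h : v + T v + T (T v) + (v + a ^ 2 • T v + a • T (T v)) + (v + a • T v + a ^ 2 • T (T v))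
          = (3 : K) • v + (1 + a + a ^ 2) • T v + (1 + a + a ^ 2) • T (T v) := by
        rw [show (3 : K) = 1 + 1 + 1 by norm_num]
        simp only [add_smul, one_smul]
        abel
      rw [h, hsum, zero_smul, zero_smul, add_zero, add_zero, smul_smul, inv_mul_cancel₀ h3, one_smul]
    rw [hcomp]
    refine Submodule.add_mem_sup (Submodule.add_mem_sup ?_ ?_) ?_
    all_goals refine Submodule.smul_mem _ _ ?_
    all_goals first | rw [mem_ker_sub_one] | rw [Module.End.mem_eigenspace_iff]
    all_goals simp only [map_add, map_smul, hT3, smul_add, smul_smul]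
    · abel
    · have e2 : a * a ^ 2 = 1 := by rw [← ha]; ring
      rw [e2, one_smul, ← pow_two]
      abel
    · have e1 : a ^ 2 * a = 1 := by rw [← ha]; ring
      have e4 : a ^ 2 * a ^ 2 = a := by linear_combination a * ha
      rw [e1, e4, one_smul]
      abel
  rw [← finrank_top K V]
  refine (Submodule.finrank_mono htop).trans ?_
  refine (Submodule.finrank_add_le_finrank_add_finrank _ _).trans ?_
  exact Nat.add_le_add_right (Submodule.finrank_add_le_finrank_add_finrank _ _) _

end Poly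

variable {p : ℕ} [hp : Fact p.Prime]

local notation "GLp" => GL (Fin 2) (ZMod p)

/-- `SL₂(p)` inside `GL₂(p)`. -/
def slToGL : SpecialLinearGroup (Fin 2) (ZMod p) →* GL (Fin 2) (ZMod p) :=
  SpecialLinearGroup.toGL

theorem coe_slToGL (g : SpecialLinearGroup (Fin 2) (ZMod p)) :
    ((slToGL g : GLp) : Matrix (Fin 2) (Fin 2) (ZMod p)) = (g : Matrix (Fin 2) (Fin 2) (ZMod p)) := rfl

/-- The diagonal element `diag(a, 1)`. -/
def dg (a : (ZMod p)ˣ) : GLp :=
  ⟨!![(a : ZMod p), 0; 0, 1], !![((a⁻¹ : (ZMod p)ˣ) : ZMod p), 0; 0, 1],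
    by
      have h := Units.mul_inv a
      generalize ((a⁻¹ : (ZMod p)ˣ) : ZMod p) = y at h ⊢
      generalize (a : ZMod p) = x at h ⊢
      simp [Matrix.mul_fin_two, Matrix.one_fin_two, h],
    by
      have h := Units.inv_mul a
      generalize ((a⁻¹ : (ZMod p)ˣ) : ZMod p) = y at h ⊢
      generalize (a : ZMod p) = x at h ⊢
      simp [Matrix.mul_fin_two, Matrix.one_fin_two, h]⟩

theorem det_dg (a : (ZMod p)ˣ) : Matrix.GeneralLinearGroup.det (dg a) = a := by
  ext
  rw [Matrix.GeneralLinearGroup.val_det_apply, Matrix.det_fin_two]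
  show (a : ZMod p) * 1 - 0 * 0 = (a : ZMod p)
  ring

theorem no_root (hp3 : p % 3 = 2) (r : ZMod p) : r ^ 2 + r + 1 ≠ 0 := by
  intro h
  have h3 : r ^ 3 = 1 := by linear_combination (r - 1) * h
  have hr0 : r ≠ 0 := fun h0 => by rw [h0] at h; simp at h
  have hf := ZMod.pow_card_sub_one_eq_one hr0
  obtain ⟨l, hl⟩ : ∃ l, p - 1 = 3 * l + 1 := ⟨p / 3, by omega⟩
  rw [hl, pow_succ, pow_mul, h3, one_pow, one_mul] at hf
  rw [hf] at h
  have h3' : ((3 : ℕ) : ZMod p) = 0 := by rw [← h]; norm_num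
  rw [ZMod.natCast_eq_zero_iff, Nat.prime_dvd_prime_iff_eq hp.out Nat.prime_three] at h3'
  omega

theorem comb_det_ne (hp3 : p % 3 = 2) {a b : ZMod p} (h : a ≠ 0 ∨ b ≠ 0) : a ^ 2 - a * b + b ^ 2 ≠ 0 := by
  intro h0
  by_cases hb : b = 0
  · exact h.elim (fun ha => ha (by rw [hb] at h0; simpa using h0)) (fun hb' => hb' hb)
  · refine no_root hp3 (-(a / b)) ?_
    field_simp
    linear_combination h0

/-- The element `a + b x₀`. -/
noncomputable def comb (hp3 : p % 3 = 2) (a b : ZMod p) (h : a ≠ 0 ∨ b ≠ 0) : GLp :=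
  Matrix.GeneralLinearGroup.mkOfDetNeZero !![a, -b; b, a - b] (by
    rw [Matrix.det_fin_two]
    simp only [Matrix.of_apply, Matrix.cons_val', Matrix.cons_val_zero, Matrix.cons_val_one,
      Matrix.empty_val', Matrix.cons_val_fin_one]
    intro h0
    exact comb_det_ne hp3 h (by linear_combination h0))

theorem coe_comb (hp3 : p % 3 = 2) (a b : ZMod p) (h : a ≠ 0 ∨ b ≠ 0) :
    ((comb hp3 a b h : GLp) : Matrix (Fin 2) (Fin 2) (ZMod p)) = !![a, -b; b, a - b] := rfl

/-- The torus. -/
noncomputable def torus (p : ℕ) [Fact p.Prime] : Subgroup (GL (Fin 2) (ZMod p)) :=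
  Subgroup.centralizer {slToGL (x0 p)}

theorem mem_torus_iff {g : GLp} :
    g ∈ torus p ↔ ∃ a b : ZMod p, (g : Matrix (Fin 2) (Fin 2) (ZMod p)) = !![a, -b; b, a - b] := by
  rw [torus, Subgroup.mem_centralizer_singleton_iff]
  constructor
  · intro h
    refine ⟨(g : Matrix (Fin 2) (Fin 2) (ZMod p)) 0 0, (g : Matrix (Fin 2) (Fin 2) (ZMod p)) 1 0, ?_⟩
    have h' := congrArg Units.val h
    rw [Units.val_mul, Units.val_mul, coe_slToGL] at h'
    have h00 := congrFun (congrFun h' 0) 0
    have h10 := congrFun (congrFun h' 1) 0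
    simp [x0, Matrix.mul_apply, Fin.sum_univ_two] at h00 h10
    ext i j
    fin_cases i <;> fin_cases j <;> simp
    · first | linear_combination h00 | linear_combination -h00
    · first | linear_combination h10 | linear_combination -h10
  · rintro ⟨a, b, h⟩
    refine Units.ext ?_
    rw [Units.val_mul, Units.val_mul, coe_slToGL, h]
    simp only [x0, Matrix.mul_fin_two]
    ext i j
    fin_cases i <;> fin_cases j <;> simp <;> ring

theorem comb_mem (hp3 : p % 3 = 2) (a b : ZMod p) (h : a ≠ 0 ∨ b ≠ 0) : comb hp3 a b h ∈ torus p :=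
  mem_torus_iff.2 ⟨a, b, rfl⟩

theorem torus_cyclic (hp3 : p % 3 = 2) :
    ∃ c : GLp, c ∈ torus p ∧ (∀ g ∈ torus p, ∃ i : ℕ, c ^ i = g) ∧ p ^ 2 - 1 ≤ orderOf c := by
  classical
  let L := AlgebraicClosure (ZMod p)
  obtain ⟨l, hl⟩ := IsAlgClosed.exists_root (Polynomial.X ^ 2 + Polynomial.X + 1 : Polynomial L) (by
    have : (Polynomial.X ^ 2 + Polynomial.X + 1 : Polynomial L).degree = 2 := by compute_degree!
    rw [this]
    exact two_ne_zero)
  have hl2 : l ^ 2 + l + 1 = 0 := by simpa [Polynomial.IsRoot] using hl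
  have hent : ∀ g : torus p, ((g : GLp) : Matrix (Fin 2) (Fin 2) (ZMod p)) =
      !![((g : GLp) : Matrix (Fin 2) (Fin 2) (ZMod p)) 0 0, -((g : GLp) : Matrix (Fin 2) (Fin 2) (ZMod p)) 1 0;
        ((g : GLp) : Matrix (Fin 2) (Fin 2) (ZMod p)) 1 0,
        ((g : GLp) : Matrix (Fin 2) (Fin 2) (ZMod p)) 0 0 - ((g : GLp) : Matrix (Fin 2) (Fin 2) (ZMod p)) 1 0] := fun g => by
    obtain ⟨a, b, h⟩ := mem_torus_iff.1 g.2
    rw [h]
    simp
  let φ : torus p →* L :=
    { toFun := fun g => algebraMap (ZMod p) L (((g : GLp) : Matrix (Fin 2) (Fin 2) (ZMod p)) 0 0) +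
        algebraMap (ZMod p) L (((g : GLp) : Matrix (Fin 2) (Fin 2) (ZMod p)) 1 0) * l
      map_one' := by simp
      map_mul' := fun g g' => by
        rw [Subgroup.coe_mul, Units.val_mul, hent g, hent g']
        simp [Matrix.mul_apply, Fin.sum_univ_two]
        linear_combination (-(algebraMap (ZMod p) L (((g : GLp) : Matrix (Fin 2) (Fin 2) (ZMod p)) 1 0)) *
          algebraMap (ZMod p) L (((g' : GLp) : Matrix (Fin 2) (Fin 2) (ZMod p)) 1 0)) * hl2 }
  have hφ : Function.Injective φ := by
    rw [injective_iff_map_eq_one]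
    intro g hg
    have h := hent g
    set a := ((g : GLp) : Matrix (Fin 2) (Fin 2) (ZMod p)) 0 0 with ha
    set b := ((g : GLp) : Matrix (Fin 2) (Fin 2) (ZMod p)) 1 0 with hb
    have h1 : algebraMap (ZMod p) L a + algebraMap (ZMod p) L b * l = 1 := hg
    have hb0 : b = 0 := by
      by_contra hne
      refine no_root hp3 ((1 - a) / b) ((algebraMap (ZMod p) L).injective ?_)
      have hbL : algebraMap (ZMod p) L b ≠ 0 := fun hz => hne ((algebraMap (ZMod p) L).injective (by rw [hz, map_zero]))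
      have hl' : algebraMap (ZMod p) L ((1 - a) / b) = l := by
        rw [map_div₀, map_sub, map_one, div_eq_iff hbL]
        linear_combination -h1
      simp only [map_add, map_pow, map_one, map_zero, hl']
      exact hl2
    have ha1 : a = 1 := (algebraMap (ZMod p) L).injective (by rw [hb0] at h1; simpa using h1)
    refine Subtype.ext (Units.ext ?_)
    rw [h, ha1, hb0]
    simp [Matrix.one_fin_two]
  haveI : IsCyclic (torus p) := isCyclic_of_subgroup_isDomain φ hφ
  obtain ⟨⟨c, hc⟩, hgen⟩ := IsCyclic.exists_monoid_generator (α := torus p)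
  refine ⟨c, hc, fun g hg => ?_, ?_⟩
  · obtain ⟨i, hi⟩ := hgen ⟨g, hg⟩
    exact ⟨i, by simpa using congrArg Subtype.val hi⟩
  · have hfin : IsOfFinOrder c := isOfFinOrder_of_finite c
    have hcard : Nat.card {z : ZMod p × ZMod p // z ≠ 0} ≤ Nat.card (Subgroup.zpowers c) := by
      refine Nat.card_le_card_of_injective
        (fun z => ⟨comb hp3 z.1.1 z.1.2 (by
          by_contra h
          push Not at h
          exact z.2 (Prod.ext h.1 h.2)), ?_⟩) ?_
      · obtain ⟨i, hi⟩ := hgen ⟨_, comb_mem hp3 z.1.1 z.1.2 _⟩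
        exact ⟨i, by simpa using congrArg Subtype.val hi⟩
      · rintro ⟨⟨a, b⟩, _⟩ ⟨⟨a', b'⟩, _⟩ h
        have h' := congrArg (fun g : Subgroup.zpowers c => ((g : GLp) : Matrix (Fin 2) (Fin 2) (ZMod p))) h
        simp only [coe_comb] at h'
        have e1 := congrFun (congrFun h' 0) 0
        have e2 := congrFun (congrFun h' 1) 0
        simp at e1 e2
        subst e1 e2
        rfl
    rw [Nat.card_zpowers] at hcard
    refine le_trans (le_of_eq ?_) hcard
    rw [Nat.card_eq_fintype_card, Fintype.card_subtype_compl, Fintype.card_subtype_eq, Fintype.card_prod,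
      ZMod.card, pow_two]

theorem torus_norm {g : GLp} (hp3 : p % 3 = 2) (hg : g ∈ torus p) :
    ∃ s : ZMod p, ((g ^ (p + 1) : GLp) : Matrix (Fin 2) (Fin 2) (ZMod p)) = s • 1 := by
  obtain ⟨a, b, h⟩ := mem_torus_iff.1 hg
  refine ⟨a ^ 2 - a * b + b ^ 2, ?_⟩
  haveI : CharP (Matrix (Fin 2) (Fin 2) (ZMod p)) p :=
    charP_of_injective_algebraMap (algebraMap (ZMod p) (Matrix (Fin 2) (Fin 2) (ZMod p))).injective p
  set X : Matrix (Fin 2) (Fin 2) (ZMod p) := !![0, -1; 1, -1] with hX
  have hgX : (g : Matrix (Fin 2) (Fin 2) (ZMod p)) = a • 1 + b • X := by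
    rw [h, hX]
    ext i j
    fin_cases i <;> fin_cases j <;> simp
    ring
  have hX3 : X ^ 3 = 1 := by simp [hX, pow_succ, Matrix.mul_fin_two, Matrix.one_fin_two]
  have hXp : X ^ p = X ^ 2 := by
    obtain ⟨l, hl⟩ : ∃ l, p = 3 * l + 2 := ⟨p / 3, by omega⟩
    calc X ^ p = X ^ (3 * l + 2) := congrArg (X ^ ·) hl
      _ = X ^ 2 := by rw [pow_add, pow_mul, hX3, one_pow, one_mul]
  rw [Units.val_pow_eq_pow_val, pow_succ, hgX,
    add_pow_char_of_commute (R := Matrix (Fin 2) (Fin 2) (ZMod p)) (p := p) (((Commute.one_left _).smul_left _).smul_right _),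
    smul_pow, smul_pow, ZMod.pow_card, ZMod.pow_card, one_pow, hXp, hX, pow_two, Matrix.mul_fin_two]
  ext i j
  fin_cases i <;> fin_cases j <;> simp [Matrix.mul_apply, Fin.sum_univ_two] <;> ring

/-- The anti-automorphism fixing the torus. -/
noncomputable def gkSigma (g : GLp) : GLp :=
  let S : GLp := ⟨!![0, 1; 1, 1], !![-1, 1; 1, 0],
    by simp [Matrix.mul_fin_two, Matrix.one_fin_two], by simp [Matrix.mul_fin_two, Matrix.one_fin_two]⟩
  S * ⟨(g : Matrix (Fin 2) (Fin 2) (ZMod p))ᵀ, ((g⁻¹ : GLp) : Matrix (Fin 2) (Fin 2) (ZMod p))ᵀ,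
    by rw [← Matrix.transpose_mul, ← Units.val_mul, inv_mul_cancel, Units.val_one, Matrix.transpose_one],
    by rw [← Matrix.transpose_mul, ← Units.val_mul, mul_inv_cancel, Units.val_one, Matrix.transpose_one]⟩ * S⁻¹

theorem coe_gkSigma (g : GLp) : ((gkSigma g : GLp) : Matrix (Fin 2) (Fin 2) (ZMod p)) =
    !![0, 1; 1, 1] * (g : Matrix (Fin 2) (Fin 2) (ZMod p))ᵀ * !![-1, 1; 1, 0] := rfl

theorem gkSigma_mul (a b : GLp) : gkSigma (a * b) = gkSigma b * gkSigma a := by
  refine Units.ext ?_
  rw [Units.val_mul, coe_gkSigma, coe_gkSigma, coe_gkSigma, Units.val_mul, Matrix.transpose_mul]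
  have h : (!![-1, 1; 1, 0] : Matrix (Fin 2) (Fin 2) (ZMod p)) * !![0, 1; 1, 1] = 1 := by
    simp [Matrix.mul_fin_two, Matrix.one_fin_two]
  simp only [Matrix.mul_assoc]
  rw [← Matrix.mul_assoc (!![-1, 1; 1, 0]) (!![0, 1; 1, 1]), h, Matrix.one_mul]

theorem gkSigma_injective : Function.Injective (gkSigma (p := p)) := by
  intro a b h
  simp only [gkSigma, mul_right_inj, mul_left_inj] at h
  refine Units.ext (Matrix.transpose_injective ?_)
  exact congrArg Units.val h

theorem gkSigma_conj (hp3 : p % 3 = 2) (g : GLp) : ∃ c ∈ torus p, gkSigma g * c = c * g := by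
  set a := (g : Matrix (Fin 2) (Fin 2) (ZMod p)) 0 0 with ha
  set b := (g : Matrix (Fin 2) (Fin 2) (ZMod p)) 0 1 with hb
  set c := (g : Matrix (Fin 2) (Fin 2) (ZMod p)) 1 0 with hc
  set d := (g : Matrix (Fin 2) (Fin 2) (ZMod p)) 1 1 with hd
  have hg : (g : Matrix (Fin 2) (Fin 2) (ZMod p)) = !![a, b; c, d] := Matrix.eta_fin_two _
  by_cases h : b + c ≠ 0 ∨ a + b - d ≠ 0
  · refine ⟨_, comb_mem hp3 (b + c) (a + b - d) h, Units.ext ?_⟩
    rw [Units.val_mul, Units.val_mul, coe_gkSigma, coe_comb, hg]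
    ext i j
    fin_cases i <;> fin_cases j <;> simp [Matrix.mul_apply, Fin.sum_univ_two, Matrix.transpose_apply, Matrix.vecMul, dotProduct] <;> ring
  · push Not at h
    refine ⟨1, one_mem _, Units.ext ?_⟩
    rw [mul_one, one_mul, coe_gkSigma, hg, eq_neg_of_add_eq_zero_right h.1,
      show d = a + b by linear_combination -h.2]
    ext i j
    fin_cases i <;> fin_cases j <;> simp [Matrix.mul_apply, Fin.sum_univ_two, Matrix.transpose_apply, Matrix.vecMul, dotProduct]

variable {K : Type w} [Field K] [IsAlgClosed K]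

/-- The bound for an irreducible representation of `GL₂(p)`. -/
theorem gl_irreducible_bound (hp3 : p % 3 = 2) (hp11 : 11 ≤ p) (hpK : (p : K) ≠ 0) (h3 : (3 : K) ≠ 0)
    {V : Type v} [AddCommGroup V] [Module K V] [FiniteDimensional K V] (ρ : Representation K GLp V)
    (hρ : Irr ρ) : finrank K V ≤ 5 * fixDim (ρ (slToGL (x0 p))) := by
  classical
  set x := slToGL (x0 p) with hx
  haveI : NeZero p := ⟨hp.out.ne_zero⟩
  let ψ : Multiplicative (ZMod p) →* GLp :=
    { toFun := fun a => slToGL (u0 p ^ (Multiplicative.toAdd a).val)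
      map_one' := by simp
      map_mul' := fun a b => by
        rw [← map_mul, ← pow_add, toAdd_mul, ZMod.val_add,
          ← pow_eq_pow_mod _ (by simpa [orderOf_u0] using pow_orderOf_eq_one (u0 p))] }
  have hψdg : ∀ (r : (ZMod p)ˣ) (a : ZMod p),
      ψ (Multiplicative.ofAdd a) * dg r = dg r * ψ (Multiplicative.ofAdd ((r⁻¹ : (ZMod p)ˣ) * a)) := by
    intro r a
    refine Units.ext ?_
    rw [Units.val_mul, Units.val_mul]
    show (slToGL (u0 p ^ a.val) : GLp).1 * _ = _ * (slToGL (u0 p ^ (((r⁻¹ : (ZMod p)ˣ) : ZMod p) * a).val) : GLp).1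
    rw [coe_slToGL, coe_slToGL, coe_u0_pow, coe_u0_pow, ZMod.natCast_zmod_val, ZMod.natCast_zmod_val]
    have hr : (r : ZMod p) * ((r⁻¹ : (ZMod p)ˣ) : ZMod p) = 1 := Units.mul_inv r
    simp only [dg, Matrix.mul_fin_two]
    generalize ((r⁻¹ : (ZMod p)ˣ) : ZMod p) = y at hr ⊢
    ext i j
    fin_cases i <;> fin_cases j <;> simp [← mul_assoc, hr]
  have hcard : (Nat.card (Multiplicative (ZMod p)) : K) ≠ 0 := by
    rwa [Nat.card_congr Multiplicative.toAdd, Nat.card_zmod]
  by_cases hu : ∀ χ : Multiplicative (ZMod p) →* K, weight (ρ.comp ψ) χ ≠ ⊥ → χ = 1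
  · -- the unipotent elements act trivially
    have hψ1 : ∀ a, ρ (ψ a) = 1 := fun a => by
      refine LinearMap.ext fun v => ?_
      have htop : (⊤ : Submodule K V) ≤ LinearMap.ker (ρ (ψ a) - 1) := by
        rw [← iSup_weight (fun i j => mul_comm i j) hcard (ρ.comp ψ)]
        refine iSup_le fun χ => ?_
        by_cases h : weight (ρ.comp ψ) χ = ⊥
        · simp [h]
        · intro w hw
          have h1 : ρ (ψ a) w = χ a • w := mem_weight.1 hw a
          rw [hu χ h, MonoidHom.one_apply, one_smul] at h1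
          exact mem_ker_sub_one.2 h1
      exact mem_ker_sub_one.1 (htop Submodule.mem_top)
    set M : Subgroup (SpecialLinearGroup (Fin 2) (ZMod p)) := (ρ.comp slToGL).ker with hM
    haveI : M.Normal := MonoidHom.normal_ker _
    have hu0 : u0 p ∈ M := by
      have h := hψ1 (Multiplicative.ofAdd 1)
      rw [hM, MonoidHom.mem_ker]
      show ρ (slToGL (u0 p)) = 1
      simpa [ψ, ZMod.val_one'', hp.out.ne_one] using h
    have hMtop : M = ⊤ := by
      refine Cfsg.Lib.SLTwoSub.closure_transvections M (fun g hg => ?_) (fun g hg => ?_)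
      · rw [show g = u0 p from Subtype.ext hg]; exact hu0
      · have : g = x0 p * (u0 p)⁻¹ * (x0 p)⁻¹ := by
          rw [eq_mul_inv_iff_mul_eq, eq_mul_inv_iff_mul_eq]
          refine Subtype.ext ?_
          show (g : Matrix (Fin 2) (Fin 2) (ZMod p)) * (x0 p).1 * (u0 p).1 = (x0 p).1
          rw [hg]
          simp only [x0, u0, Matrix.mul_fin_two]
          ext i j
          fin_cases i <;> fin_cases j <;> simp
        rw [this]
        exact Subgroup.Normal.conj_mem ‹M.Normal› _ (inv_mem hu0) _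
    have hx1 : ρ x = 1 := by
      have : x0 p ∈ M := hMtop ▸ Subgroup.mem_top _
      exact MonoidHom.mem_ker.1 this
    rw [hx1, fixDim_one]
    omega
  · push Not at hu
    obtain ⟨χ, hχ, hχ1⟩ := hu
    obtain ⟨v, hv, hv0⟩ := Submodule.exists_mem_ne_zero_of_ne_bot hχ
    set ζ := χ (Multiplicative.ofAdd 1) with hζ
    have hχpow : ∀ a : ZMod p, χ (Multiplicative.ofAdd a) = ζ ^ a.val := fun a => by
      rw [hζ, ← map_pow, ← ofAdd_nsmul, nsmul_eq_mul, mul_one, ZMod.natCast_zmod_val]
    have hζ1 : ζ ≠ 1 := fun h => hχ1 (MonoidHom.ext fun a => by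
      show χ (Multiplicative.ofAdd (Multiplicative.toAdd a)) = 1
      rw [hχpow, h, one_pow])
    have hζp : ζ ^ p = 1 := by
      rw [hζ, ← map_pow, ← ofAdd_nsmul, nsmul_eq_mul, mul_one, ZMod.natCast_self, ofAdd_zero, map_one]
    have hord : orderOf ζ = p := orderOf_eq_prime hζp hζ1
    have hev : ∀ r : (ZMod p)ˣ,
        Module.End.HasEigenvector (ρ (ψ (Multiplicative.ofAdd 1))) (ζ ^ (r : ZMod p).val) (ρ (dg r⁻¹) v) := by
      intro r
      refine ⟨Module.End.mem_eigenspace_iff.2 ?_, fun h => hv0 ?_⟩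
      · rw [← Module.End.mul_apply, ← map_mul, hψdg, inv_inv, mul_one, map_mul, Module.End.mul_apply]
        have h1 : ρ (ψ (Multiplicative.ofAdd (r : ZMod p))) v = χ (Multiplicative.ofAdd (r : ZMod p)) • v :=
          mem_weight.1 hv _
        rw [h1, map_smul, hχpow]
      · have h' := congrArg (ρ (dg r⁻¹)⁻¹) h
        rwa [map_zero, ← Module.End.mul_apply, ← map_mul, inv_mul_cancel, map_one, Module.End.one_apply] at h'
    have hinj : Function.Injective fun r : (ZMod p)ˣ => ζ ^ (r : ZMod p).val := fun r r' h => by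
      simp only at h
      have hz : IsPrimitiveRoot ζ p := IsPrimitiveRoot.iff_orderOf.2 hord
      exact Units.ext (ZMod.val_injective p (hz.pow_inj (ZMod.val_lt _) (ZMod.val_lt _) h))
    have hn : p - 1 ≤ finrank K V := by
      rw [← ZMod.card_units p]
      exact (Module.End.eigenvectors_linearIndependent' _ _ hinj _ hev).fintype_card_le_finrank
    obtain ⟨c, hc, hgen, hord'⟩ := torus_cyclic (p := p) hp3
    obtain ⟨i, hi⟩ := hgen x (Subgroup.mem_centralizer_singleton_iff.2 rfl)
    have hxc3 : x ^ 3 = 1 := by rw [hx, ← map_pow, x0_cube, map_one]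
    have hx1 : x ≠ 1 := fun h => x0_ne_one (p := p) (Subtype.ext (by
      rw [← coe_slToGL, ← hx, h, Units.val_one]; rfl))
    obtain ⟨s, hs⟩ := torus_norm hp3 hc
    have hscal : ∃ μ : K, ∀ w, ρ (c ^ (p + 1)) w = μ • w := hρ.schur _ fun g => by
      refine (Commute.map ?_ ρ)
      refine Units.ext ?_
      rw [Units.val_mul, Units.val_mul, hs, smul_mul_assoc, one_mul, mul_smul_comm, mul_one]
    obtain ⟨μ, hμ⟩ := hscal
    have hs0 : s ≠ 0 := fun h => by
      rw [h, zero_smul] at hs
      exact (c ^ (p + 1)).ne_zero hs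
    have hord2 : orderOf c ∣ (p + 1) * (p - 1) := by
      refine orderOf_dvd_of_pow_eq_one ?_
      refine Units.ext ?_
      rw [pow_mul, Units.val_pow_eq_pow_val, hs, smul_pow, one_pow, ZMod.pow_card_sub_one_eq_one hs0,
        one_smul, Units.val_one]
    have hsq : (p + 1) * (p - 1) = p ^ 2 - 1 := by rw [← Nat.sq_sub_sq p 1, one_pow]
    have hordeq : orderOf c = (p + 1) * (p - 1) := by
      have := Nat.le_of_dvd (Nat.mul_pos (by omega) (by omega)) hord2
      omega
    obtain ⟨m, hm⟩ : ∃ m, p + 1 = 3 * m := ⟨(p + 1) / 3, by omega⟩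
    obtain ⟨l, hl⟩ : ∃ l, p - 1 = 3 * l + 1 := ⟨p / 3, by omega⟩
    obtain ⟨j, hj⟩ : m * (p - 1) ∣ i := by
      have h : orderOf c ∣ i * 3 := orderOf_dvd_of_pow_eq_one (by rw [pow_mul, hi, hxc3])
      rw [hordeq, hm, mul_assoc, mul_comm 3] at h
      exact Nat.dvd_of_mul_dvd_mul_right (by norm_num) h
    have hj3 : j % 3 ≠ 0 := by
      intro h
      apply hx1
      rw [← hi, hj, show j = 3 * (j / 3) by omega, ← mul_assoc,
        show m * (p - 1) * 3 = orderOf c by rw [hordeq, hm]; ring, pow_mul, pow_orderOf_eq_one, one_pow]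
    have hd3 : ρ c ^ (3 * m) = ρ (c ^ (p + 1)) := by rw [← hm, map_pow]
    have hμpow : ∀ (b : ℕ) (v : V), ((ρ c ^ (3 * m)) ^ b) v = μ ^ b • v := fun b v =>
      pow_apply_eigen (by rw [hd3]; exact hμ v) b
    have hbound : ∀ a : K, a ^ 3 = 1 → finrank K ↥(Module.End.eigenspace (ρ x) a) ≤ m := by
      intro a ha
      have hμ0 : μ ≠ 0 := fun h => by
        have h1 := hμ v
        rw [h, zero_smul] at h1
        have h2 := congrArg (ρ (c ^ (p + 1))⁻¹) h1
        rw [← Module.End.mul_apply, ← map_mul, inv_mul_cancel, map_one, Module.End.one_apply, map_zero] at h2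
        exact hv0 h2
      have hpd : ∀ v ∈ Module.End.eigenspace (ρ x) a, μ ^ (l * j) • ((ρ c ^ m) ^ j) v = a • v := fun v hv => by
        rw [← Module.End.mem_eigenspace_iff.1 hv, ← hi, hj, map_pow, hl]
        rw [show ρ c ^ (m * (3 * l + 1) * j) = (ρ c ^ (3 * m)) ^ (l * j) * (ρ c ^ m) ^ j by
          rw [← pow_mul, ← pow_mul, ← pow_add]; congr 1; ring, Module.End.mul_apply, hμpow]
      have hdj : ∀ v ∈ Module.End.eigenspace (ρ x) a, ((ρ c ^ m) ^ j) v = ((μ ^ (l * j))⁻¹ * a) • v :=
        fun v hv => by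
        rw [mul_smul, ← hpd v hv, smul_smul, inv_mul_cancel₀ (pow_ne_zero _ hμ0), one_smul]
      set e := (μ ^ (l * j))⁻¹ * a with he
      have hgk : ∀ r, finrank K ↥(Module.End.eigenspace (ρ c) r) ≤ 1 := fun r =>
        gelfand_kazhdan hρ gkSigma gkSigma_mul gkSigma_injective c (fun g => by
          obtain ⟨cg, hcg, hcg'⟩ := gkSigma_conj hp3 g
          obtain ⟨i', hi'⟩ := hgen cg hcg
          exact ⟨i', by rw [hi']; exact hcg'⟩) r
      have key : ∀ q b : ℕ, j * q = 3 * b + 1 → ∀ v ∈ Module.End.eigenspace (ρ x) a,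
          (ρ c ^ m) v = (μ ^ b)⁻¹ • e ^ q • v := by
        intro q b hqb v hv
        have h1 : (((ρ c ^ m) ^ j) ^ q) v = e ^ q • v := pow_apply_eigen (hdj v hv) q
        have h2 : ((ρ c ^ m) ^ j) ^ q = (ρ c ^ (3 * m)) ^ b * ρ c ^ m := by
          rw [← pow_mul, hqb, ← pow_mul, ← pow_mul, ← pow_add]; congr 1; ring
        rw [h2, Module.End.mul_apply, hμpow] at h1
        rw [← h1, smul_smul, inv_mul_cancel₀ (pow_ne_zero _ hμ0), one_smul]
      rcases (show j % 3 = 1 ∨ j % 3 = 2 by omega) with h | h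
      · refine finrank_le_of_pow_scalar hgk _ (by omega) (μ := (μ ^ (j / 3))⁻¹ * e ^ 1) fun v hv => ?_
        rw [mul_smul]
        exact key 1 (j / 3) (by omega) v hv
      · refine finrank_le_of_pow_scalar hgk _ (by omega) (μ := (μ ^ (2 * (j / 3) + 1))⁻¹ * e ^ 2) fun v hv => ?_
        rw [mul_smul]
        exact key 2 (2 * (j / 3) + 1) (by omega) v hv
    obtain ⟨a, ha⟩ := IsAlgClosed.exists_root (Polynomial.X ^ 2 + Polynomial.X + 1 : Polynomial K) (by
      have : (Polynomial.X ^ 2 + Polynomial.X + 1 : Polynomial K).degree = 2 := by compute_degree!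
      rw [this]
      exact two_ne_zero)
    have ha' : a ^ 2 + a + 1 = 0 := by simpa [Polynomial.IsRoot] using ha
    have ha3 : a ^ 3 = 1 := by linear_combination (a - 1) * ha'
    have ha1 : a ≠ 1 := fun h => h3 (by rw [h] at ha'; norm_num at ha'; exact ha')
    have hxT : ρ x ^ 3 = 1 := by rw [← map_pow, hxc3, map_one]
    have hsum := finrank_le_three_eigen h3 hxT ha3 ha1
    have hb1 := hbound a ha3
    have hb2 := hbound (a ^ 2) (by rw [← pow_mul, mul_comm, pow_mul, ha3, one_pow])
    omega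

/-- In cross characteristic the element of order three fixes a fifth of every representation of
`GL₂(p)`. -/
theorem gl_bound (hp3 : p % 3 = 2) (hp11 : 11 ≤ p) (hpK : (p : K) ≠ 0) (h3 : (3 : K) ≠ 0)
    (V : Type v) [AddCommGroup V] [Module K V] [FiniteDimensional K V] (ρ : Representation K GLp V) :
    finrank K V ≤ 5 * fixDim (ρ (slToGL (x0 p))) := by
  refine rep_induction (motive := fun W _ _ _ τ => finrank K W ≤ 5 * fixDim (τ (slToGL (x0 p))))
    (fun W _ _ _ τ h => by haveI := h; simp [finrank_zero_of_subsingleton])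
    (fun W _ _ _ τ h => gl_irreducible_bound hp3 hp11 hpK h3 τ h) (fun W _ _ _ τ q hq h1 h2 => ?_) V ρ
  have hq3 : (τ (slToGL (x0 p))) ^ 3 = 1 := by rw [← map_pow, ← map_pow, x0_cube, map_one, map_one]
  have h := fixDim_quot (k := 3) (by exact_mod_cast h3) hq3 q (hq _)
  have h' := q.finrank_quotient_add_finrank
  change finrank K q ≤ 5 * fixDim ((τ (slToGL (x0 p))).restrict (hq _)) at h1
  change finrank K (W ⧸ q) ≤ 5 * fixDim (q.mapQ q (τ (slToGL (x0 p))) (hq _)) at h2
  omega

/-- The element `δ_d g δ_{d det g}⁻¹` of `SL₂(p)`. -/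
noncomputable def toSL (d : (ZMod p)ˣ) (g : GLp) : SpecialLinearGroup (Fin 2) (ZMod p) :=
  ⟨((dg d * g * (dg (d * Matrix.GeneralLinearGroup.det g))⁻¹ : GLp) : Matrix (Fin 2) (Fin 2) (ZMod p)), by
    have h : Matrix.GeneralLinearGroup.det (dg d * g * (dg (d * Matrix.GeneralLinearGroup.det g))⁻¹) = 1 := by
      rw [map_mul, map_mul, map_inv, det_dg, det_dg, mul_inv_cancel]
    exact congrArg Units.val h⟩

theorem slToGL_toSL (d : (ZMod p)ˣ) (g : GLp) :
    slToGL (toSL d g) = dg d * g * (dg (d * Matrix.GeneralLinearGroup.det g))⁻¹ := Units.ext rfl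

theorem slToGL_injective : Function.Injective (slToGL (p := p)) := fun a b h =>
  Subtype.ext (congrArg Units.val h)

theorem toSL_mul (d : (ZMod p)ˣ) (g h : GLp) :
    toSL d (g * h) = toSL d g * toSL (d * Matrix.GeneralLinearGroup.det g) h := by
  refine slToGL_injective ?_
  rw [map_mul, slToGL_toSL, slToGL_toSL, slToGL_toSL, map_mul, mul_assoc d]
  group

theorem toSL_one (d : (ZMod p)ˣ) : toSL d (1 : GLp) = 1 := by
  refine slToGL_injective ?_
  rw [map_one, slToGL_toSL, map_one, mul_one, mul_one, mul_inv_cancel]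

/-- In cross characteristic the element of order three fixes a fifth of every representation of
`SL₂(p)`. -/
theorem sl_cross_bound (hp3 : p % 3 = 2) (hp11 : 11 ≤ p) (hpK : (p : K) ≠ 0) (h3 : (3 : K) ≠ 0)
    {W : Type v} [AddCommGroup W] [Module K W] [FiniteDimensional K W]
    (τ : Representation K (SpecialLinearGroup (Fin 2) (ZMod p)) W) :
    finrank K W ≤ 5 * fixDim (τ (x0 p)) := by
  classical
  haveI : NeZero p := ⟨hp.out.ne_zero⟩
  let ρ : Representation K GLp ((ZMod p)ˣ → W) :=
    { toFun := fun g => LinearMap.pi fun d =>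
        (τ (toSL d g)).comp (LinearMap.proj (d * Matrix.GeneralLinearGroup.det g))
      map_one' := by
        refine LinearMap.ext fun f => funext fun d => ?_
        simp [toSL_one, map_one]
      map_mul' := fun g h => by
        refine LinearMap.ext fun f => funext fun d => ?_
        simp [toSL_mul, map_mul, mul_assoc] }
  have hdet : Matrix.GeneralLinearGroup.det (slToGL (x0 p)) = 1 := by
    ext
    simp [coe_slToGL]
  have hconj : ∀ d : (ZMod p)ˣ, ∃ m, toSL d (slToGL (x0 p)) = m * x0 p * m⁻¹ := by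
    intro d
    obtain ⟨f, g, hfg⟩ := ZMod.sq_add_sq p (4 * (3 : ZMod p)⁻¹ * (d : ZMod p) / 4)
    obtain ⟨a, b, hab⟩ : ∃ a b : ZMod p, a ^ 2 - a * b + b ^ 2 = (d : ZMod p) := by
      obtain ⟨a, b, h⟩ := FiniteField.exists_root_sum_quadratic
        (R := ZMod p) (f := Polynomial.X ^ 2) (g := Polynomial.C 3 * Polynomial.X ^ 2 - Polynomial.C (d : ZMod p))
        (by simp) (by
          have h3p : (3 : ZMod p) ≠ 0 := by
            intro h
            have h' : ((3 : ℕ) : ZMod p) = 0 := by exact_mod_cast h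
            rw [ZMod.natCast_eq_zero_iff, Nat.prime_dvd_prime_iff_eq hp.out Nat.prime_three] at h'
            omega
          compute_degree!)
        (by rw [ZMod.card]; exact Nat.odd_iff.1 (hp.out.odd_of_ne_two (by omega)))
      simp at h
      exact ⟨a + b, 2 * b, by linear_combination h⟩
    have hne : a ≠ 0 ∨ b ≠ 0 := by
      by_contra hc
      push Not at hc
      rw [hc.1, hc.2] at hab
      exact d.ne_zero (by simpa using hab.symm)
    set c := comb hp3 a b hne with hc
    have hdc : Matrix.GeneralLinearGroup.det c = d := by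
      ext
      simp [hc, coe_comb, Matrix.det_fin_two]
      linear_combination hab
    have hdm : Matrix.GeneralLinearGroup.det (dg d * c⁻¹) = 1 := by
      rw [map_mul, map_inv, det_dg, hdc, mul_inv_cancel]
    let m : SpecialLinearGroup (Fin 2) (ZMod p) :=
      ⟨((dg d * c⁻¹ : GLp) : Matrix (Fin 2) (Fin 2) (ZMod p)), congrArg Units.val hdm⟩
    have hm : slToGL m = dg d * c⁻¹ := Units.ext rfl
    refine ⟨m, slToGL_injective ?_⟩
    have hcx : c⁻¹ * slToGL (x0 p) * c = slToGL (x0 p) := by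
      rw [mul_assoc, ← Subgroup.mem_centralizer_singleton_iff.1 (comb_mem hp3 a b hne : c ∈ torus p),
        inv_mul_cancel_left]
    rw [map_mul, map_mul, map_inv, slToGL_toSL, hdet, mul_one, hm, _root_.mul_inv_rev, inv_inv]
    calc dg d * slToGL (x0 p) * (dg d)⁻¹ = dg d * (c⁻¹ * slToGL (x0 p) * c) * (dg d)⁻¹ := by rw [hcx]
      _ = _ := by group
  -- the fixed space of `x₀` on the coinduced space
  have hfix : fixDim (ρ (slToGL (x0 p))) = Fintype.card (ZMod p)ˣ * fixDim (τ (x0 p)) := by
    have e : LinearMap.ker (ρ (slToGL (x0 p)) - 1) =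
        Submodule.pi Set.univ fun d => LinearMap.ker (τ (toSL d (slToGL (x0 p))) - 1) := by
      ext f
      simp only [mem_ker_sub_one, Submodule.mem_pi, Set.mem_univ, forall_true_left]
      constructor
      · intro h d
        have h1 := congrFun h d
        simp only [ρ, MonoidHom.coe_mk, OneHom.coe_mk, LinearMap.pi_apply, LinearMap.comp_apply,
          LinearMap.proj_apply, hdet, mul_one] at h1
        exact h1
      · intro h
        funext d
        simp only [ρ, MonoidHom.coe_mk, OneHom.coe_mk, LinearMap.pi_apply, LinearMap.comp_apply,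
          LinearMap.proj_apply, hdet, mul_one]
        exact h d
    let eqv : ↥(Submodule.pi Set.univ fun d => LinearMap.ker (τ (toSL d (slToGL (x0 p))) - 1)) ≃ₗ[K]
        ((d : (ZMod p)ˣ) → ↥(LinearMap.ker (τ (toSL d (slToGL (x0 p))) - 1))) :=
      { toFun := fun f d => ⟨f.1 d, f.2 d (Set.mem_univ d)⟩
        invFun := fun f => ⟨fun d => f d, fun d _ => (f d).2⟩
        map_add' := fun _ _ => rfl
        map_smul' := fun _ _ => rfl
        left_inv := fun _ => rfl
        right_inv := fun _ => rfl }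
    rw [fixDim, e, eqv.finrank_eq, Module.finrank_pi_fintype]
    have hd : ∀ d, finrank K ↥(LinearMap.ker (τ (toSL d (slToGL (x0 p))) - 1)) = fixDim (τ (x0 p)) := by
      intro d
      obtain ⟨m, hm⟩ := hconj d
      have hinv : ∀ w, τ m⁻¹ (τ m w) = w := fun w => by
        rw [← Module.End.mul_apply, ← map_mul, inv_mul_cancel, map_one, Module.End.one_apply]
      have hinv' : ∀ w, τ m (τ m⁻¹ w) = w := fun w => by
        rw [← Module.End.mul_apply, ← map_mul, mul_inv_cancel, map_one, Module.End.one_apply]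
      let em : W ≃ₗ[K] W := LinearEquiv.ofLinearMap (τ m) (τ m⁻¹) (LinearMap.ext hinv') (LinearMap.ext hinv)
      rw [fixDim, hm, ← LinearEquiv.finrank_map_eq em (LinearMap.ker (τ (x0 p) - 1))]
      suffices hset : LinearMap.ker (τ (m * x0 p * m⁻¹) - 1) =
          Submodule.map (em : W →ₗ[K] W) (LinearMap.ker (τ (x0 p) - 1)) by rw [hset]
      ext w
      rw [mem_ker_sub_one, map_mul, map_mul, Module.End.mul_apply, Module.End.mul_apply]
      constructor
      · intro h
        refine ⟨τ m⁻¹ w, mem_ker_sub_one.2 ?_, hinv' w⟩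
        conv_rhs => rw [← h, hinv]
      · rintro ⟨z, hz, rfl⟩
        show τ m (τ (x0 p) (τ m⁻¹ (τ m z))) = τ m z
        rw [hinv, mem_ker_sub_one.1 hz]
    rw [Finset.sum_congr rfl fun d _ => hd d, Finset.sum_const, Finset.card_univ, smul_eq_mul]
  have h := gl_bound hp3 hp11 hpK h3 _ ρ
  rw [hfix, Module.finrank_pi_fintype, Finset.sum_const, Finset.card_univ, smul_eq_mul, Nat.mul_left_comm] at h
  exact Nat.le_of_mul_le_mul_left h Fintype.card_pos

end Cfsg.Lib.FixSixth
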