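import Cfsg.Agent.FixSixth.Counts

/-!
# The defining characteristic
-/

set_option autoImplicit false

namespace Cfsg.Lib.FixSixth

open Module LinearMap Matrix

universe u v w

section General

variable {K : Type w} [Field K] {V : Type v} [AddCommGroup V] [Module K V] [FiniteDimensional K V]

/-- Intersections of eigenspaces with a kernel are subadditive along an invariant subspace. -/
theorem inf_ker_le (A : End K V) (T : End K V) (l : K) (p : Submodule K V) (hT : p ≤ p.comap T)
    (hA : p ≤ p.comap A) :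
    finrank K ↥(Module.End.eigenspace T l ⊓ LinearMap.ker A) ≤
      finrank K ↥(Module.End.eigenspace (T.restrict hT : End K p) l ⊓ LinearMap.ker (A.restrict hA)) +
        finrank K ↥(Module.End.eigenspace (p.mapQ p T hT) l ⊓ LinearMap.ker (p.mapQ p A hA)) := by
  set X := Module.End.eigenspace T l ⊓ LinearMap.ker A with hX
  have h := LinearMap.finrank_range_add_finrank_ker (p.mkQ.comp X.subtype)
  have h1 : finrank K ↥(LinearMap.range (p.mkQ.comp X.subtype)) ≤
      finrank K ↥(Module.End.eigenspace (p.mapQ p T hT) l ⊓ LinearMap.ker (p.mapQ p A hA)) := by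
    refine Submodule.finrank_mono ?_
    rintro _ ⟨⟨x, hx1, hx2⟩, rfl⟩
    refine ⟨Module.End.mem_eigenspace_iff.2 ?_, ?_⟩
    · show p.mapQ p T hT (p.mkQ x) = l • p.mkQ x
      rw [Submodule.mkQ_apply, Submodule.mapQ_apply, Module.End.mem_eigenspace_iff.1 hx1]
      rfl
    · show p.mapQ p A hA (p.mkQ x) = 0
      rw [Submodule.mkQ_apply, Submodule.mapQ_apply, LinearMap.mem_ker.1 hx2]
      rfl
  have h2 : finrank K ↥(LinearMap.ker (p.mkQ.comp X.subtype)) ≤
      finrank K ↥(Module.End.eigenspace (T.restrict hT : End K p) l ⊓ LinearMap.ker (A.restrict hA)) := by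
    have hmem : ∀ z : ↥(LinearMap.ker (p.mkQ.comp X.subtype)), ((z.1 : X) : V) ∈ p := fun z => by
      have := z.2
      rwa [LinearMap.mem_ker, LinearMap.comp_apply, Submodule.subtype_apply, Submodule.mkQ_apply,
        Submodule.Quotient.mk_eq_zero] at this
    refine LinearMap.finrank_le_finrank_of_injective
      (f := { toFun := fun z => ⟨⟨((z.1 : X) : V), hmem z⟩,
                ⟨Module.End.mem_eigenspace_iff.2 (Subtype.ext (Module.End.mem_eigenspace_iff.1 z.1.2.1)),
                  Subtype.ext (LinearMap.mem_ker.1 z.1.2.2)⟩⟩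
              map_add' := fun _ _ => rfl
              map_smul' := fun _ _ => rfl }) ?_
    intro z z' hz
    refine Subtype.ext (Subtype.ext ?_)
    exact congrArg (fun q => ((q.1 : p) : V)) hz
  omega

/-- The dimension of an image inside an eigenspace is superadditive. -/
theorem map_super (A : End K V) (T : End K V) {k : ℕ} (hk : (k : K) ≠ 0) (hTk : T ^ k = 1) {l : K}
    (hl : l ^ k = 1) (p : Submodule K V) (hT : p ≤ p.comap T) (hA : p ≤ p.comap A) :
    finrank K ↥((Module.End.eigenspace (T.restrict hT : End K p) l).map (A.restrict hA)) +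
        finrank K ↥((Module.End.eigenspace (p.mapQ p T hT) l).map (p.mapQ p A hA)) ≤
      finrank K ↥((Module.End.eigenspace T l).map A) := by
  set E := Module.End.eigenspace T l with hE
  have hEq : E.map p.mkQ = Module.End.eigenspace (p.mapQ p T hT) l := by
    refine Submodule.eq_of_le_of_finrank_le ?_ ?_
    · rintro _ ⟨x, hx, rfl⟩
      refine Module.End.mem_eigenspace_iff.2 ?_
      rw [Submodule.mkQ_apply, Submodule.mapQ_apply, Module.End.mem_eigenspace_iff.1 hx]
      rfl
    · have hw := wt_quot hk hTk hl p hT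
      have h := LinearMap.finrank_range_add_finrank_ker (p.mkQ.comp E.subtype)
      rw [LinearMap.range_comp, Submodule.range_subtype] at h
      have h2 : finrank K ↥(LinearMap.ker (p.mkQ.comp E.subtype)) ≤
          finrank K ↥(Module.End.eigenspace (T.restrict hT : End K p) l) := by
        have hmem : ∀ z : ↥(LinearMap.ker (p.mkQ.comp E.subtype)), ((z.1 : E) : V) ∈ p := fun z => by
          have := z.2
          rwa [LinearMap.mem_ker, LinearMap.comp_apply, Submodule.subtype_apply, Submodule.mkQ_apply,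
            Submodule.Quotient.mk_eq_zero] at this
        refine LinearMap.finrank_le_finrank_of_injective
          (f := { toFun := fun z => ⟨⟨((z.1 : E) : V), hmem z⟩,
                    Module.End.mem_eigenspace_iff.2 (Subtype.ext (Module.End.mem_eigenspace_iff.1 z.1.2))⟩
                  map_add' := fun _ _ => rfl
                  map_smul' := fun _ _ => rfl }) ?_
        intro z z' hz
        refine Subtype.ext (Subtype.ext ?_)
        exact congrArg (fun q => ((q.1 : p) : V)) hz
      unfold wt at hw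
      rw [← hE] at hw
      omega
  set I := E.map A with hI
  have h := LinearMap.finrank_range_add_finrank_ker (p.mkQ.comp I.subtype)
  rw [LinearMap.range_comp, Submodule.range_subtype] at h
  have h1 : I.map p.mkQ = (Module.End.eigenspace (p.mapQ p T hT) l).map (p.mapQ p A hA) := by
    rw [← hEq, hI, ← Submodule.map_comp, ← Submodule.map_comp]
    rfl
  rw [h1] at h
  have hcoe : ∀ z : ↥((Module.End.eigenspace (T.restrict hT : End K p) l).map (A.restrict hA)),
      ((z.1 : p) : V) ∈ I := by
    rintro ⟨_, y, hy, rfl⟩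
    exact ⟨(y : V), Module.End.mem_eigenspace_iff.2 (congrArg Subtype.val (Module.End.mem_eigenspace_iff.1 hy)), rfl⟩
  have h2 : finrank K ↥((Module.End.eigenspace (T.restrict hT : End K p) l).map (A.restrict hA)) ≤
      finrank K ↥(LinearMap.ker (p.mkQ.comp I.subtype)) := by
    refine LinearMap.finrank_le_finrank_of_injective
      (f := { toFun := fun z => ⟨⟨((z.1 : p) : V), hcoe z⟩, by
                rw [LinearMap.mem_ker, LinearMap.comp_apply, Submodule.subtype_apply, Submodule.mkQ_apply,
                  Submodule.Quotient.mk_eq_zero]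
                exact z.1.2⟩
              map_add' := fun _ _ => rfl
              map_smul' := fun _ _ => rfl }) ?_
    intro z z' hz
    refine Subtype.ext (Subtype.ext ?_)
    exact congrArg (fun q => ((q.1 : I) : V)) hz
  omega

/-- The kernel of a power inside an eigenspace, one step down. -/
theorem inf_ker_pow_step {T D : End K V} {a : K} (hTD : T * D = a • (D * T)) (l : K) (i : ℕ) :
    finrank K ↥(Module.End.eigenspace T l ⊓ LinearMap.ker (D ^ (i + 1))) ≤
      finrank K ↥(Module.End.eigenspace T l ⊓ LinearMap.ker D) +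
        finrank K ↥(Module.End.eigenspace T (a * l) ⊓ LinearMap.ker (D ^ i)) := by
  set X := Module.End.eigenspace T l ⊓ LinearMap.ker (D ^ (i + 1)) with hX
  have h := LinearMap.finrank_range_add_finrank_ker (D.comp X.subtype)
  have h1 : finrank K ↥(LinearMap.range (D.comp X.subtype)) ≤
      finrank K ↥(Module.End.eigenspace T (a * l) ⊓ LinearMap.ker (D ^ i)) := by
    refine Submodule.finrank_mono ?_
    rintro _ ⟨⟨x, hx1, hx2⟩, rfl⟩
    refine ⟨Module.End.mem_eigenspace_iff.2 ?_, ?_⟩
    · have := graded_maps hTD (Module.End.mem_eigenspace_iff.1 hx1) 1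
      rw [pow_one, pow_one] at this
      exact this
    · rw [SetLike.mem_coe, LinearMap.mem_ker] at *
      rw [pow_succ, Module.End.mul_apply] at hx2
      exact hx2
  have h2 : finrank K ↥(LinearMap.ker (D.comp X.subtype)) ≤
      finrank K ↥(Module.End.eigenspace T l ⊓ LinearMap.ker D) := by
    rw [LinearMap.ker_comp, ← Submodule.finrank_map_subtype_eq, Submodule.map_comap_eq, Submodule.range_subtype]
    exact Submodule.finrank_mono (inf_le_inf_right _ inf_le_left)
  omega

/-- Rank-nullity on a subspace. -/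
theorem finrank_le_inf_add_map (X : Submodule K V) (A : End K V) :
    finrank K X ≤ finrank K ↥(X ⊓ LinearMap.ker A) + finrank K ↥(X.map A) := by
  have h := LinearMap.finrank_range_add_finrank_ker (A.comp X.subtype)
  rw [LinearMap.range_comp, Submodule.range_subtype, LinearMap.ker_comp, ← Submodule.finrank_map_subtype_eq,
    Submodule.map_comap_eq, Submodule.range_subtype] at h
  omega

/-- Rank-nullity on a subspace, exactly. -/
theorem finrank_inf_add_map (X : Submodule K V) (A : End K V) :
    finrank K ↥(X ⊓ LinearMap.ker A) + finrank K ↥(X.map A) = finrank K X := by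
  have h := LinearMap.finrank_range_add_finrank_ker (A.comp X.subtype)
  rw [LinearMap.range_comp, Submodule.range_subtype, LinearMap.ker_comp, ← Submodule.finrank_map_subtype_eq,
    Submodule.map_comap_eq, Submodule.range_subtype] at h
  omega

end General

variable {p : ℕ} [hp : Fact p.Prime]

local notation "SLp" => SpecialLinearGroup (Fin 2) (ZMod p)

variable {K : Type w} [Field K] [IsAlgClosed K] [CharP K p] [Algebra (ZMod p) K]

section Lift

variable {S : Type u} [Group S] [Finite S] {π : S →* SpecialLinearGroup (Fin 2) (ZMod p)}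

/-- A group of operators of `p`-power order has a common fixed vector. -/
theorem exists_fixed_of_pow {W : Type v} [AddCommGroup W] [Module K W] {N : Subgroup S}
    (ρ : Representation K S W) (hN : ∀ n ∈ N, ∃ j, ρ n ^ (p ^ j) = 1) (h0 : ∃ v : W, v ≠ 0) :
    ∃ v : W, v ≠ 0 ∧ ∀ n ∈ N, ρ n v = v := by
  classical
  haveI : CharP K p := inferInstance
  obtain ⟨v, hv⟩ := h0
  have hpW : ∀ x : W, p • x = 0 := fun x => by
    rw [← Nat.cast_smul_eq_nsmul K, CharP.cast_eq_zero, zero_smul]
  set M : AddSubgroup W := AddSubgroup.closure (Set.range fun n : N => ρ (n : S) v) with hM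
  haveI hMfin : Finite M := by
    haveI : AddGroup.FG M := AddGroup.closure_finite_fg _
    refine AddCommGroup.finite_of_fg_torsion _ fun x => ?_
    exact isOfFinAddOrder_iff_nsmul_eq_zero.2 ⟨p, hp.out.pos, Subtype.ext (hpW x)⟩
  let φ : N →* Function.End W :=
    { toFun := fun n => ⇑(ρ (n : S))
      map_one' := by funext x; simp; rfl
      map_mul' := fun a b => by funext x; simp; rfl }
  have hstab : ∀ (n : N) (x : W), x ∈ M → ρ (n : S) x ∈ M := by
    intro n x hx
    induction hx using AddSubgroup.closure_induction with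
    | mem y hy =>
      obtain ⟨m, rfl⟩ := hy
      exact AddSubgroup.subset_closure ⟨n * m, by simp⟩
    | zero => simp
    | add a b _ _ ha hb => rw [map_add]; exact add_mem ha hb
    | neg a _ ha => rw [map_neg]; exact neg_mem ha
  -- the acting image is a p-group
  let ψ : N →* Equiv.Perm M := MonoidHom.toHomUnits
    { toFun := fun n => (fun x : M => (⟨ρ (n : S) x, hstab n x x.2⟩ : M) : Function.End M)
      map_one' := by funext x; simp; rfl
      map_mul' := fun a b => by funext x; simp; rfl } |> fun f => Equiv.Perm.equivUnitsEnd.symm.toMonoidHom.comp f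
  have hψ : ∀ (n : N) (x : M), ((ψ n x : M) : W) = ρ (n : S) x := fun n x => rfl
  have hP : IsPGroup p ψ.range := by
    rintro ⟨_, n, rfl⟩
    obtain ⟨j, hj⟩ := hN n n.2
    refine ⟨j, Subtype.ext ?_⟩
    show ψ n ^ (p ^ j) = 1
    rw [← map_pow]
    refine Equiv.ext fun x => Subtype.ext ?_
    rw [hψ]
    show ρ ((n : S) ^ (p ^ j)) (x : W) = (x : W)
    rw [map_pow, hj, Module.End.one_apply]
  have hdvd : p ∣ Nat.card M := by
    have hvM : v ∈ M := AddSubgroup.subset_closure ⟨1, by simp⟩
    have h : addOrderOf (⟨v, hvM⟩ : M) = p :=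
      addOrderOf_eq_prime (Subtype.ext (hpW v)) fun h => hv (congrArg Subtype.val h)
    rw [← h]
    exact addOrderOf_dvd_natCard _
  have hzero : (0 : M) ∈ MulAction.fixedPoints ψ.range M := by
    rintro ⟨_, n, rfl⟩
    exact Subtype.ext (by show ρ (n : S) ((0 : M) : W) = 0; simp)
  obtain ⟨b, hb, hb0⟩ := hP.exists_fixed_point_of_prime_dvd_card_of_fixed_point M hdvd hzero
  refine ⟨b, fun h => hb0 (Subtype.ext h.symm), fun n hn => ?_⟩
  exact congrArg Subtype.val (hb ⟨ψ ⟨n, hn⟩, ⟨n, hn⟩, rfl⟩)

/-- An irreducible representation in which the kernel acts by `p`-elements comes from `SL₂(p)`. -/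
theorem exists_factor (hπ : Function.Surjective π) {W : Type v} [AddCommGroup W] [Module K W]
    {ρ : Representation K S W} (hρ : Irr ρ) (hN : ∀ n ∈ π.ker, ∃ j, ρ n ^ (p ^ j) = 1) :
    ∃ σ : Representation K SLp W, Irr σ ∧ ∀ g, σ (π g) = ρ g := by
  haveI := hρ.1
  set X : Submodule K W :=
    { carrier := {v | ∀ n ∈ π.ker, ρ n v = v}
      add_mem' := fun ha hb n hn => by rw [map_add, ha n hn, hb n hn]
      zero_mem' := fun n _ => map_zero _
      smul_mem' := fun c v hv n hn => by rw [map_smul, hv n hn] } with hX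
  have hXtop : X = ⊤ := by
    refine (hρ.2 X fun g v hv n hn => ?_).resolve_left fun h => ?_
    · have hc : g⁻¹ * n * g ∈ π.ker := by
        have := (MonoidHom.normal_ker π).conj_mem n hn g⁻¹
        rwa [inv_inv] at this
      rw [← Module.End.mul_apply, ← map_mul, show n * g = g * (g⁻¹ * n * g) by group, map_mul,
        Module.End.mul_apply, hv _ hc]
    · obtain ⟨v, hv0, hv⟩ := exists_fixed_of_pow (N := π.ker) ρ hN (exists_ne 0)
      have : v ∈ X := hv
      rw [h, Submodule.mem_bot] at this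
      exact hv0 this
  have hker : π.ker ≤ MonoidHom.ker ρ := fun n hn => by
    refine MonoidHom.mem_ker.2 (LinearMap.ext fun v => ?_)
    exact (hXtop ▸ Submodule.mem_top : v ∈ X) n hn
  let σ : Representation K SLp W :=
    { toFun := fun q => ρ (Function.surjInv hπ q)
      map_one' := by
        refine MonoidHom.mem_ker.1 (hker ?_)
        rw [MonoidHom.mem_ker, Function.surjInv_eq hπ]
      map_mul' := fun a b => by
        have h : (Function.surjInv hπ a * Function.surjInv hπ b)⁻¹ * Function.surjInv hπ (a * b) ∈ π.ker := by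
          rw [MonoidHom.mem_ker, map_mul, map_inv, map_mul, Function.surjInv_eq hπ, Function.surjInv_eq hπ,
            Function.surjInv_eq hπ, inv_mul_cancel]
        have h' := MonoidHom.mem_ker.1 (hker h)
        conv_lhs => rw [show Function.surjInv hπ (a * b) = Function.surjInv hπ a * Function.surjInv hπ b *
          ((Function.surjInv hπ a * Function.surjInv hπ b)⁻¹ * Function.surjInv hπ (a * b)) by group]
        rw [map_mul, h', mul_one, map_mul] }
  have hσ : ∀ g, σ (π g) = ρ g := fun g => by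
    have h : g⁻¹ * Function.surjInv hπ (π g) ∈ π.ker := by
      rw [MonoidHom.mem_ker, map_mul, map_inv, Function.surjInv_eq hπ, inv_mul_cancel]
    show ρ (Function.surjInv hπ (π g)) = ρ g
    rw [show Function.surjInv hπ (π g) = g * (g⁻¹ * Function.surjInv hπ (π g)) by group, map_mul,
      MonoidHom.mem_ker.1 (hker h), mul_one]
  refine ⟨σ, ⟨hρ.1, fun q hq => hρ.2 q fun g => ?_⟩, hσ⟩
  rw [← hσ g]
  exact hq (π g)

end Lift

/-- The data used in the defining characteristic. -/
structure Cfg {S : Type u} [Group S] (π : S →* SLp) where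
  /-- the element of order three -/
  x : S
  /-- the torus element -/
  t : S
  /-- the unipotent element -/
  h : S
  /-- the generator of the multiplicative group -/
  g : (ZMod p)ˣ
  /-- exponents -/
  (e s M : ℕ)
  hg : ∀ a, a ∈ Subgroup.zpowers g
  hx : π x = x0 p
  hx3 : x ^ 3 = 1
  ht : π t = t0 g
  hM : t ^ M = 1
  hpM : ¬ p ∣ M
  hpm1 : p - 1 ∣ M
  hh : h ^ p ^ e = 1
  hπh : π h ∈ Subgroup.zpowers (u0 p)
  hπh1 : π h ≠ 1
  hth : t * h * t⁻¹ = h ^ s
  hs : (s : ZMod p) = (g : ZMod p) ^ 2

section Main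

variable {S : Type u} [Group S] [Finite S] {π : S →* SpecialLinearGroup (Fin 2) (ZMod p)}

/-- The weight `γ^w`. -/
noncomputable def Cfg.gam (c : Cfg π) (w : ℕ) : K := algebraMap (ZMod p) K (c.g : ZMod p) ^ w

variable (c : Cfg π) {W : Type v} [AddCommGroup W] [Module K W] [FiniteDimensional K W]
  (ρ : Representation K S W)

/-- The homogeneous raising operator. -/
noncomputable def Cfg.D : End K W := gradedOp (ρ c.h) c.s c.M

/-- The multiplicity of a weight. -/
noncomputable def Cfg.m (w : ℕ) : ℕ := wt (ρ c.t) (c.gam (K := K) w)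

/-- The fixed vectors of a weight. -/
noncomputable def Cfg.A (w : ℕ) : ℕ :=
  finrank K ↥(Module.End.eigenspace (ρ c.t) (c.gam (K := K) w) ⊓ LinearMap.ker (ρ c.h - 1))

omit [Finite S] in
theorem Cfg.M_ne : (c.M : K) ≠ 0 := fun h => c.hpM ((CharP.cast_eq_zero_iff K p c.M).1 h)

omit [Finite S] in
theorem Cfg.s_cast : (c.s : K) = c.gam (K := K) 2 := by
  rw [Cfg.gam, ← map_pow, ← c.hs, map_natCast]

omit [Finite S] in
theorem Cfg.gam_M (w : ℕ) : (c.gam (K := K) w) ^ c.M = 1 := by
  obtain ⟨d, hd⟩ := c.hpm1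
  rw [Cfg.gam, ← map_pow, ← map_pow, hd, ← pow_mul, mul_left_comm, pow_mul,
    ZMod.pow_card_sub_one_eq_one c.g.ne_zero, one_pow, map_one]

omit [Finite S] in
theorem Cfg.gam_iff (v w : ℕ) : c.gam (K := K) v = c.gam w ↔ v % (p - 1) = w % (p - 1) := by
  have hord : orderOf c.g = p - 1 := by
    haveI : NeZero p := ⟨hp.out.ne_zero⟩
    rw [orderOf_eq_card_of_forall_mem_zpowers c.hg, Nat.card_eq_fintype_card, ZMod.card_units]
  rw [Cfg.gam, Cfg.gam, ← map_pow, ← map_pow, (algebraMap (ZMod p) K).injective.eq_iff,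
    ← Units.val_pow_eq_pow_val, ← Units.val_pow_eq_pow_val, Units.val_inj, pow_eq_pow_iff_modEq, hord]
  rfl

omit [Finite S] in
theorem Cfg.D_spec :
    ρ c.t * c.D ρ = c.gam (K := K) 2 • (c.D ρ * ρ c.t) ∧
      (∀ i, LinearMap.ker (c.D ρ ^ i) = LinearMap.ker ((ρ c.h - 1) ^ i)) := by
  have h := gradedOp_spec (p := p) (e := c.e) (k := c.M) (s := c.s) (T := ρ c.t) (H := ρ c.h) c.M_ne
    (by rw [← map_pow, c.hM, map_one]) (by rw [← map_pow, c.hh, map_one])
    (by rw [← map_mul, ← map_pow, ← map_mul, ← c.hth, inv_mul_cancel_right])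
    (by rw [c.s_cast]; exact c.gam_M 2)
  rw [c.s_cast] at h
  exact ⟨h.1, h.2.2⟩

omit [Finite S] in
/-- One step of the raising operator. -/
theorem Cfg.step (w i : ℕ) :
    c.m ρ w ≤ finrank K ↥(Module.End.eigenspace (ρ c.t) (c.gam (K := K) w) ⊓ LinearMap.ker (c.D ρ ^ i)) +
      c.m ρ (w + 2 * i) := by
  have h := wt_le (c.D_spec ρ).1 (c.gam (K := K) w) i
  rwa [show c.gam (K := K) 2 ^ i * c.gam w = c.gam (w + 2 * i) by
    rw [Cfg.gam, Cfg.gam, Cfg.gam, ← pow_mul, ← pow_add, add_comm]] at h

omit [Finite S] in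
theorem Cfg.A_eq (w : ℕ) :
    c.A ρ w = finrank K ↥(Module.End.eigenspace (ρ c.t) (c.gam (K := K) w) ⊓ LinearMap.ker (c.D ρ ^ 1)) := by
  rw [Cfg.A, (c.D_spec ρ).2, pow_one]

omit [Finite S] in
theorem Cfg.m_congr {v w : ℕ} (h : v % (p - 1) = w % (p - 1)) : c.m ρ v = c.m ρ w := by
  rw [Cfg.m, Cfg.m, (c.gam_iff v w).2 h]

omit [Finite S] in
theorem Cfg.D_coe (q : Submodule K W) (hq : ∀ g, q ≤ q.comap (ρ g)) (v : q) :
    ((c.D (ρ.subrepresentation q hq) v : q) : W) = c.D ρ (v : W) := by
  simp only [Cfg.D, gradedOp, ← map_pow]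
  simp [LinearMap.sum_apply]

omit [Finite S] in
theorem Cfg.D_inv (q : Submodule K W) (hq : ∀ g, q ≤ q.comap (ρ g)) : q ≤ q.comap (c.D ρ) := fun v hv => by
  have := c.D_coe ρ q hq ⟨v, hv⟩
  rw [Submodule.mem_comap]
  rw [← this]
  exact Submodule.coe_mem _

/-- What an irreducible constituent contributes. -/
theorem Cfg.irreducible (hp5 : 5 ≤ p) (hπ : Function.Surjective π) (hρ : Irr ρ)
    (hN : ∀ n ∈ π.ker, ∃ j, ρ n ^ (p ^ j) = 1) :
    ∃ k < p, finrank K W = k + 1 ∧ fixDim (ρ c.x) = cnt3 k ∧ (∀ w, c.m ρ w = cntW p k w) ∧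
      (∀ w, c.A ρ w = if k % (p - 1) = w % (p - 1) then 1 else 0) ∧
      finrank K ↥(LinearMap.ker (c.D ρ)) = 1 := by
  obtain ⟨σ, hσ, hσρ⟩ := exists_factor hπ hρ hN
  obtain ⟨k, hk, h1, h2, h3, h4, h5⟩ := irreducible_data hp5 hσ c.hg
  have hker : LinearMap.ker (ρ c.h - 1) = LinearMap.ker (σ (u0 p) - 1) := by
    have hfix : ∀ (q : SLp) (v : W), σ q v = v → ∀ i : ℕ, σ (q ^ i) v = v := fun q v hv i => by
      induction i with
      | zero => simp
      | succ i ih => rw [pow_succ, map_mul, Module.End.mul_apply, hv, ih]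
    have hord : orderOf (π c.h) = p := by
      refine orderOf_eq_prime ?_ c.hπh1
      obtain ⟨i, hi⟩ := c.hπh
      rw [← hi, ← zpow_natCast, ← _root_.zpow_mul, mul_comm, _root_.zpow_mul, zpow_natCast,
        show (u0 p) ^ p = 1 by simpa [orderOf_u0] using pow_orderOf_eq_one (u0 p), _root_.one_zpow]
    have hu : u0 p ∈ Subgroup.zpowers (π c.h) := by
      have : Subgroup.zpowers (π c.h) = Subgroup.zpowers (u0 p) :=
        Subgroup.eq_of_le_of_card_ge (Subgroup.zpowers_le.2 c.hπh) (by rw [Nat.card_zpowers, Nat.card_zpowers, hord, orderOf_u0])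
      rw [this]
      exact Subgroup.mem_zpowers _
    ext v
    rw [mem_ker_sub_one, mem_ker_sub_one, ← hσρ]
    constructor
    · intro hv
      obtain ⟨i, hi⟩ := (IsOfFinOrder.mem_powers_iff_mem_zpowers (isOfFinOrder_of_finite (π c.h))).2 hu
      rw [← hi]
      exact hfix _ _ hv i
    · intro hv
      obtain ⟨i, hi⟩ := (IsOfFinOrder.mem_powers_iff_mem_zpowers (isOfFinOrder_of_finite (u0 p))).2 c.hπh
      rw [← hi]
      exact hfix _ _ hv i
  refine ⟨k, hk, h1, ?_, fun w => ?_, fun w => ?_, ?_⟩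
  · rw [← hσρ, c.hx, h2]
  · rw [Cfg.m, ← hσρ, c.ht]
    exact h3 w
  · rw [Cfg.A, hker, ← hσρ, c.ht]
    exact h4 w
  · have := (c.D_spec ρ).2 1
    rw [pow_one, pow_one] at this
    rw [this, hker, h5]

omit [Finite S] in
theorem Cfg.m_quot (w : ℕ) (q : Submodule K W) (hq : ∀ g, q ≤ q.comap (ρ g)) :
    c.m (ρ.subrepresentation q hq) w + c.m (ρ.quotient q hq) w = c.m ρ w :=
  wt_quot c.M_ne (by rw [← map_pow, c.hM, map_one]) (c.gam_M w) q (hq c.t)

omit [Finite S] in
theorem Cfg.x_quot (h3 : (3 : K) ≠ 0) (q : Submodule K W) (hq : ∀ g, q ≤ q.comap (ρ g)) :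
    fixDim (ρ.subrepresentation q hq c.x) + fixDim (ρ.quotient q hq c.x) = fixDim (ρ c.x) :=
  fixDim_quot (k := 3) (by exact_mod_cast h3) (by rw [← map_pow, c.hx3, map_one]) q (hq c.x)

omit [Finite S] in
theorem Cfg.A_quot (w : ℕ) (q : Submodule K W) (hq : ∀ g, q ≤ q.comap (ρ g)) :
    c.A ρ w ≤ c.A (ρ.subrepresentation q hq) w + c.A (ρ.quotient q hq) w := by
  have hA : q ≤ q.comap (ρ c.h - 1) := fun v hv => q.sub_mem (hq c.h hv) hv
  have e1 : (ρ c.h - 1).restrict hA = ρ.subrepresentation q hq c.h - 1 := by ext v; rfl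
  have e2 : q.mapQ q (ρ c.h - 1) hA = ρ.quotient q hq c.h - 1 := by
    refine LinearMap.ext fun z => ?_
    obtain ⟨v, rfl⟩ := q.mkQ_surjective z
    rfl
  have h := inf_ker_le (ρ c.h - 1) (ρ c.t) (c.gam (K := K) w) q (hq c.t) hA
  rw [e1, e2] at h
  exact h

/-- The rank of the seventh power on the weight three part. -/
noncomputable def Cfg.R : ℕ :=
  finrank K ↥((Module.End.eigenspace (ρ c.t) (c.gam (K := K) 3)).map (c.D ρ ^ 7))

omit [Finite S] in
theorem Cfg.R_quot (q : Submodule K W) (hq : ∀ g, q ≤ q.comap (ρ g)) :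
    c.R (ρ.subrepresentation q hq) + c.R (ρ.quotient q hq) ≤ c.R ρ := by
  have hA : q ≤ q.comap (c.D ρ ^ 7) := Submodule.le_comap_pow_of_le_comap _ (c.D_inv ρ q hq) 7
  have e1 : (c.D ρ ^ 7).restrict hA = c.D (ρ.subrepresentation q hq) ^ 7 := by
    refine LinearMap.ext fun v => Subtype.ext ?_
    have : ∀ (i : ℕ) (v : q), ((((c.D (ρ.subrepresentation q hq)) ^ i) v : q) : W) = (c.D ρ ^ i) (v : W) := fun i => by
      induction i with
      | zero => intro v; rfl
      | succ i ih => intro v; rw [pow_succ, pow_succ, Module.End.mul_apply, Module.End.mul_apply, ih, c.D_coe]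
    exact (this 7 v).symm
  have e2 : q.mapQ q (c.D ρ ^ 7) hA = c.D (ρ.quotient q hq) ^ 7 := by
    have hq' : ∀ v, c.D (ρ.quotient q hq) (q.mkQ v) = q.mkQ (c.D ρ v) := fun v => by
      simp only [Cfg.D, gradedOp, ← map_pow]
      simp [LinearMap.sum_apply]
    have : ∀ (i : ℕ) (v : W), (c.D (ρ.quotient q hq) ^ i) (q.mkQ v) = q.mkQ ((c.D ρ ^ i) v) := fun i => by
      induction i with
      | zero => intro v; rfl
      | succ i ih => intro v; rw [pow_succ, pow_succ, Module.End.mul_apply, Module.End.mul_apply, hq', ih]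
    refine LinearMap.ext fun z => ?_
    obtain ⟨v, rfl⟩ := q.mkQ_surjective z
    rw [this]
    rfl
  have h := map_super (c.D ρ ^ 7) (ρ c.t) c.M_ne (by rw [← map_pow, c.hM, map_one]) (c.gam_M 3) q (hq c.t) hA
  rw [e1, e2] at h
  exact h

/-- The additive inequality for `p ≥ 13`. -/
theorem Cfg.large (hp13 : 13 ≤ p) (h3 : (3 : K) ≠ 0) (hπ : Function.Surjective π) :
    ∀ (W : Type v) [AddCommGroup W] [Module K W] [FiniteDimensional K W] (ρ : Representation K S W),
      (∀ n ∈ π.ker, ∃ j, ρ n ^ (p ^ j) = 1) →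
      finrank K W + 2 * c.m ρ 3 + c.m ρ 6 ≤ 4 * fixDim (ρ c.x) + 2 * c.m ρ 1 + c.m ρ 0 := by
  refine rep_induction (motive := fun W _ _ _ ρ => (∀ n ∈ π.ker, ∃ j, ρ n ^ (p ^ j) = 1) →
      finrank K W + 2 * c.m ρ 3 + c.m ρ 6 ≤ 4 * fixDim (ρ c.x) + 2 * c.m ρ 1 + c.m ρ 0)
    (fun W _ _ _ ρ hW _ => ?_) (fun W _ _ _ ρ hρ hN => ?_) (fun W _ _ _ ρ q hq ih1 ih2 hN => ?_)
  · haveI := hW
    have h0 : ∀ w, c.m ρ w = 0 := fun w => finrank_zero_of_subsingleton
    rw [finrank_zero_of_subsingleton, h0, h0]
    exact Nat.zero_le _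
  · obtain ⟨k, hk, h1, h2, hm, -⟩ := c.irreducible ρ (by omega) hπ hρ hN
    rw [h1, h2, hm, hm, hm, hm]
    exact count_large hp13 (Nat.odd_iff.1 (hp.out.odd_of_ne_two (by omega))) hk
  · have hs := ih1 fun n hn => by
      obtain ⟨j, hj⟩ := hN n hn
      refine ⟨j, ?_⟩
      rw [← map_pow] at hj ⊢
      ext v
      show ρ (n ^ p ^ j) (v : W) = v
      rw [hj]; rfl
    have hqq := ih2 fun n hn => by
      obtain ⟨j, hj⟩ := hN n hn
      refine ⟨j, ?_⟩
      rw [← map_pow] at hj ⊢
      refine LinearMap.ext fun z => ?_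
      obtain ⟨v, rfl⟩ := q.mkQ_surjective z
      show q.mkQ (ρ (n ^ p ^ j) v) = q.mkQ v
      rw [hj]; rfl
    have hn := q.finrank_quotient_add_finrank
    have := c.x_quot ρ h3 q hq
    have := c.m_quot ρ 0 q hq
    have := c.m_quot ρ 1 q hq
    have := c.m_quot ρ 3 q hq
    have := c.m_quot ρ 6 q hq
    omega

/-- The additive inequalities for `p = 11`. -/
theorem Cfg.eleven (hp11 : p = 11) (h3 : (3 : K) ≠ 0) (hπ : Function.Surjective π) :
    ∀ (W : Type v) [AddCommGroup W] [Module K W] [FiniteDimensional K W] (ρ : Representation K S W),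
      (∀ n ∈ π.ker, ∃ j, ρ n ^ (p ^ j) = 1) →
      finrank K W + 2 * c.m ρ 3 ≤ 5 * fixDim (ρ c.x) + c.m ρ 9 + c.m ρ 1 ∧
      5 * finrank K W + 10 * c.m ρ 5 + 10 * c.A ρ 9 + c.A ρ 6 + c.A ρ 8 + 2 * c.A ρ 0 + c.A ρ 2 + c.m ρ 4 ≤
        20 * fixDim (ρ c.x) + 10 * c.R ρ + 10 * c.m ρ 9 +
          (c.m ρ 0 + c.m ρ 2 + c.m ρ 4 + c.m ρ 6 + c.m ρ 8) + c.m ρ 0 := by
  refine rep_induction (motive := fun W _ _ _ ρ => (∀ n ∈ π.ker, ∃ j, ρ n ^ (p ^ j) = 1) →
      finrank K W + 2 * c.m ρ 3 ≤ 5 * fixDim (ρ c.x) + c.m ρ 9 + c.m ρ 1 ∧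
      5 * finrank K W + 10 * c.m ρ 5 + 10 * c.A ρ 9 + c.A ρ 6 + c.A ρ 8 + 2 * c.A ρ 0 + c.A ρ 2 + c.m ρ 4 ≤
        20 * fixDim (ρ c.x) + 10 * c.R ρ + 10 * c.m ρ 9 +
          (c.m ρ 0 + c.m ρ 2 + c.m ρ 4 + c.m ρ 6 + c.m ρ 8) + c.m ρ 0)
    (fun W _ _ _ ρ hW _ => ?_) (fun W _ _ _ ρ hρ hN => ?_) (fun W _ _ _ ρ q hq ih1 ih2 hN => ?_)
  · haveI := hW
    have h0 : ∀ w, c.m ρ w = 0 := fun w => finrank_zero_of_subsingleton
    have hA : ∀ w, c.A ρ w = 0 := fun w => finrank_zero_of_subsingleton
    simp [finrank_zero_of_subsingleton, h0, hA]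
  · obtain ⟨k, hk, h1, h2, hm, hA, hD⟩ := c.irreducible ρ (by omega) hπ hρ hN
    have hR : k = 7 → 1 ≤ c.R ρ := by
      intro hk7
      by_contra hlt
      rw [not_le, Nat.lt_one_iff, Cfg.R, Submodule.finrank_eq_zero] at hlt
      classical
      let E : Fin 10 → Submodule K W := fun w => Module.End.eigenspace (ρ c.t) (c.gam (K := K) w)
      have hind : iSupIndep E := by
        refine (Module.End.eigenspaces_iSupIndep (ρ c.t)).comp fun a b hab => Fin.ext ?_
        have := (c.gam_iff (K := K) a b).1 hab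
        rw [hp11] at this
        omega
      have htop : (⊤ : Submodule K W) ≤ ⨆ w ∈ (Finset.univ : Finset (Fin 10)), E w := by
        refine (Submodule.eq_top_of_finrank_eq ?_).ge
        rw [finrank_biSup hind, h1, hk7]
        simp only [E]
        calc ∑ w : Fin 10, finrank K ↥(Module.End.eigenspace (ρ c.t) (c.gam (K := K) w))
            = ∑ w : Fin 10, cntW p k w := Finset.sum_congr rfl fun w _ => hm w
          _ = 8 := by rw [hp11, hk7]; decide
      -- the eighth power vanishes
      have hD8 : ∀ i, finrank K ↥(LinearMap.ker (c.D ρ ^ i)) ≤ i := fun i => by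
        have := finrank_ker_pow (c.D ρ) i
        rwa [hD, mul_one] at this
      have hker7 : c.D ρ ^ 7 = 0 := by
        rw [← LinearMap.ker_eq_top, eq_top_iff]
        refine htop.trans (iSup₂_le fun w _ => ?_)
        intro v hv
        rw [LinearMap.mem_ker]
        by_cases hw : (w : ℕ) = 3
        · have : (c.D ρ ^ 7) v ∈ (Module.End.eigenspace (ρ c.t) (c.gam (K := K) 3)).map (c.D ρ ^ 7) :=
            ⟨v, by rw [← hw]; exact hv, rfl⟩
          rw [hlt, Submodule.mem_bot] at this
          exact this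
        · -- the image is a fixed vector of the wrong weight
          have hv7 := graded_maps (c.D_spec ρ).1 (Module.End.mem_eigenspace_iff.1 hv) 7
          have hgam : c.gam (K := K) 2 ^ 7 * c.gam w = c.gam ((w : ℕ) + 14) := by
            rw [Cfg.gam, Cfg.gam, Cfg.gam, ← pow_mul, ← pow_add, add_comm]
          rw [hgam] at hv7
          have hkill : (c.D ρ ^ 8) v = 0 := by
            obtain ⟨N, hN'⟩ : ∃ N, c.D ρ ^ N = 0 := by
              refine ⟨p ^ c.e, ?_⟩
              rw [← LinearMap.ker_eq_top, (c.D_spec ρ).2, LinearMap.ker_eq_top]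
              rcases subsingleton_or_nontrivial (End K W) with h | h
              · exact Subsingleton.elim _ _
              haveI : CharP (End K W) p := charP_of_injective_algebraMap (algebraMap K (End K W)).injective p
              rw [sub_pow_char_pow_of_commute (R := End K W) (p := p) (n := c.e) (Commute.one_right _), one_pow,
                ← map_pow, c.hh, map_one, sub_self]
            have hle : LinearMap.ker (c.D ρ ^ N) ≤ LinearMap.ker (c.D ρ ^ 8) := by
              rcases le_total N 8 with h | h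
              · obtain ⟨d, hd⟩ := Nat.exists_eq_add_of_le h
                rw [hd, add_comm, pow_add, Module.End.mul_eq_comp]
                exact LinearMap.ker_le_ker_comp _ _
              · rw [Module.End.ker_pow_eq_ker_pow_finrank_of_le (hm := (by omega : finrank K W ≤ N)),
                  Module.End.ker_pow_eq_ker_pow_finrank_of_le (hm := (by omega : finrank K W ≤ 8))]
            exact hle (by rw [hN', LinearMap.mem_ker, LinearMap.zero_apply] : v ∈ LinearMap.ker (c.D ρ ^ N))
          have hmem : (c.D ρ ^ 7) v ∈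
              Module.End.eigenspace (ρ c.t) (c.gam (K := K) ((w : ℕ) + 14)) ⊓ LinearMap.ker (c.D ρ ^ 1) := by
            refine ⟨Module.End.mem_eigenspace_iff.2 hv7, ?_⟩
            rw [SetLike.mem_coe, LinearMap.mem_ker, pow_one, ← Module.End.mul_apply, ← pow_succ']
            exact hkill
          have hzero : Module.End.eigenspace (ρ c.t) (c.gam (K := K) ((w : ℕ) + 14)) ⊓ LinearMap.ker (c.D ρ ^ 1) = ⊥ := by
            rw [← Submodule.finrank_eq_zero, ← c.A_eq, hA, if_neg]
            rw [hp11, hk7]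
            omega
          rw [hzero, Submodule.mem_bot] at hmem
          exact hmem
      have h7 := hD8 7
      rw [hker7, LinearMap.ker_zero, finrank_top, h1, hk7] at h7
      omega
    subst hp11
    constructor
    · rw [h1, h2, hm, hm, hm]
      exact count_eleven_a k hk
    · have key : ∀ k < 11, 5 * (k + 1) + 10 * cntW 11 k 5 + 10 * (if k % 10 = 9 % 10 then 1 else 0) +
          (if k % 10 = 6 % 10 then 1 else 0) + (if k % 10 = 8 % 10 then 1 else 0) +
          2 * (if k % 10 = 0 % 10 then 1 else 0) + (if k % 10 = 2 % 10 then 1 else 0) + cntW 11 k 4 ≤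
          20 * cnt3 k + 10 * (if k = 7 then 1 else 0) + 10 * cntW 11 k 9 +
            (cntW 11 k 0 + cntW 11 k 2 + cntW 11 k 4 + cntW 11 k 6 + cntW 11 k 8) + cntW 11 k 0 := by decide
      have h := key k hk
      rw [h1, h2]
      simp only [hm, hA]
      norm_num at h ⊢
      by_cases hk7 : k = 7
      · have := hR hk7
        subst hk7
        norm_num at h ⊢
        omega
      · rw [if_neg hk7] at h
        omega
  · have hs := ih1 fun n hn => by
      obtain ⟨j, hj⟩ := hN n hn
      refine ⟨j, ?_⟩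
      rw [← map_pow] at hj ⊢
      ext v
      show ρ (n ^ p ^ j) (v : W) = v
      rw [hj]; rfl
    have hqq := ih2 fun n hn => by
      obtain ⟨j, hj⟩ := hN n hn
      refine ⟨j, ?_⟩
      rw [← map_pow] at hj ⊢
      refine LinearMap.ext fun z => ?_
      obtain ⟨v, rfl⟩ := q.mkQ_surjective z
      show q.mkQ (ρ (n ^ p ^ j) v) = q.mkQ v
      rw [hj]; rfl
    have hn := q.finrank_quotient_add_finrank
    have := c.x_quot ρ h3 q hq
    have := c.m_quot ρ 0 q hq
    have := c.m_quot ρ 1 q hq
    have := c.m_quot ρ 2 q hq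
    have := c.m_quot ρ 3 q hq
    have := c.m_quot ρ 4 q hq
    have := c.m_quot ρ 5 q hq
    have := c.m_quot ρ 6 q hq
    have := c.m_quot ρ 8 q hq
    have := c.m_quot ρ 9 q hq
    have := c.A_quot ρ 0 q hq
    have := c.A_quot ρ 2 q hq
    have := c.A_quot ρ 6 q hq
    have := c.A_quot ρ 8 q hq
    have := c.A_quot ρ 9 q hq
    have := c.R_quot ρ q hq
    constructor <;> omega

/-- The conclusion in the defining characteristic. -/
theorem Cfg.bound (hp3 : p % 3 = 2) (hp11 : 11 ≤ p) (hπ : Function.Surjective π)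
    (hN : ∀ n ∈ π.ker, ∃ j, ρ n ^ (p ^ j) = 1) :
    ∃ h' ∈ Subgroup.zpowers c.h, h' ≠ 1 ∧
      (finrank K W ≤ 4 * fixDim (ρ c.x) + 2 * fixDim (ρ h') ∨ finrank K W ≤ 5 * fixDim (ρ c.x) + fixDim (ρ h')) := by
  classical
  have h3 : (3 : K) ≠ 0 := by
    intro h
    have h' : ((3 : ℕ) : K) = 0 := by exact_mod_cast h
    rw [CharP.cast_eq_zero_iff K p, Nat.prime_dvd_prime_iff_eq hp.out Nat.prime_three] at h'
    omega
  have hh1 : c.h ≠ 1 := fun h => c.hπh1 (by rw [h, map_one])
  -- fixed vectors in distinct weights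
  have hsum : ∀ (ws : Finset ℕ), (∀ v ∈ ws, ∀ w ∈ ws, v % (p - 1) = w % (p - 1) → v = w) →
      ∀ (X : End K W), ∑ w ∈ ws, finrank K ↥(Module.End.eigenspace (ρ c.t) (c.gam (K := K) w) ⊓ LinearMap.ker X) ≤
        finrank K ↥(LinearMap.ker X) := by
    intro ws hws X
    have h := sum_inf_le (ρ c.t) (LinearMap.ker X) (ws.image fun w => c.gam (K := K) w)
    rwa [Finset.sum_image fun v hv w hw hvw => hws v hv w hw ((c.gam_iff (K := K) v w).1 hvw)] at h
  by_cases hbig : 13 ≤ p
  · refine ⟨c.h, Subgroup.mem_zpowers _, hh1, Or.inl ?_⟩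
    have hmain := c.large hbig h3 hπ W ρ hN
    have h1 := c.step ρ 1 1
    have h00 := c.step ρ 0 1
    have h02 := c.step ρ 2 1
    have h04 := c.step ρ 4 1
    have hfix := hsum {1, 0, 2, 4} (by
      intro v hv w hw hvw
      simp only [Finset.mem_insert, Finset.mem_singleton] at hv hw
      rw [Nat.mod_eq_of_lt (by omega), Nat.mod_eq_of_lt (by omega)] at hvw
      exact hvw) (c.D ρ ^ 1)
    rw [Finset.sum_insert (by simp), Finset.sum_insert (by simp), Finset.sum_pair (by omega)] at hfix
    have hker : finrank K ↥(LinearMap.ker (c.D ρ ^ 1)) = fixDim (ρ c.h) := by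
      rw [(c.D_spec ρ).2, pow_one, fixDim]
    simp only [Nat.mul_one, Nat.zero_add] at h1 h00 h02 h04
    norm_num at h1 h00 h02 h04
    omega
  · have hp' : p = 11 := by
      have h2 := hp.out
      interval_cases p
      · rfl
      · norm_num at h2
    by_cases h11 : c.h ^ p = 1
    swap
    · refine ⟨c.h ^ p, Subgroup.npow_mem_zpowers _ _, h11, Or.inr ?_⟩
      have hmain := (c.eleven hp' h3 hπ W ρ hN).1
      have h9 := c.step ρ 9 2
      have h1 := c.step ρ 1 1
      rw [c.m_congr ρ (show (9 + 2 * 2) % (p - 1) = 3 % (p - 1) by rw [hp'])] at h9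
      have hker : LinearMap.ker (c.D ρ ^ 11) = LinearMap.ker (ρ (c.h ^ p) - 1) := by
        rcases subsingleton_or_nontrivial (End K W) with h | h
        · exact congrArg LinearMap.ker (Subsingleton.elim _ _)
        haveI : CharP (End K W) p := charP_of_injective_algebraMap (algebraMap K (End K W)).injective p
        rw [(c.D_spec ρ).2, ← hp', sub_pow_char_of_commute (R := End K W) (p := p) (Commute.one_right _), one_pow,
          map_pow]
      have hmono : ∀ i ≤ 11, LinearMap.ker (c.D ρ ^ i) ≤ LinearMap.ker (c.D ρ ^ 11) := fun i hi => by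
        obtain ⟨d, hd⟩ := Nat.exists_eq_add_of_le hi
        rw [hd, add_comm, pow_add, Module.End.mul_eq_comp]
        exact LinearMap.ker_le_ker_comp _ _
      have hfix := hsum {9, 1} (by
        intro v hv w hw hvw
        simp only [Finset.mem_insert, Finset.mem_singleton] at hv hw
        rw [Nat.mod_eq_of_lt (by omega), Nat.mod_eq_of_lt (by omega)] at hvw
        exact hvw) (c.D ρ ^ 11)
      rw [Finset.sum_pair (by norm_num), hker] at hfix
      have a9 := Submodule.finrank_mono (inf_le_inf_left (Module.End.eigenspace (ρ c.t) (c.gam (K := K) 9)) (hmono 2 (by norm_num)))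
      have a1 := Submodule.finrank_mono (inf_le_inf_left (Module.End.eigenspace (ρ c.t) (c.gam (K := K) 1)) (hmono 1 (by norm_num)))
      rw [hker] at a9 a1
      unfold fixDim at hmain ⊢
      norm_num at h1
      omega
    · refine ⟨c.h, Subgroup.mem_zpowers _, hh1, Or.inl ?_⟩
      have hmain := (c.eleven hp' h3 hπ W ρ hN).2
      set T := ρ c.t
      set D := c.D ρ with hDdef
      let E : ℕ → Submodule K W := fun w => Module.End.eigenspace T (c.gam (K := K) w)
      have hper : ∀ v w, v % 10 = w % 10 → E v = E w := fun v w h => by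
        simp only [E]
        rw [(c.gam_iff v w).2 (by rw [hp']; exact h)]
      have hD11 : D ^ 11 = 0 := by
        rcases subsingleton_or_nontrivial (End K W) with h | h
        · exact Subsingleton.elim _ _
        haveI : CharP (End K W) p := charP_of_injective_algebraMap (algebraMap K (End K W)).injective p
        rw [← LinearMap.ker_eq_top, (c.D_spec ρ).2, LinearMap.ker_eq_top, ← hp',
          sub_pow_char_of_commute (R := End K W) (p := p) (Commute.one_right _), one_pow, ← map_pow, h11, map_one,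
          sub_self]
      have hmaps : ∀ (w i : ℕ), (E w).map (D ^ i) ≤ E (w + 2 * i) := fun w i => by
        rintro _ ⟨v, hv, rfl⟩
        refine Module.End.mem_eigenspace_iff.2 ?_
        rw [graded_maps (c.D_spec ρ).1 (Module.End.mem_eigenspace_iff.1 hv) i]
        congr 1
        rw [Cfg.gam, Cfg.gam, Cfg.gam, ← pow_mul, ← pow_add, add_comm]
      have hA : ∀ w, c.A ρ w = finrank K ↥(E w ⊓ LinearMap.ker D) := fun w => by
        rw [c.A_eq, pow_one]
      have hAper : ∀ v w, v % 10 = w % 10 → c.A ρ v = c.A ρ w := fun v w h => by rw [hA, hA, hper v w h]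
      have hm : ∀ w, c.m ρ w = finrank K ↥(E w) := fun w => rfl
      -- the even weights
      have hstep : ∀ w i, finrank K ↥(E w ⊓ LinearMap.ker (D ^ (i + 1))) ≤
          c.A ρ w + finrank K ↥(E (w + 2) ⊓ LinearMap.ker (D ^ i)) := fun w i => by
        have h := inf_ker_pow_step (c.D_spec ρ).1 (c.gam (K := K) w) i
        rw [show c.gam (K := K) 2 * c.gam w = c.gam (w + 2) by
          rw [Cfg.gam, Cfg.gam, Cfg.gam, ← pow_add, add_comm]] at h
        rw [hA]
        exact h
      have heven : ∀ i, finrank K ↥(E 0 ⊓ LinearMap.ker (D ^ i)) + finrank K ↥(E 2 ⊓ LinearMap.ker (D ^ i)) +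
          finrank K ↥(E 4 ⊓ LinearMap.ker (D ^ i)) + finrank K ↥(E 6 ⊓ LinearMap.ker (D ^ i)) +
          finrank K ↥(E 8 ⊓ LinearMap.ker (D ^ i)) ≤ i * (c.A ρ 0 + c.A ρ 2 + c.A ρ 4 + c.A ρ 6 + c.A ρ 8) := by
        intro i
        induction i with
        | zero => simp [Module.End.one_eq_id, LinearMap.ker_id]
        | succ i ih =>
          have h0 := hstep 0 i
          have h2 := hstep 2 i
          have h4 := hstep 4 i
          have h6 := hstep 6 i
          have h8 := hstep 8 i
          rw [hper (8 + 2) 0 rfl] at h8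
          rw [show (0 : ℕ) + 2 = 2 from rfl] at h0
          rw [show (2 : ℕ) + 2 = 4 from rfl] at h2
          rw [show (4 : ℕ) + 2 = 6 from rfl] at h4
          rw [show (6 : ℕ) + 2 = 8 from rfl] at h6
          rw [Nat.succ_mul]
          omega
      have hev := heven 10
      have htopA : ∀ w, finrank K ↥((E w).map (D ^ 10)) ≤ c.A ρ w := fun w => by
        rw [hA]
        refine Submodule.finrank_mono (le_inf ((hmaps w 10).trans (le_of_eq (hper _ _ (by omega)))) ?_)
        rintro _ ⟨v, _, rfl⟩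
        rw [LinearMap.mem_ker, ← Module.End.mul_apply, ← pow_succ', hD11, LinearMap.zero_apply]
      -- the image of the tenth power is killed on the image of the operator
      have hcof : ∀ w, finrank K ↥((E (w + 2)).map (D ^ 10)) + c.m ρ w ≤ c.m ρ (w + 2) + c.A ρ w := fun w => by
        have h1 := finrank_inf_add_map (E w) D
        have h2 : (E w).map D ≤ E (w + 2) ⊓ LinearMap.ker (D ^ 10) := by
          refine le_inf ?_ ?_
          · have := hmaps w 1
            rwa [pow_one] at this
          · rintro _ ⟨v, _, rfl⟩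
            rw [LinearMap.mem_ker, ← Module.End.mul_apply, ← pow_succ, hD11, LinearMap.zero_apply]
        have h3 := Submodule.finrank_mono h2
        have h4 := finrank_inf_add_map (E (w + 2)) (D ^ 10)
        rw [← hA, ← hm] at h1
        rw [← hm] at h4
        omega
      have k0 := finrank_inf_add_map (E 0) (D ^ 10)
      have k2 := finrank_inf_add_map (E 2) (D ^ 10)
      have k4 := finrank_inf_add_map (E 4) (D ^ 10)
      have k6 := finrank_inf_add_map (E 6) (D ^ 10)
      have k8 := finrank_inf_add_map (E 8) (D ^ 10)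
      rw [← hm] at k0 k2 k4 k6 k8
      have t6 := htopA 6
      have t0' := htopA 0
      have t8 := htopA 8
      have t4 : finrank K ↥((E 4).map (D ^ 10)) + c.m ρ 2 ≤ c.m ρ 4 + c.A ρ 2 := hcof 2
      have t2 : finrank K ↥((E 2).map (D ^ 10)) + c.m ρ 0 ≤ c.m ρ 2 + c.A ρ 0 := hcof 0
      -- the odd weights
      have hz := finrank_inf_add_map (E 1) (D ^ 2)
      rw [← hm] at hz
      have hk13 : finrank K ↥(E 1 ⊓ LinearMap.ker (D ^ 2)) ≤
          c.A ρ 1 + finrank K ↥(E 3 ⊓ LinearMap.ker (D ^ 1)) := hstep 1 1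
      rw [pow_one] at hk13
      have hA3 : finrank K ↥(E 3 ⊓ LinearMap.ker D) = c.A ρ 3 := (hA 3).symm
      have hc9 := finrank_inf_add_map (E 9) D
      rw [← hA, ← hm] at hc9
      set Z := (E 1).map (D ^ 2) with hZ
      have hZ5 : Z ≤ E 5 := by
        have := hmaps 1 2
        norm_num at this
        exact this
      have hm5 := hm 5
      have hR1 : (E 3).map (D ^ 7) ≤ (E 5).map (D ^ 6) := by
        rw [show D ^ 7 = D ^ 6 * D from pow_succ D 6, Module.End.mul_eq_comp, Submodule.map_comp]
        refine Submodule.map_mono ?_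
        have := hmaps 3 1
        rwa [pow_one] at this
      have hR2 : finrank K ↥((E 5).map (D ^ 6)) + finrank K ↥Z ≤ finrank K ↥(E 5) + finrank K ↥(Z.map (D ^ 6)) := by
        have h1 := finrank_inf_add_map (E 5) (D ^ 6)
        have h2 := finrank_inf_add_map Z (D ^ 6)
        have h3 := Submodule.finrank_mono (inf_le_inf_right (LinearMap.ker (D ^ 6)) hZ5)
        omega
      have h8eq : Z.map (D ^ 6) = (E 1).map (D ^ 8) := by
        rw [hZ, ← Submodule.map_comp, ← Module.End.mul_eq_comp, ← pow_add]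
      have hR3 : finrank K ↥((E 1).map (D ^ 8)) ≤ c.A ρ 7 + finrank K ↥((E 1).map (D ^ 9)) := by
        have h1 := finrank_le_inf_add_map ((E 1).map (D ^ 8)) D
        rw [← Submodule.map_comp, ← Module.End.mul_eq_comp, ← pow_succ', show (8 : ℕ) + 1 = 9 from rfl] at h1
        have h2 := Submodule.finrank_mono (inf_le_inf_right (LinearMap.ker D)
          ((hmaps 1 8).trans (le_of_eq (hper (1 + 2 * 8) 7 rfl))))
        rw [← hA] at h2
        omega
      have hR4 : finrank K ↥((E 1).map (D ^ 9)) ≤ c.A ρ 9 + finrank K ↥((E 1).map (D ^ 10)) := by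
        have h1 := finrank_le_inf_add_map ((E 1).map (D ^ 9)) D
        rw [← Submodule.map_comp, ← Module.End.mul_eq_comp, ← pow_succ', show (9 : ℕ) + 1 = 10 from rfl] at h1
        have h2 := Submodule.finrank_mono (inf_le_inf_right (LinearMap.ker D)
          ((hmaps 1 9).trans (le_of_eq (hper (1 + 2 * 9) 9 rfl))))
        rw [← hA] at h2
        omega
      have hR5 := hcof 9
      rw [hper (9 + 2) 1 rfl, hm (9 + 2), hper (9 + 2) 1 rfl, ← hm 1] at hR5
      have hR := Submodule.finrank_mono hR1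
      rw [← hm] at hR2
      rw [h8eq] at hR2
      -- all fixed vectors
      have hfix := hsum {0, 1, 2, 3, 4, 5, 6, 7, 8, 9} (by
        intro v hv w hw hvw
        simp only [Finset.mem_insert, Finset.mem_singleton] at hv hw
        rw [Nat.mod_eq_of_lt (by omega), Nat.mod_eq_of_lt (by omega)] at hvw
        exact hvw) D
      simp only [Finset.sum_insert, Finset.mem_insert, Finset.mem_singleton, Finset.sum_singleton,
        Nat.reduceEqDiff, or_self, not_false_eq_true] at hfix
      rw [← hA, ← hA, ← hA, ← hA, ← hA, ← hA, ← hA, ← hA, ← hA, ← hA] at hfix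
      have hkD : finrank K ↥(LinearMap.ker D) = fixDim (ρ c.h) := by
        have := (c.D_spec ρ).2 1
        rw [pow_one, pow_one] at this
        rw [fixDim, ← this]
      have hRdef : c.R ρ = finrank K ↥((E 3).map (D ^ 7)) := rfl
      omega

end Main

end Cfsg.Lib.FixSixth
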