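import Mathlib

/-!
# Subgroups of odd prime power order in `SL₂(p)` are cyclic
-/

set_option autoImplicit false

namespace Cfsg.Lib.FixSixth

open Matrix

section TwoByTwo

variable {F : Type*} [Field F] (M : Matrix (Fin 2) (Fin 2) F)

theorem sq_two (M : Matrix (Fin 2) (Fin 2) F) :
    M * M = (M 0 0 + M 1 1) • M - (M 0 0 * M 1 1 - M 0 1 * M 1 0) • 1 := by
  ext i j
  fin_cases i <;> fin_cases j <;> simp [Matrix.mul_apply, Fin.sum_univ_two] <;> ring

theorem sq_zero_of_nilpotent (h : IsNilpotent M) : M * M = 0 := by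
  obtain ⟨n, hn⟩ := h
  have hdet : M 0 0 * M 1 1 - M 0 1 * M 1 0 = 0 := by
    rw [← Matrix.det_fin_two]
    have := congrArg Matrix.det hn
    rw [Matrix.det_pow, Matrix.det_zero] at this
    exact eq_zero_of_pow_eq_zero this
  have h2 := sq_two M
  rw [hdet, zero_smul, sub_zero] at h2
  rw [h2]
  set t := M 0 0 + M 1 1
  have h3 : ∀ m, M ^ (m + 1) = t ^ m • M := fun m => by
    induction m with
    | zero => simp
    | succ m ih => rw [pow_succ, ih, smul_mul_assoc, h2, smul_smul, ← pow_succ]
  cases n with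
  | zero => rw [pow_zero] at hn; rw [← one_mul M, hn, zero_mul, smul_zero]
  | succ n =>
    rw [h3, smul_eq_zero] at hn
    rcases hn with hn | hn
    · rw [eq_zero_of_pow_eq_zero hn, zero_smul]
    · rw [hn, smul_zero]

/-- The centraliser of a non-scalar matrix is spanned by `1` and the matrix. -/
theorem exists_combination {Z W : Matrix (Fin 2) (Fin 2) F} (hZ : ∀ c : F, Z ≠ c • 1) (h : W * Z = Z * W) :
    ∃ a b : F, W = a • 1 + b • Z := by
  have h00 := congrFun (congrFun h 0) 0
  have h01 := congrFun (congrFun h 0) 1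
  have h10 := congrFun (congrFun h 1) 0
  simp only [Matrix.mul_apply, Fin.sum_univ_two] at h00 h01 h10
  by_cases hb : Z 0 1 = 0
  · by_cases hc : Z 1 0 = 0
    · have hd : Z 0 0 - Z 1 1 ≠ 0 := fun hd => hZ (Z 0 0) (by
        ext i j
        fin_cases i <;> fin_cases j <;> simp [hb, hc, sub_eq_zero.1 hd])
      refine ⟨W 0 0 - (W 0 0 - W 1 1) / (Z 0 0 - Z 1 1) * Z 0 0, (W 0 0 - W 1 1) / (Z 0 0 - Z 1 1), ?_⟩
      simp only [hb, hc, mul_zero, zero_mul, add_zero, zero_add] at h00 h01 h10
      have w01 : W 0 1 = 0 := by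
        refine (mul_eq_zero.1 (show W 0 1 * (Z 0 0 - Z 1 1) = 0 by linear_combination -h01)).resolve_right hd
      have w10 : W 1 0 = 0 := by
        refine (mul_eq_zero.1 (show W 1 0 * (Z 0 0 - Z 1 1) = 0 by linear_combination h10)).resolve_right hd
      ext i j
      fin_cases i <;> fin_cases j <;> simp [hb, hc, w01, w10]
      field_simp
      ring
    · refine ⟨W 0 0 - W 1 0 / Z 1 0 * Z 0 0, W 1 0 / Z 1 0, ?_⟩
      simp only [hb, mul_zero, zero_mul, add_zero, zero_add] at h00 h01 h10
      have w01 : W 0 1 = 0 := by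
        refine (mul_eq_zero.1 (show W 0 1 * Z 1 0 = 0 by linear_combination h00)).resolve_right hc
      ext i j
      fin_cases i <;> fin_cases j <;> simp [hb, w01, hc]
      field_simp
      linear_combination h10
  · refine ⟨W 0 0 - W 0 1 / Z 0 1 * Z 0 0, W 0 1 / Z 0 1, ?_⟩
    ext i j
    fin_cases i <;> fin_cases j <;> simp [hb]
    · field_simp
      linear_combination -h00
    · field_simp
      linear_combination -h01

end TwoByTwo

/-- An `r`-subgroup of `SL₂(p)`, `r` odd, is cyclic. -/
theorem isCyclic_of_isPGroup_SL {p r : ℕ} [hp : Fact p.Prime] [hr : Fact r.Prime] (hr2 : r ≠ 2)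
    (R : Subgroup (SpecialLinearGroup (Fin 2) (ZMod p))) (hR : IsPGroup r R) : IsCyclic R := by
  classical
  by_cases htriv : Nontrivial R
  swap
  · haveI : Subsingleton R := not_nontrivial_iff_subsingleton.1 htriv
    exact isCyclic_of_subsingleton
  haveI := hR.center_nontrivial
  obtain ⟨⟨z, hzc⟩, hz1⟩ := exists_ne (1 : Subgroup.center R)
  set Z : Matrix (Fin 2) (Fin 2) (ZMod p) := ((z : SpecialLinearGroup (Fin 2) (ZMod p)) : Matrix (Fin 2) (Fin 2) (ZMod p)) with hZdef
  have hzne : z ≠ 1 := fun h => hz1 (Subtype.ext h)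
  obtain ⟨k, hk⟩ := hR z
  have hrodd : Odd (r ^ k) := (hr.out.odd_of_ne_two hr2).pow
  have hpow : Z ^ (r ^ k) = 1 := by
    have := congrArg (fun g : R => ((g : SpecialLinearGroup (Fin 2) (ZMod p)) : Matrix (Fin 2) (Fin 2) (ZMod p))) hk
    simpa using this
  have hns : ∀ c : ZMod p, Z ≠ c • 1 := fun c hc => by
    have hdet : c ^ 2 = 1 := by
      have := (z : SpecialLinearGroup (Fin 2) (ZMod p)).2
      rw [← hZdef, hc, Matrix.det_smul] at this
      simpa using this
    have hck : c ^ (r ^ k) = 1 := by
      rw [hc, smul_pow, one_pow] at hpow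
      have := congrFun (congrFun hpow 0) 0
      simpa using this
    obtain ⟨j, hj⟩ := hrodd
    rw [hj, pow_succ, pow_mul, hdet, one_pow, one_mul] at hck
    exact hzne (Subtype.ext (Subtype.ext (by rw [← hZdef, hc, hck, one_smul]; rfl)))
  have hcomb : ∀ w : R, ∃ a b : ZMod p,
      ((w : SpecialLinearGroup (Fin 2) (ZMod p)) : Matrix (Fin 2) (Fin 2) (ZMod p)) = a • 1 + b • Z := fun w => by
    refine exists_combination hns ?_
    have := congrArg (fun g : R => ((g : SpecialLinearGroup (Fin 2) (ZMod p)) : Matrix (Fin 2) (Fin 2) (ZMod p)))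
      (Subgroup.mem_center_iff.1 hzc w)
    simpa using this
  choose a b hab using hcomb
  have huniq : ∀ x y x' y' : ZMod p,
      (x • (1 : Matrix (Fin 2) (Fin 2) (ZMod p)) + y • Z = x' • 1 + y' • Z) → x = x' ∧ y = y' := by
    intro x y x' y' h
    have hy : y = y' := by
      by_contra hne
      refine hns ((x' - x) / (y - y')) ?_
      have h1 : (y - y') • Z = (x' - x) • (1 : Matrix (Fin 2) (Fin 2) (ZMod p)) := by
        rw [sub_smul, sub_smul, sub_eq_sub_iff_add_eq_add]
        rw [add_comm (y • Z), h]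
      calc Z = (y - y')⁻¹ • ((y - y') • Z) := by rw [smul_smul, inv_mul_cancel₀ (sub_ne_zero.2 hne), one_smul]
        _ = _ := by rw [h1, smul_smul, div_eq_inv_mul]
    subst hy
    have h1 := add_right_cancel h
    have h2 := congrFun (congrFun h1 0) 0
    exact ⟨by simpa using h2, rfl⟩
  set t := Z 0 0 + Z 1 1 with ht
  have hZ2 : Z * Z = t • Z - (1 : ZMod p) • 1 := by
    rw [sq_two Z, ← Matrix.det_fin_two, (z : SpecialLinearGroup (Fin 2) (ZMod p)).2]
  let L := AlgebraicClosure (ZMod p)
  obtain ⟨l, hl⟩ := IsAlgClosed.exists_root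
    (Polynomial.X ^ 2 - Polynomial.C (algebraMap (ZMod p) L t) * Polynomial.X + 1 : Polynomial L) (by
      have : (Polynomial.X ^ 2 - Polynomial.C (algebraMap (ZMod p) L t) * Polynomial.X + 1 : Polynomial L).degree = 2 := by
        compute_degree!
      rw [this]
      exact two_ne_zero)
  have hl2 : l * l = algebraMap (ZMod p) L t * l - 1 := by
    have h : l ^ 2 - algebraMap (ZMod p) L t * l + 1 = 0 := by simpa [Polynomial.IsRoot] using hl
    linear_combination h
  have hmulab : ∀ v w : R, a (v * w) = a v * a w - b v * b w ∧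
      b (v * w) = a v * b w + b v * a w + b v * b w * t := fun v w => by
    refine huniq _ _ _ _ ?_
    rw [← hab]
    refine Eq.trans (Matrix.SpecialLinearGroup.coe_mul (v : SpecialLinearGroup (Fin 2) (ZMod p)) w) ?_
    rw [hab, hab]
    simp only [add_mul, mul_add, smul_mul_assoc, mul_smul_comm, one_mul, mul_one, hZ2, smul_sub, smul_smul]
    module
  have hone : a 1 = 1 ∧ b 1 = 0 := by
    refine huniq _ _ _ _ ?_
    rw [← hab]
    simp
  let φ : R →* L :=
    { toFun := fun w => algebraMap (ZMod p) L (a w) + algebraMap (ZMod p) L (b w) * l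
      map_one' := by simp [hone.1, hone.2]
      map_mul' := fun v w => by
        rw [(hmulab v w).1, (hmulab v w).2]
        simp only [map_add, map_sub, map_mul]
        linear_combination (-(algebraMap (ZMod p) L (b v)) * algebraMap (ZMod p) L (b w)) * hl2 }
  have hker : ∀ w : R, φ w = 1 → (((w : SpecialLinearGroup (Fin 2) (ZMod p)) : Matrix (Fin 2) (Fin 2) (ZMod p)) - 1) *
      (((w : SpecialLinearGroup (Fin 2) (ZMod p)) : Matrix (Fin 2) (Fin 2) (ZMod p)) - 1) = 0 := fun w hw => by
    set W := ((w : SpecialLinearGroup (Fin 2) (ZMod p)) : Matrix (Fin 2) (Fin 2) (ZMod p)) with hW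
    have hWab : W = a w • 1 + b w • Z := hab w
    by_cases hb : b w = 0
    · have ha : a w = 1 := by
        have : algebraMap (ZMod p) L (a w) = 1 := by simpa [φ, hb] using hw
        exact (algebraMap (ZMod p) L).injective (by rw [this, map_one])
      rw [hWab, ha, hb, one_smul, zero_smul, add_zero, sub_self, mul_zero]
    · set l0 := (1 - a w) / b w with hl0
      have hl0' : l = algebraMap (ZMod p) L l0 := by
        have h1 : algebraMap (ZMod p) L (b w) ≠ 0 := fun h => hb ((algebraMap (ZMod p) L).injective (by rw [h, map_zero]))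
        rw [hl0, map_div₀, map_sub, map_one, eq_div_iff h1]
        have : algebraMap (ZMod p) L (a w) + algebraMap (ZMod p) L (b w) * l = 1 := hw
        linear_combination this
      have hroot : l0 * l0 = t * l0 - 1 := by
        refine (algebraMap (ZMod p) L).injective ?_
        rw [map_mul, map_sub, map_mul, map_one, ← hl0']
        exact hl2
      have hW1 : W - 1 = b w • (Z - l0 • 1) := by
        rw [hWab, smul_sub, smul_smul, hl0, mul_div_cancel₀ _ hb, sub_smul, one_smul]
        abel
      -- the determinant forces the trace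
      have hdet := (w : SpecialLinearGroup (Fin 2) (ZMod p)).2
      rw [← hW, show W = 1 + b w • (Z - l0 • 1) by rw [← hW1, add_sub_cancel], Matrix.det_fin_two] at hdet
      simp at hdet
      have hzdet := (z : SpecialLinearGroup (Fin 2) (ZMod p)).2
      rw [← hZdef, Matrix.det_fin_two] at hzdet
      have htr : b w * (t - 2 * l0) = 0 := by
        rw [ht] at hroot ⊢
        linear_combination hdet - b w ^ 2 * hzdet - b w ^ 2 * hroot
      have ht2 : t = 2 * l0 := sub_eq_zero.1 ((mul_eq_zero.1 htr).resolve_left hb)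
      rw [hW1]
      simp only [smul_mul_assoc, mul_smul_comm, sub_mul, mul_sub, one_mul, mul_one, hZ2, smul_smul]
      rw [ht2] at hroot ⊢
      have h1 : l0 * l0 = 1 := by linear_combination -hroot
      clear_value l0
      match_scalars <;>
        first
          | linear_combination (0 : ZMod p) * h1
          | linear_combination (b w * b w) * h1
          | linear_combination (-(b w * b w)) * h1
  have hkerp : ∀ w : R, φ w = 1 → w ^ p = 1 := fun w hw => by
    set W := ((w : SpecialLinearGroup (Fin 2) (ZMod p)) : Matrix (Fin 2) (Fin 2) (ZMod p)) with hW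
    have hpow' : ∀ n : ℕ, W ^ n = 1 + (n : ZMod p) • (W - 1) := fun n => by
      induction n with
      | zero => simp
      | succ n ih =>
        rw [pow_succ, ih, add_mul, one_mul, smul_mul_assoc,
          show (W - 1) * W = (W - 1) * (W - 1) + (W - 1) by rw [mul_sub (W - 1) W 1, mul_one]; abel, hker w hw,
          zero_add, Nat.cast_succ, add_smul, one_smul]
        abel
    refine Subtype.ext (Subtype.ext ?_)
    show ((((w ^ p : R) : SpecialLinearGroup (Fin 2) (ZMod p))) : Matrix (Fin 2) (Fin 2) (ZMod p)) = 1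
    refine Eq.trans (Matrix.SpecialLinearGroup.coe_pow (w : SpecialLinearGroup (Fin 2) (ZMod p)) p) ?_
    rw [hpow', ZMod.natCast_self, zero_smul, add_zero]
  by_cases hrp : r = p
  · -- every element is unipotent and a power of `z`
    subst hrp
    haveI : CharP (Matrix (Fin 2) (Fin 2) (ZMod r)) r :=
      charP_of_injective_algebraMap (algebraMap (ZMod r) (Matrix (Fin 2) (Fin 2) (ZMod r))).injective r
    have hnil : ∀ w : R, (((w : SpecialLinearGroup (Fin 2) (ZMod r)) : Matrix (Fin 2) (Fin 2) (ZMod r)) - 1) *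
        (((w : SpecialLinearGroup (Fin 2) (ZMod r)) : Matrix (Fin 2) (Fin 2) (ZMod r)) - 1) = 0 := fun w => by
      obtain ⟨j, hj⟩ := hR w
      refine sq_zero_of_nilpotent _ ⟨r ^ j, ?_⟩
      rw [sub_pow_char_pow_of_commute (R := Matrix (Fin 2) (Fin 2) (ZMod r)) (p := r) (n := j) (Commute.one_right _),
        one_pow, sub_eq_zero]
      have := congrArg (fun g : R => ((g : SpecialLinearGroup (Fin 2) (ZMod r)) : Matrix (Fin 2) (Fin 2) (ZMod r))) hj
      simpa using this
    refine ⟨⟨z, fun w => ?_⟩⟩
    set W := ((w : SpecialLinearGroup (Fin 2) (ZMod r)) : Matrix (Fin 2) (Fin 2) (ZMod r)) with hW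
    have hsum : a w + b w = 1 := by
      by_contra hne
      have hW1 : W - 1 = (a w + b w - 1) • 1 + b w • (Z - 1) := by rw [hW, hab]; module
      have h := hnil w
      rw [← hW, hW1] at h
      have h2 : ((a w + b w - 1) * (a w + b w - 1)) • (1 : Matrix (Fin 2) (Fin 2) (ZMod r)) +
          (2 * (a w + b w - 1) * b w) • (Z - 1) = 0 := by
        rw [← h]
        have := hnil z
        rw [← hZdef] at this
        simp only [add_mul, mul_add, smul_mul_assoc, mul_smul_comm, one_mul, mul_one, smul_smul, this, smul_zero, add_zero]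
        module
      have h3 := congrArg (fun M => M * (Z - 1)) h2
      have := hnil z
      rw [← hZdef] at this
      simp only [add_mul, smul_mul_assoc, one_mul, this, smul_zero, add_zero, zero_mul, smul_eq_zero] at h3
      rcases h3 with h3 | h3
      · exact hne (sub_eq_zero.1 (mul_self_eq_zero.1 h3))
      · exact hns 1 (by rw [one_smul]; exact sub_eq_zero.1 h3)
    have hpowz : ∀ n : ℕ, Z ^ n = 1 + (n : ZMod r) • (Z - 1) := fun n => by
      induction n with
      | zero => simp
      | succ n ih =>
        have := hnil z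
        rw [← hZdef] at this
        rw [pow_succ, ih, add_mul, one_mul, smul_mul_assoc,
          show (Z - 1) * Z = (Z - 1) * (Z - 1) + (Z - 1) by rw [mul_sub (Z - 1) Z 1, mul_one]; abel, this,
          zero_add, Nat.cast_succ, add_smul, one_smul]
        abel
    refine ⟨((b w).val : ℤ), ?_⟩
    show z ^ (((b w).val : ℕ) : ℤ) = w
    rw [zpow_natCast]
    refine Subtype.ext (Subtype.ext ?_)
    refine Eq.trans (Matrix.SpecialLinearGroup.coe_pow (z : SpecialLinearGroup (Fin 2) (ZMod r)) _) ?_
    rw [← hZdef, hpowz, ZMod.natCast_zmod_val, hab,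
      show a w = 1 - b w from eq_sub_of_add_eq hsum]
    module
  · refine isCyclic_of_subgroup_isDomain φ ?_
    rw [injective_iff_map_eq_one]
    intro w hw
    obtain ⟨j, hj⟩ := hR w
    have hco : Nat.Coprime p (r ^ j) :=
      ((Nat.coprime_primes hp.out hr.out).2 (Ne.symm hrp)).pow_right j
    have h := pow_gcd_eq_one.2 ⟨hkerp w hw, hj⟩
    rwa [hco, pow_one] at h

end Cfsg.Lib.FixSixth
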