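import Cfsg.Agent.FixSixth.Core
import Cfsg.Agent.FixSixth.PChar
import Cfsg.Agent.FixSixth.CrossChar
import Cfsg.Agent.FixSixth.SLCyclic
import Cfsg.Agent.CoprimeLie.Nilpotent

/-!
# The bound for a minimal supplement of `SL₂(p)`, `p ≡ 2 mod 3`
-/

set_option autoImplicit false

namespace Cfsg.Lib.FixSixth

open Module LinearMap Matrix

universe u v w

section Nilpotent

variable {S : Type u} [Group S] [Finite S]

/-- The `p'`-part of a nilpotent normal subgroup. -/
theorem exists_coprime_part (N : Subgroup S) [N.Normal] [Group.IsNilpotent N] (p : ℕ) [hp : Fact p.Prime] :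
    ∃ Q : Subgroup S, Q.Normal ∧ Q ≤ N ∧ (Nat.card Q).Coprime p ∧ ∀ n ∈ N, ∃ k : ℕ, n ^ p ^ k ∈ Q := by
  classical
  obtain ⟨P⟩ := (inferInstance : Nonempty (Sylow p N))
  have htf := (Group.isNilpotent_of_finite_tfae (G := N)).out 0 3
  haveI hPn : (P : Subgroup N).Normal := htf.1 inferInstance p hp P
  obtain ⟨Q', hQ'⟩ := Subgroup.exists_right_complement'_of_coprime (P.card_coprime_index)
  have hQcard : Nat.card Q' = (P : Subgroup N).index := hQ'.symm.index_eq_card.symm
  have hQp : (Nat.card Q').Coprime p := by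
    rw [hQcard]
    exact ((hp.out.coprime_iff_not_dvd).2 P.not_dvd_index).symm
  have hdecomp : ∀ n : N, ∃ z ∈ (P : Subgroup N), ∃ q ∈ Q', Commute z q ∧ n = z * q := by
    intro n
    obtain ⟨⟨z, q⟩, h⟩ := hQ'.2 n
    refine ⟨z, z.2, q, q.2, ?_, h.symm⟩
    refine Cfsg.Lib.CoprimeLie.commute_of_coprime_orderOf ?_
    obtain ⟨i, hi⟩ := IsPGroup.iff_orderOf.1 P.2 z
    rw [Subgroup.orderOf_coe, Subgroup.orderOf_coe, hi]
    exact Nat.Coprime.pow_left i (hQp.symm.coprime_dvd_right (orderOf_dvd_natCard q))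
  have hsmall : ∀ z ∈ (P : Subgroup N), z ^ Nat.card Q' = 1 → z = 1 := by
    intro z hz h1
    obtain ⟨i, hi⟩ := IsPGroup.iff_orderOf.1 P.2 ⟨z, hz⟩
    rw [Subgroup.orderOf_mk] at hi
    rw [← orderOf_eq_one_iff]
    exact Nat.eq_one_of_dvd_coprimes (Nat.Coprime.pow_left i hQp.symm) (dvd_of_eq hi) (orderOf_dvd_of_pow_eq_one h1)
  have hpow : ∀ q ∈ Q', q ^ Nat.card Q' = 1 := fun q hq =>
    congrArg Subtype.val (pow_card_eq_one' (G := Q') (x := ⟨q, hq⟩))
  refine ⟨Q'.map N.subtype, ⟨?_⟩, Subgroup.map_subtype_le _, ?_, ?_⟩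
  · rintro _ ⟨q, hq, rfl⟩ g
    have hmem : g * (q : S) * g⁻¹ ∈ N := (inferInstance : N.Normal).conj_mem _ q.2 g
    refine ⟨⟨_, hmem⟩, ?_, rfl⟩
    obtain ⟨z, hz, q', hq', hcom, heq⟩ := hdecomp ⟨_, hmem⟩
    have h1 : (⟨_, hmem⟩ : N) ^ Nat.card Q' = 1 := Subtype.ext (by
      show (g * (q : S) * g⁻¹) ^ Nat.card Q' = 1
      rw [conj_pow, ← Subgroup.coe_pow, hpow q hq, Subgroup.coe_one, mul_one, mul_inv_cancel])
    rw [heq, hcom.mul_pow, hpow q' hq', mul_one] at h1
    rw [heq, hsmall z hz h1, one_mul]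
    exact hq'
  · rw [Subgroup.card_map_of_injective N.subtype_injective]
    exact hQp
  · intro n hn
    obtain ⟨z, hz, q, hq, hcom, heq⟩ := hdecomp ⟨n, hn⟩
    obtain ⟨i, hi⟩ := P.2 ⟨z, hz⟩
    refine ⟨i, ⟨q ^ p ^ i, pow_mem hq _, ?_⟩⟩
    have hz1 : z ^ p ^ i = 1 := congrArg Subtype.val hi
    have := congrArg Subtype.val (congrArg (fun x : N => x ^ p ^ i) heq)
    simp only [Subgroup.coe_pow] at this
    rw [show ((z * q : N) : S) ^ p ^ i = ((z * q) ^ p ^ i : N) from (Subgroup.coe_pow N _ _).symm,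
      hcom.mul_pow, hz1, one_mul] at this
    exact this.symm

end Nilpotent

variable {K : Type w} [Field K] [IsAlgClosed K]
variable {p : ℕ} [hp : Fact p.Prime]

local notation "SLp" => SpecialLinearGroup (Fin 2) (ZMod p)

/-- The data of a minimal supplement. -/
structure Supp {S : Type u} [Group S] (π : S →* SLp) where
  /-- the element of order three -/
  x : S
  /-- the unipotent lift -/
  v : S
  /-- exponent -/
  m : ℕ
  hx : π x = x0 p
  hx3 : x ^ 3 = 1
  hv : π v = u0 p
  hvm : v ^ p ^ m = 1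
  hgen : Subgroup.closure ({x, v * x * v⁻¹} : Set S) = ⊤
  surj : Function.Surjective π
  perf : commutator S = ⊤
  nil : Group.IsNilpotent π.ker
  co6 : (Nat.card π.ker).Coprime 6

section Main

variable {S : Type u} [Group S] [Finite S] {π : S →* SpecialLinearGroup (Fin 2) (ZMod p)}

/-- The order of a nilpotent normal subgroup of a faithful irreducible group is invertible. -/
theorem card_ne_zero_of_irr {G : Type u} [Group G] [Finite G] {V : Type v} [AddCommGroup V] [Module K V]
    [FiniteDimensional K V] {ρ : Representation K G V} (hρ : Irr ρ) (hinj : Function.Injective ρ)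
    (N : Subgroup G) [N.Normal] [Group.IsNilpotent N] : (Nat.card N : K) ≠ 0 := by
  intro h
  haveI := hρ.1
  obtain ⟨r, hr⟩ := CharP.exists K
  rw [CharP.cast_eq_zero_iff K r] at h
  rcases CharP.char_is_prime_or_zero K r with hpr | h0
  swap
  · subst h0
    rw [Nat.zero_dvd] at h
    exact Nat.card_pos.ne' h
  haveI : Fact r.Prime := ⟨hpr⟩
  obtain ⟨P⟩ := (inferInstance : Nonempty (Sylow r N))
  have htf := (Group.isNilpotent_of_finite_tfae (G := N)).out 0 3
  haveI hPn : (P : Subgroup N).Normal := htf.1 inferInstance r ⟨hpr⟩ P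
  haveI : (P : Subgroup N).Characteristic := P.characteristic_of_normal hPn
  let R := (P : Subgroup N).map N.subtype
  haveI : R.Normal := inferInstance
  letI := ZMod.algebra K r
  obtain ⟨z, hz0, hz⟩ := exists_fixed_of_pow (p := r) (N := R) ρ (fun n hn => by
    obtain ⟨j, hj⟩ := (P.2.map N.subtype) ⟨n, hn⟩
    exact ⟨j, by rw [← map_pow, show n ^ r ^ j = 1 from congrArg Subtype.val hj, map_one]⟩) (exists_ne 0)
  let X : Submodule K V :=
    { carrier := {y | ∀ n ∈ R, ρ n y = y}
      add_mem' := fun ha hb n hn => by rw [map_add, ha n hn, hb n hn]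
      zero_mem' := fun n _ => map_zero _
      smul_mem' := fun c y hy n hn => by rw [map_smul, hy n hn] }
  have hX : X = ⊤ := by
    refine (hρ.2 X fun g y hy n hn => ?_).resolve_left fun h => ?_
    · have hc : g⁻¹ * n * g ∈ R := by
        have := (inferInstance : R.Normal).conj_mem n hn g⁻¹
        rwa [inv_inv] at this
      rw [← Module.End.mul_apply, ← map_mul, show n * g = g * (g⁻¹ * n * g) by group, map_mul,
        Module.End.mul_apply, hy _ hc]
    · have : z ∈ X := hz
      rw [h, Submodule.mem_bot] at this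
      exact hz0 this
  obtain ⟨n, hn⟩ := exists_prime_orderOf_dvd_card' (G := (P : Subgroup N)) r (P.dvd_card_of_dvd_card h)
  have h1 : ((n : N) : G) = 1 := hinj (by
    rw [map_one]
    exact LinearMap.ext fun y => (hX ▸ Submodule.mem_top : y ∈ X) _ ⟨n, n.2, rfl⟩)
  rw [show n = 1 from Subtype.ext (Subtype.ext h1), orderOf_one] at hn
  exact hpr.one_lt.ne hn

variable (d : Supp π)

/-- An irreducible representation in which the kernel is not trivial. -/
theorem Supp.irr_bound (h3 : (3 : K) ≠ 0) (hp3 : p % 3 = 2) (hp11 : 11 ≤ p) {W : Type v} [AddCommGroup W]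
    [Module K W] [FiniteDimensional K W] {ρ : Representation K S W} (hρ : Irr ρ)
    (hne : ∃ n ∈ π.ker, ρ n ≠ 1) : finrank K W ≤ 4 * fixDim (ρ d.x) := by
  classical
  haveI := hρ.1
  let q : S →* S ⧸ MonoidHom.ker ρ := QuotientGroup.mk' _
  have hq : Function.Surjective q := QuotientGroup.mk'_surjective _
  let τ : Representation K (S ⧸ MonoidHom.ker ρ) W := QuotientGroup.lift _ ρ le_rfl
  have hτ : ∀ g, τ (q g) = ρ g := fun g => rfl
  have hτI : Irr τ := ⟨hρ.1, fun X hX => hρ.2 X fun g => by rw [← hτ]; exact hX _⟩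
  have hτinj : Function.Injective τ := by
    intro a b hab
    obtain ⟨a, rfl⟩ := hq a
    obtain ⟨b, rfl⟩ := hq b
    rw [hτ, hτ] at hab
    refine QuotientGroup.eq.2 (MonoidHom.mem_ker.2 ?_)
    rw [map_mul, ← hab, ← map_mul, inv_mul_cancel, map_one]
  let N := π.ker.map q
  haveI : N.Normal := Subgroup.Normal.map inferInstance q hq
  haveI := d.nil
  haveI : Group.IsNilpotent N := Group.nilpotent_of_surjective (q.subgroupMap π.ker) (q.subgroupMap_surjective π.ker)
  have hperf : commutator (S ⧸ MonoidHom.ker ρ) = ⊤ := by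
    rw [commutator_def, ← Subgroup.map_top_of_surjective q hq, ← Subgroup.map_commutator, ← commutator_def, d.perf]
  have hgen : Subgroup.closure ({q d.x, q d.v * q d.x * (q d.v)⁻¹} : Set (S ⧸ MonoidHom.ker ρ)) = ⊤ := by
    rw [← Subgroup.map_top_of_surjective q hq, ← d.hgen, MonoidHom.map_closure, Set.image_pair, map_mul, map_mul,
      map_inv]
  have hy : π (d.v * d.x * d.v⁻¹) = y0 p := by rw [map_mul, map_mul, map_inv, d.hv, d.hx, y0_eq]
  have hN1 : N ≠ ⊥ := by
    obtain ⟨n, hn, hn1⟩ := hne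
    intro h
    have : q n ∈ N := ⟨n, hn, rfl⟩
    rw [h, Subgroup.mem_bot] at this
    exact hn1 (by rw [← hτ, this, map_one])
  have hdvd : Nat.card N ∣ Nat.card π.ker := Subgroup.card_map_dvd _ q
  have hN6 : (Nat.card N).Coprime 6 := d.co6.coprime_dvd_left hdvd
  have h := core_bound (G := S ⧸ MonoidHom.ker ρ) (ρ := τ) (N := N) (p := p) (a := q d.x) (v := q d.v) (m := d.m) h3
    hperf hτI hτinj hN1 hN6 (card_ne_zero_of_irr hτI hτinj N) ?_ hp3 hp11
    (by rw [← map_pow, d.hx3, map_one]) (by rw [← map_pow, d.hvm, map_one]) hgen ?_ ?_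
  · rwa [hτ] at h
  · -- the Sylow subgroups are cyclic modulo the kernel
    intro r hr hrN R hR
    haveI : Fact r.Prime := ⟨hr⟩
    have hr2 : r ≠ 2 := fun h => by
      subst h
      have : (2 : ℕ) ∣ 1 := by
        rw [← hN6.gcd_eq_one]
        exact Nat.dvd_gcd hrN (by norm_num)
      norm_num at this
    obtain ⟨R1, hR1⟩ := hR.exists_le_sylow
    obtain ⟨T, hT⟩ := Sylow.mapSurjective_surjective (p := r) hq R1
    haveI := isCyclic_of_isPGroup_SL (p := p) hr2 ((T : Subgroup S).map π) (T.2.map π)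
    obtain ⟨⟨c0, c, hc, hcc⟩, hgc⟩ := IsCyclic.exists_generator (α := ↥((T : Subgroup S).map π))
    refine ⟨q c, fun g hg => ?_⟩
    have hg' : g ∈ (T : Subgroup S).map q := by
      have := hR1 hg
      rw [← hT] at this
      exact this
    obtain ⟨s, hs, rfl⟩ := hg'
    obtain ⟨i, hi⟩ := hgc ⟨π s, s, hs, rfl⟩
    refine ⟨-i, s * c ^ (-i), ?_, by rw [map_mul, map_zpow]⟩
    have hi' : c0 ^ i = π s := congrArg Subtype.val hi
    rw [SetLike.mem_coe, MonoidHom.mem_ker, map_mul, map_zpow, hcc, ← hi', ← _root_.zpow_add, add_neg_cancel,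
      _root_.zpow_zero]
  · refine ⟨(d.x * (d.v * d.x * d.v⁻¹)) ^ (2 * p), ?_, by simp⟩
    rw [SetLike.mem_coe, MonoidHom.mem_ker, map_pow, map_mul, d.hx, hy, xy_pow]
  · refine ⟨(d.x * (d.v * d.x * d.v⁻¹)⁻¹) ^ (p ^ 2 - 1), ?_, by simp⟩
    rw [SetLike.mem_coe, MonoidHom.mem_ker, map_pow, map_mul, map_inv, d.hx, hy, xyi_pow (by omega) (by omega)]

/-- Cross characteristic. -/
theorem Supp.cross_bound (h3 : (3 : K) ≠ 0) (hp3 : p % 3 = 2) (hp11 : 11 ≤ p) (hpK : (p : K) ≠ 0) :
    ∀ (W : Type v) [AddCommGroup W] [Module K W] [FiniteDimensional K W] (ρ : Representation K S W),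
      finrank K W ≤ 5 * fixDim (ρ d.x) := by
  refine rep_induction (motive := fun W _ _ _ ρ => finrank K W ≤ 5 * fixDim (ρ d.x))
    (fun W _ _ _ ρ hW => ?_) (fun W _ _ _ ρ hρ => ?_) (fun W _ _ _ ρ q hq ih1 ih2 => ?_)
  · haveI := hW
    rw [finrank_zero_of_subsingleton]
    exact Nat.zero_le _
  · by_cases hne : ∃ n ∈ π.ker, ρ n ≠ 1
    · have := d.irr_bound h3 hp3 hp11 hρ hne
      omega
    · push Not at hne
      have hk : π.ker ≤ MonoidHom.ker ρ := fun n hn => MonoidHom.mem_ker.2 (hne n hn)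
      let e : S ⧸ π.ker ≃* SpecialLinearGroup (Fin 2) (ZMod p) :=
        QuotientGroup.quotientKerEquivOfSurjective π d.surj
      let σ : Representation K (SpecialLinearGroup (Fin 2) (ZMod p)) W :=
        (QuotientGroup.lift π.ker ρ hk).comp e.symm.toMonoidHom
      have hσ : σ (x0 p) = ρ d.x := by
        have : e (d.x : S ⧸ π.ker) = x0 p := d.hx
        show QuotientGroup.lift π.ker ρ hk (e.symm (x0 p)) = ρ d.x
        rw [← this, MulEquiv.symm_apply_apply]
        rfl
      have h := sl_cross_bound hp3 hp11 hpK h3 σ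
      rwa [hσ] at h
  · have h := fixDim_quot (k := 3) (by exact_mod_cast h3) (T := ρ d.x)
      (by rw [← map_pow, d.hx3, map_one]) q (hq d.x)
    have hn := q.finrank_quotient_add_finrank
    have e1 : fixDim (ρ.subrepresentation q hq d.x) + fixDim (ρ.quotient q hq d.x) = fixDim (ρ d.x) := h
    omega

variable [CharP K p] [Algebra (ZMod p) K]

/-- The defining characteristic. -/
theorem Supp.char_bound (h3 : (3 : K) ≠ 0) (hp3 : p % 3 = 2) (hp11 : 11 ≤ p) (c : Cfg π) (hc : c.x = d.x)
    {W : Type v} [AddCommGroup W] [Module K W] [FiniteDimensional K W] (ρ : Representation K S W) :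
    ∃ g : S, g ≠ 1 ∧ finrank K W ≤ 6 * fixDim (ρ g) := by
  classical
  haveI := d.nil
  haveI := Fintype.ofFinite S
  obtain ⟨Q, hQn, hQle, hQp, hQpow⟩ := exists_coprime_part π.ker p
  have hQK : (Nat.card Q : K) ≠ 0 := fun h => by
    rw [CharP.cast_eq_zero_iff K p] at h
    exact (hp.out.coprime_iff_not_dvd).1 hQp.symm h
  -- the projection on the fixed points of the part of order prime to `p`
  set e : End K W := ∑ q : Q, ρ (q : S) with he
  have hcomm : ∀ g, e * ρ g = ρ g * e := fun g => by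
    rw [he, Finset.sum_mul, Finset.mul_sum]
    refine Fintype.sum_equiv (MulAut.conjNormal g⁻¹ : MulAut Q).toEquiv _ _ fun q => ?_
    show ρ (q : S) * ρ g = ρ g * ρ (((MulAut.conjNormal g⁻¹ : MulAut Q) q : Q) : S)
    rw [MulAut.conjNormal_apply, inv_inv, ← map_mul, ← map_mul]
    congr 1
    group
  have hfix : ∀ (q : Q) (y : W), ρ (q : S) (e y) = e y := fun q y => by
    rw [he, LinearMap.sum_apply, map_sum]
    exact Fintype.sum_equiv (Equiv.mulLeft q) _ _ fun r => by
      rw [Equiv.coe_mulLeft, Subgroup.coe_mul, map_mul, Module.End.mul_apply]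
  have hrange : ∀ g, range e ≤ (range e).comap (ρ g) := by
    rintro g _ ⟨y, rfl⟩
    exact ⟨ρ g y, LinearMap.congr_fun (hcomm g) y⟩
  set A := ρ.subrepresentation (range e) hrange
  have hA : ∀ n ∈ π.ker, ∃ j, A n ^ p ^ j = 1 := fun n hn => by
    obtain ⟨j, hj⟩ := hQpow n hn
    refine ⟨j, ?_⟩
    rw [← map_pow]
    refine LinearMap.ext fun y => Subtype.ext ?_
    obtain ⟨z, hz⟩ := y.2
    show ρ (n ^ p ^ j) (y : W) = (y : W)
    rw [← hz]
    exact hfix ⟨_, hj⟩ z
  -- the complementary part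
  have hker : ∀ g, ker e ≤ (ker e).comap (ρ g) := fun g y hy => by
    rw [Submodule.mem_comap, LinearMap.mem_ker, ← Module.End.mul_apply, hcomm, Module.End.mul_apply,
      LinearMap.mem_ker.1 hy, map_zero]
  have hB : ∀ (U : Type v) [AddCommGroup U] [Module K U] [FiniteDimensional K U] (σ : Representation K S U),
      (∀ y, ∑ q : Q, σ (q : S) y = 0) → finrank K U ≤ 4 * fixDim (σ d.x) := by
    refine rep_induction (motive := fun U _ _ _ σ =>
        (∀ y, ∑ q : Q, σ (q : S) y = 0) → finrank K U ≤ 4 * fixDim (σ d.x))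
      (fun U _ _ _ σ hU _ => ?_) (fun U _ _ _ σ hσ h0 => ?_) (fun U _ _ _ σ q hq ih1 ih2 h0 => ?_)
    · haveI := hU
      rw [finrank_zero_of_subsingleton]
      exact Nat.zero_le _
    · refine d.irr_bound h3 hp3 hp11 hσ ?_
      by_contra hne
      push Not at hne
      haveI := hσ.1
      obtain ⟨y, hy⟩ := exists_ne (0 : U)
      have h := h0 y
      have hone : ∀ q : Q, σ (q : S) y = y := fun q => by
        have hq : (q : S) ∈ π.ker := hQle q.2
        rw [hne _ hq, Module.End.one_apply]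
      rw [Finset.sum_congr rfl fun q _ => hone q, Finset.sum_const, Finset.card_univ, ← Nat.card_eq_fintype_card,
        ← Nat.cast_smul_eq_nsmul K] at h
      exact hy ((smul_eq_zero.1 h).resolve_left hQK)
    · have h := fixDim_quot (k := 3) (by exact_mod_cast h3) (T := σ d.x)
        (by rw [← map_pow, d.hx3, map_one]) q (hq d.x)
      have e1 : fixDim (σ.subrepresentation q hq d.x) + fixDim (σ.quotient q hq d.x) = fixDim (σ d.x) := h
      have hn := q.finrank_quotient_add_finrank
      have i1 := ih1 fun y => Subtype.ext (by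
        rw [AddSubmonoidClass.coe_finsetSum, Submodule.coe_zero]
        exact h0 y)
      have i2 := ih2 fun z => by
        obtain ⟨y, rfl⟩ := q.mkQ_surjective z
        rw [show (∑ r : Q, σ.quotient q hq (r : S) (q.mkQ y)) = q.mkQ (∑ r : Q, σ (r : S) y) by
          rw [map_sum]; rfl, h0 y, map_zero]
      omega
  have hBk := hB ↥(ker e) (ρ.subrepresentation (ker e) hker) fun y => Subtype.ext (by
    rw [AddSubmonoidClass.coe_finsetSum, Submodule.coe_zero]
    show ∑ q : Q, ρ (q : S) (y : W) = 0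
    rw [← LinearMap.sum_apply]
    exact LinearMap.mem_ker.1 y.2)
  obtain ⟨h', -, hh'1, hbound⟩ := c.bound (ρ := A) hp3 hp11 d.surj hA
  rw [hc] at hbound
  have hn := LinearMap.finrank_range_add_finrank_ker e
  have hinf : range e ⊓ ker e = ⊥ := by
    rw [eq_bot_iff]
    rintro _ ⟨⟨y, rfl⟩, hy⟩
    have h2 : e (e y) = (Nat.card Q : K) • e y := by
      conv_lhs => rw [he, LinearMap.sum_apply]
      rw [← he, Finset.sum_congr rfl fun q _ => hfix q y, Finset.sum_const, Finset.card_univ,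
        ← Nat.card_eq_fintype_card, Nat.cast_smul_eq_nsmul]
    rw [SetLike.mem_coe, LinearMap.mem_ker, h2] at hy
    exact (Submodule.mem_bot K).2 ((smul_eq_zero.1 hy).resolve_left hQK)
  have hx : fixDim (A d.x) + fixDim (ρ.subrepresentation (ker e) hker d.x) ≤ fixDim (ρ d.x) := by
    have hle : ∀ (X : Submodule K W) (hX : ∀ g, X ≤ X.comap (ρ g)),
        (ker (ρ.subrepresentation X hX d.x - 1)).map X.subtype ≤ ker (ρ d.x - 1) := by
      rintro X hX _ ⟨y, hy, rfl⟩
      rw [mem_ker_sub_one]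
      exact congrArg Subtype.val (mem_ker_sub_one.1 hy)
    have h := Submodule.finrank_mono (sup_le (hle (range e) hrange) (hle (ker e) hker))
    have h2 := Submodule.finrank_sup_add_finrank_inf_eq ((ker (A d.x - 1)).map (range e).subtype)
      ((ker (ρ.subrepresentation (ker e) hker d.x - 1)).map (ker e).subtype)
    have h4 : ((ker (A d.x - 1)).map (range e).subtype) ⊓
        ((ker (ρ.subrepresentation (ker e) hker d.x - 1)).map (ker e).subtype) = ⊥ :=
      eq_bot_iff.2 ((inf_le_inf (Submodule.map_subtype_le _ _) (Submodule.map_subtype_le _ _)).trans hinf.le)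
    rw [h4, finrank_bot, Submodule.finrank_map_subtype_eq, Submodule.finrank_map_subtype_eq] at h2
    rw [show ρ.subrepresentation (range e) hrange = A from rfl] at h
    unfold fixDim
    omega
  have hu : fixDim (A h') ≤ fixDim (ρ h') := by
    refine LinearMap.finrank_le_finrank_of_injective
      (f := ((range e).subtype.comp (ker (A h' - 1)).subtype).codRestrict (ker (ρ h' - 1)) fun y => ?_) ?_
    · rw [mem_ker_sub_one]
      exact congrArg Subtype.val (mem_ker_sub_one.1 y.2)
    · intro y y' hy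
      have h := congrArg (fun z : ↥(ker (ρ h' - 1)) => (z : W)) hy
      exact Subtype.ext (Subtype.ext h)
  have hx1 : d.x ≠ 1 := fun h => x0_ne_one (p := p) (by rw [← d.hx, h, map_one])
  by_cases hbig : fixDim (ρ h') ≤ fixDim (ρ d.x)
  · exact ⟨d.x, hx1, by omega⟩
  · exact ⟨h', hh'1, by omega⟩

end Main

end Cfsg.Lib.FixSixth
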