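import Cfsg.Agent.FixSixth.Blocks

/-!
# Fixed spaces for small configurations: elementary abelian groups of rank two, Frobenius groups
-/

set_option autoImplicit false

namespace Cfsg.Lib.FixSixth

open Module LinearMap

universe u v w

variable {K : Type w} [Field K] [IsAlgClosed K] {V : Type v} [AddCommGroup V] [Module K V]
  [FiniteDimensional K V]

/-- An operator of order three and weights of an abelian group normalised by it. -/
theorem fixDim_weights {A : Type u} [Group A] [Finite A] (hab : ∀ a b : A, a * b = b * a)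
    (hA : (Nat.card A : K) ≠ 0) (h3 : (3 : K) ≠ 0) (ρ : Representation K A V) {T : End K V}
    (hT : T ^ 3 = 1) (φ : A ≃* A) (hφ : ∀ a, φ (φ (φ a)) = a) (hTA : ∀ a, T * ρ a = ρ (φ a) * T)
    (S : Submodule K V) (hS : ∀ χ : A →* K, (∀ a, χ (φ a) = χ a) → weight ρ χ ≤ S) :
    finrank K V ≤ 3 * fixDim T + finrank K S := by
  classical
  haveI := (iSupIndep_weight ρ).fintypeNeBotOfFiniteDimensional
  let ι := {χ : A →* K // weight ρ χ ≠ ⊥}
  have hTinj : Function.Injective T := by
    intro a b h
    have h1 := LinearMap.congr_fun hT a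
    have h2 := LinearMap.congr_fun hT b
    simp only [pow_succ, pow_zero, one_mul, Module.End.mul_apply, Module.End.one_apply] at h1 h2
    rw [← h1, h, h2]
  have hmove : ∀ (χ : A →* K) v, v ∈ weight ρ χ → T v ∈ weight ρ (χ.comp φ.symm.toMonoidHom) := by
    intro χ v hv
    refine mem_weight.2 fun a => ?_
    have h := LinearMap.congr_fun (hTA (φ.symm a)) v
    rw [MulEquiv.apply_symm_apply, Module.End.mul_apply, Module.End.mul_apply, mem_weight.1 hv,
      map_smul] at h
    exact h.symm
  have hne : ∀ χ : ι, weight ρ ((χ : A →* K).comp φ.symm.toMonoidHom) ≠ ⊥ := fun χ h => by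
    obtain ⟨v, hv, hv0⟩ := Submodule.exists_mem_ne_zero_of_ne_bot χ.2
    have := hmove _ v hv
    rw [h, Submodule.mem_bot] at this
    exact hv0 (hTinj (by rw [this, map_zero]))
  let σ : ι → ι := fun χ => ⟨(χ : A →* K).comp φ.symm.toMonoidHom, hne χ⟩
  have hσ : ∀ i, σ (σ (σ i)) = i := fun i => by
    refine Subtype.ext (MonoidHom.ext fun a => ?_)
    show (i : A →* K) (φ.symm (φ.symm (φ.symm a))) = _
    congr 1
    rw [MulEquiv.symm_apply_eq, MulEquiv.symm_apply_eq, MulEquiv.symm_apply_eq]
    exact (hφ a).symm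
  have hind : iSupIndep fun i : ι => weight ρ (i : A →* K) :=
    (iSupIndep_weight ρ).comp Subtype.val_injective
  have htop : ⨆ i : ι, weight ρ (i : A →* K) = ⊤ := by
    rw [eq_top_iff, ← iSup_weight hab hA ρ]
    refine iSup_le fun χ => ?_
    by_cases h : weight ρ χ = ⊥
    · simp [h]
    · exact le_iSup_of_le (⟨χ, h⟩ : ι) le_rfl
  have h := (fixDim_perm h3 hT hind htop σ hσ (fun i v hv => hmove _ v hv)).1
  have hall : ∑ i : ι, finrank K ↥(weight ρ (i : A →* K)) = finrank K V := by
    rw [← finrank_biSup hind, show (⨆ i ∈ (Finset.univ : Finset ι), weight ρ (i : A →* K)) = ⊤ by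
      simp [htop], finrank_top]
  rw [← Finset.sum_filter_add_sum_filter_not Finset.univ (fun i : ι => σ i = i)] at hall
  have hF : ∑ i ∈ Finset.univ.filter (fun i : ι => σ i = i), finrank K ↥(weight ρ (i : A →* K)) ≤
      finrank K S := by
    rw [← finrank_biSup hind]
    refine Submodule.finrank_mono (iSup₂_le fun i hi => hS _ fun a => ?_)
    have h1 : (σ i).1 (φ a) = (i : A →* K) (φ a) := by rw [(Finset.mem_filter.1 hi).2]
    have h2 : (σ i).1 (φ a) = (i : A →* K) a := by
      show (i : A →* K) (φ.symm (φ a)) = _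
      rw [MulEquiv.symm_apply_apply]
    rw [← h1, h2]
  simp only [ne_eq] at h hall
  omega

/-- The Frobenius case in cross characteristic. -/
theorem frobenius_cross {G : Type u} [Group G] {p : ℕ} [hp : Fact p.Prime] (hpK : (p : K) ≠ 0)
    (h3 : (3 : K) ≠ 0) (ρ : Representation K G V) {t h : G} {s : ℕ} (ht : t ^ 3 = 1) (hh : h ^ p = 1)
    (hth : t * h * t⁻¹ = h ^ s) (hs : (s : ZMod p) ≠ 1) :
    finrank K V ≤ 4 * fixDim (ρ t) ∨ finrank K V ≤ 4 * fixDim (ρ h) := by
  classical
  set A := Subgroup.zpowers h with hA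
  have hfin : Finite A := by
    have : IsOfFinOrder h := isOfFinOrder_iff_pow_eq_one.2 ⟨p, hp.out.pos, hh⟩
    exact (this.finite_zpowers).to_subtype
  have hnorm : ∀ a ∈ A, t * a * t⁻¹ ∈ A := by
    rintro _ ⟨j, rfl⟩
    refine ⟨(s : ℤ) * j, ?_⟩
    show h ^ ((s : ℤ) * j) = t * h ^ j * t⁻¹
    rw [← conj_zpow, hth, zpow_mul, zpow_natCast]
  let φ : A →* A :=
    { toFun := fun a => ⟨t * a * t⁻¹, hnorm a a.2⟩
      map_one' := Subtype.ext (by simp)
      map_mul' := fun a b => Subtype.ext (by simp only [Subgroup.coe_mul]; group) }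
  have hφ3 : ∀ a, φ (φ (φ a)) = a := fun a => Subtype.ext (by
    show t * (t * (t * a * t⁻¹) * t⁻¹) * t⁻¹ = a
    have : t * (t * (t * a * t⁻¹) * t⁻¹) * t⁻¹ = t ^ 3 * a * (t ^ 3)⁻¹ := by
      simp only [pow_succ, pow_zero, one_mul, mul_inv_rev, mul_assoc]
    rw [this, ht, one_mul, inv_one, mul_one])
  let e : A ≃* A := MonoidHom.toMulEquiv φ (φ.comp φ) (MonoidHom.ext hφ3) (MonoidHom.ext hφ3)
  have hcard : Nat.card A ∣ p := by rw [Nat.card_zpowers]; exact orderOf_dvd_of_pow_eq_one hh
  have hA0 : (Nat.card A : K) ≠ 0 := by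
    rcases (Nat.dvd_prime hp.out).1 hcard with h | h <;> simp [h, hpK]
  have habA : ∀ a b : A, a * b = b * a := by
    rintro ⟨_, i, rfl⟩ ⟨_, j, rfl⟩
    exact Subtype.ext (by simp [← zpow_add, add_comm])
  have hw := fixDim_weights habA hA0 h3 (ρ.comp A.subtype) (T := ρ t)
    (by rw [← map_pow, ht, map_one]) e (fun a => hφ3 a) (fun a => by
      show ρ t * ρ (a : G) = ρ (t * a * t⁻¹) * ρ t
      rw [← map_mul, ← map_mul, inv_mul_cancel_right])
    (ker (ρ h - 1)) (fun χ hχ v hv => by
      rw [mem_ker_sub_one]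
      have hv' := mem_weight.1 hv ⟨h, Subgroup.mem_zpowers h⟩
      have hc : χ ⟨h, Subgroup.mem_zpowers h⟩ = 1 := by
        set a : A := ⟨h, Subgroup.mem_zpowers h⟩ with ha
        have he : e a = a ^ s := Subtype.ext (by rw [SubmonoidClass.coe_pow]; exact hth)
        have hs' : χ a ^ s = χ a := by rw [← map_pow, ← he, hχ]
        have hp' : χ a ^ p = 1 := by
          rw [← map_pow, show a ^ p = 1 from Subtype.ext (by rw [SubmonoidClass.coe_pow]; exact hh),
            map_one]
        by_contra hne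
        have hord : orderOf (χ a) = p := orderOf_eq_prime hp' hne
        rcases Nat.eq_zero_or_pos s with h0 | hs0
        · rw [h0, pow_zero] at hs'; exact hne hs'.symm
        have h1 : χ a ^ (s - 1) = 1 := by
          have : χ a ^ (s - 1) * χ a = 1 * χ a := by rw [← pow_succ, Nat.sub_add_cancel hs0, hs', one_mul]
          exact mul_right_cancel₀ (fun h => by rw [h, zero_pow hp.out.ne_zero] at hp'; exact zero_ne_one hp') this
        refine hs ?_
        have h2 := orderOf_dvd_of_pow_eq_one h1
        rw [hord, ← ZMod.natCast_eq_zero_iff, Nat.cast_sub hs0, Nat.cast_one, sub_eq_zero] at h2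
        exact h2
      rw [hc, one_smul] at hv'
      exact hv')
  unfold fixDim at *
  omega

omit [IsAlgClosed K] in
/-- In characteristic `r`, an element of order dividing `r` fixes an `r`-th of the space. -/
theorem fixDim_char {r : ℕ} [Fact r.Prime] [CharP K r] {T : End K V} (hT : T ^ r = 1) :
    finrank K V ≤ r * fixDim T := by
  have h0 : (T - 1) ^ r = 0 := by
    rcases subsingleton_or_nontrivial (End K V) with h | h
    · exact Subsingleton.elim _ _
    · haveI : CharP (End K V) r := charP_of_injective_algebraMap (algebraMap K (End K V)).injective r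
      rw [sub_pow_char_of_commute (R := End K V) (p := r) (Commute.one_right T), one_pow, hT, sub_self]
  have h : ∀ i, finrank K ↥(ker ((T - 1) ^ i)) ≤ i * fixDim T := fun i => by
    induction i with
    | zero => simp [Module.End.one_eq_id, ker_id]
    | succ i ih =>
      have h1 := LinearMap.finrank_range_add_finrank_ker (((T - 1) ^ i).comp (ker ((T - 1) ^ (i + 1))).subtype)
      have h2 : finrank K ↥(range (((T - 1) ^ i).comp (ker ((T - 1) ^ (i + 1))).subtype)) ≤ fixDim T := by
        refine Submodule.finrank_mono ?_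
        rintro _ ⟨⟨v, hv⟩, rfl⟩
        rw [mem_ker, pow_succ', Module.End.mul_apply] at hv
        exact hv
      have h3 : finrank K ↥(ker (((T - 1) ^ i).comp (ker ((T - 1) ^ (i + 1))).subtype)) ≤
          finrank K ↥(ker ((T - 1) ^ i)) := by
        rw [ker_comp, ← Submodule.finrank_map_subtype_eq, Submodule.map_comap_eq]
        exact Submodule.finrank_mono inf_le_right
      rw [Nat.succ_mul]
      omega
  have := h r
  rwa [h0, ker_zero, finrank_top] at this

/-- A noncyclic group of order `r²` has an element fixing a part `1/(r+1)` of the space. -/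
theorem fixDim_rank_two {G : Type u} [Group G] {r : ℕ} [hr : Fact r.Prime] (hrK : (r : K) ≠ 0)
    (ρ : Representation K G V) {a b : G} (hab : a * b = b * a) (ha : a ^ r = 1) (hb : b ^ r = 1)
    (ha1 : a ≠ 1) (hb1 : b ∉ Subgroup.zpowers a) :
    ∃ g : G, g ≠ 1 ∧ finrank K V ≤ (r + 1) * fixDim (ρ g) := by
  classical
  haveI : NeZero r := ⟨hr.out.ne_zero⟩
  let f : Multiplicative (ZMod r × ZMod r) →* G :=
    { toFun := fun x => a ^ (Multiplicative.toAdd x).1.val * b ^ (Multiplicative.toAdd x).2.val
      map_one' := by simp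
      map_mul' := fun x y => by
        simp only [toAdd_mul, Prod.fst_add, Prod.snd_add, ZMod.val_add]
        rw [← pow_eq_pow_mod _ ha, ← pow_eq_pow_mod _ hb, pow_add, pow_add]
        have hc : ∀ i j, b ^ i * a ^ j = a ^ j * b ^ i := fun i j =>
          ((Commute.pow_pow (hab.symm : Commute b a) i j)).eq
        rw [mul_assoc, ← mul_assoc (a ^ _) (b ^ _) (b ^ _), ← hc, ← mul_assoc, ← mul_assoc,
          mul_assoc] }
  set σ := ρ.comp f
  have hcard : (Nat.card (Multiplicative (ZMod r × ZMod r)) : K) ≠ 0 := by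
    rw [Nat.card_congr Multiplicative.toAdd, Nat.card_prod, Nat.card_zmod, Nat.cast_mul]
    exact mul_ne_zero hrK hrK
  set els : Fin (r + 1) → G := fun i => if i.val = r then a else a ^ i.val * b with hels
  have hels1 : ∀ i, els i ≠ 1 := fun i => by
    simp only [hels]
    split_ifs
    · exact ha1
    · intro h
      exact hb1 (by
        rw [show b = (a ^ i.val)⁻¹ by exact eq_inv_of_mul_eq_one_right h]
        exact inv_mem (pow_mem (Subgroup.mem_zpowers a) _))
  by_contra hcon
  push Not at hcon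
  have htop : (⊤ : Submodule K V) ≤ ⨆ i, ker (ρ (els i) - 1) := by
    rw [← iSup_weight (fun x y => mul_comm x y) hcard σ]
    refine iSup_le fun χ v hv => ?_
    have hva : ρ a v = χ (Multiplicative.ofAdd (1, 0)) • v := by
      have h := mem_weight.1 hv (Multiplicative.ofAdd (1, 0))
      simpa [σ, f, ZMod.val_one'', hr.out.ne_one] using h
    have hvb : ρ b v = χ (Multiplicative.ofAdd (0, 1)) • v := by
      have h := mem_weight.1 hv (Multiplicative.ofAdd (0, 1))
      simpa [σ, f, ZMod.val_one'', hr.out.ne_one] using h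
    set ca := χ (Multiplicative.ofAdd (1, 0))
    set cb := χ (Multiplicative.ofAdd (0, 1))
    have hpr : ∀ z : ZMod r × ZMod r, χ (Multiplicative.ofAdd z) ^ r = 1 := fun z => by
      rw [← map_pow, ← ofAdd_nsmul]
      rw [show r • z = 0 from by ext <;> simp, ofAdd_zero, map_one]
    by_cases h1 : ca = 1
    · refine Submodule.mem_iSup_of_mem ⟨r, Nat.lt_succ_self r⟩ ?_
      rw [mem_ker_sub_one]
      simp only [hels, if_true, hva, h1, one_smul]
    · have hprim : IsPrimitiveRoot ca r :=
        IsPrimitiveRoot.iff_orderOf.2 (orderOf_eq_prime (hpr _) h1)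
      have hcb : (cb⁻¹) ^ r = 1 := by rw [inv_pow, hpr, inv_one]
      obtain ⟨j, hj, hj'⟩ := hprim.eq_pow_of_pow_eq_one hcb
      refine Submodule.mem_iSup_of_mem ⟨j, by omega⟩ ?_
      rw [mem_ker_sub_one]
      simp only [hels, if_neg (ne_of_lt hj), map_mul, Module.End.mul_apply, hvb, map_smul, map_pow]
      rw [pow_apply_eigen hva, hj', smul_smul,
        mul_inv_cancel₀ (fun h => by simp [h, hr.out.ne_zero] at hcb), one_smul]
  have h2 : ∀ (s : Finset (Fin (r + 1))), finrank K ↥(⨆ i ∈ s, ker (ρ (els i) - 1)) ≤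
      ∑ i ∈ s, fixDim (ρ (els i)) := fun s => by
    induction s using Finset.induction with
    | empty => rw [show (⨆ i ∈ (∅ : Finset (Fin (r + 1))), ker (ρ (els i) - 1)) = ⊥ by simp, finrank_bot]; simp
    | insert c s hc ih =>
      rw [Finset.sum_insert hc, Finset.iSup_insert]
      exact (Submodule.finrank_add_le_finrank_add_finrank _ _).trans (Nat.add_le_add_left ih _)
  have h3 := h2 Finset.univ
  rw [show (⨆ i ∈ (Finset.univ : Finset (Fin (r + 1))), ker (ρ (els i) - 1)) = ⊤ by
    rw [eq_top_iff]; simpa using htop, finrank_top] at h3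
  have h4 : (r + 1) * ∑ i, fixDim (ρ (els i)) < (r + 1) * finrank K V := by
    rw [Finset.mul_sum]
    calc ∑ i, (r + 1) * fixDim (ρ (els i)) < ∑ _i : Fin (r + 1), finrank K V :=
          Finset.sum_lt_sum_of_nonempty Finset.univ_nonempty fun i _ => hcon _ (hels1 i)
      _ = (r + 1) * finrank K V := by simp
  exact absurd (Nat.mul_le_mul_left (r + 1) h3) (not_le.2 h4)

end Cfsg.Lib.FixSixth
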