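import Cfsg.Agent.FixSixth.SymPow
import Cfsg.Agent.FixSixth.Small

/-!
# The irreducible representations of `SL₂(p)` in characteristic `p`
-/

set_option autoImplicit false

namespace Cfsg.Lib.FixSixth

open Module LinearMap Matrix

universe u v v' w

section Transfer

variable {K : Type w} [Field K] {V : Type v} [AddCommGroup V] [Module K V]
  {V' : Type v'} [AddCommGroup V'] [Module K V']

theorem finrank_ker_transfer (e : V ≃ₗ[K] V') {A : End K V} {B : End K V'} (h : ∀ x, e (A x) = B (e x)) :
    finrank K ↥(LinearMap.ker A) = finrank K ↥(LinearMap.ker B) := by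
  rw [← LinearEquiv.finrank_map_eq e]
  suffices hs : (LinearMap.ker A).map (e : V →ₗ[K] V') = LinearMap.ker B by rw [hs]
  ext y
  constructor
  · rintro ⟨x, hx, rfl⟩
    rw [LinearMap.mem_ker]
    show B (e x) = 0
    rw [← h, LinearMap.mem_ker.1 hx, map_zero]
  · intro hy
    refine ⟨e.symm y, ?_, e.apply_symm_apply y⟩
    rw [SetLike.mem_coe, LinearMap.mem_ker]
    refine e.injective ?_
    rw [h, e.apply_symm_apply, LinearMap.mem_ker.1 hy, map_zero]

/-- The kernels of the powers grow at most by the kernel of the operator. -/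
theorem finrank_ker_pow [FiniteDimensional K V] (N : End K V) (i : ℕ) :
    finrank K ↥(LinearMap.ker (N ^ i)) ≤ i * finrank K ↥(LinearMap.ker N) := by
  induction i with
  | zero => simp [Module.End.one_eq_id, ker_id]
  | succ i ih =>
    have h1 := LinearMap.finrank_range_add_finrank_ker ((N ^ i).comp (LinearMap.ker (N ^ (i + 1))).subtype)
    have h2 : finrank K ↥(LinearMap.range ((N ^ i).comp (LinearMap.ker (N ^ (i + 1))).subtype)) ≤
        finrank K ↥(LinearMap.ker N) := by
      refine Submodule.finrank_mono ?_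
      rintro _ ⟨⟨v, hv⟩, rfl⟩
      rw [LinearMap.mem_ker, pow_succ', Module.End.mul_apply] at hv
      exact hv
    have h3 : finrank K ↥(LinearMap.ker ((N ^ i).comp (LinearMap.ker (N ^ (i + 1))).subtype)) ≤
        finrank K ↥(LinearMap.ker (N ^ i)) := by
      rw [LinearMap.ker_comp, ← Submodule.finrank_map_subtype_eq, Submodule.map_comap_eq]
      exact Submodule.finrank_mono inf_le_right
    rw [Nat.succ_mul]
    omega

end Transfer

variable {p : ℕ} [hp : Fact p.Prime]

local notation "SLp" => SpecialLinearGroup (Fin 2) (ZMod p)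

/-- The Weyl element. -/
def w0 (p : ℕ) : SpecialLinearGroup (Fin 2) (ZMod p) := ⟨!![0, -1; 1, 0], by simp [Matrix.det_fin_two]⟩

/-- The two cells of the Bruhat decomposition. -/
theorem bruhat (g : SLp) : (∃ (a : (ZMod p)ˣ) (j : ℕ), g = t0 a * u0 p ^ j) ∨
    ∃ (i : ℕ) (a : (ZMod p)ˣ) (j : ℕ), g = u0 p ^ i * w0 p * (t0 a * u0 p ^ j) := by
  set a := (g : Matrix (Fin 2) (Fin 2) (ZMod p)) 0 0 with ha
  set b := (g : Matrix (Fin 2) (Fin 2) (ZMod p)) 0 1 with hb
  set c := (g : Matrix (Fin 2) (Fin 2) (ZMod p)) 1 0 with hc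
  set d := (g : Matrix (Fin 2) (Fin 2) (ZMod p)) 1 1 with hd
  have hg : (g : Matrix (Fin 2) (Fin 2) (ZMod p)) = !![a, b; c, d] := Matrix.eta_fin_two _
  have hdet : a * d - b * c = 1 := by
    have := g.2
    rw [hg, Matrix.det_fin_two] at this
    simpa using this
  by_cases h : c = 0
  · left
    have hau : a * d = 1 := by rw [h, mul_zero, sub_zero] at hdet; exact hdet
    refine ⟨Units.mkOfMulEqOne a d hau, (d * b).val, Subtype.ext ?_⟩
    show (g : Matrix (Fin 2) (Fin 2) (ZMod p)) = (t0 _).1 * (u0 p ^ (d * b).val : SLp).1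
    rw [hg, coe_u0_pow, ZMod.natCast_zmod_val]
    show !![a, b; c, d] = !![a, 0; 0, d] * !![1, d * b; 0, 1]
    ext i j
    fin_cases i <;> fin_cases j <;> simp [h, ← mul_assoc, hau]
  · right
    refine ⟨(a * c⁻¹).val, Units.mk0 c h, (d * c⁻¹).val, Subtype.ext ?_⟩
    show (g : Matrix (Fin 2) (Fin 2) (ZMod p)) =
      (u0 p ^ (a * c⁻¹).val : SLp).1 * (w0 p).1 * ((t0 (Units.mk0 c h)).1 * (u0 p ^ (d * c⁻¹).val : SLp).1)
    rw [hg, coe_u0_pow, coe_u0_pow, ZMod.natCast_zmod_val, ZMod.natCast_zmod_val]
    simp only [w0, t0, Units.val_mk0, Units.val_inv_eq_inv_val]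
    ext i j
    fin_cases i <;> fin_cases j <;> simp [h]
    · field_simp
      first | linear_combination hdet | linear_combination -hdet
    · field_simp

variable {K : Type w} [Field K] [IsAlgClosed K]

/-- The span of the orbit of a highest vector is small. -/
theorem highest_span {V : Type v} [AddCommGroup V] [Module K V] [FiniteDimensional K V]
    (ρ : Representation K SLp V) {v : V} (hv : ρ (u0 p) v = v) (hev : ∀ a, ∃ c : K, ρ (t0 a) v = c • v)
    {N : ℕ} (hN : (ρ (u0 p) - 1) ^ N = 0) :
    finrank K ↥(Submodule.span K (Set.range fun g => ρ g v)) ≤ N + 1 := by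
  classical
  set y := ρ (w0 p) v with hy
  let f : Fin (N + 1) → V := Fin.cons v fun l : Fin N => ((ρ (u0 p) - 1) ^ (l : ℕ)) y
  have hcyc : ∀ i : ℕ, (ρ (u0 p) ^ i) y ∈ Submodule.span K (Set.range f) := by
    intro i
    have : ρ (u0 p) ^ i = ∑ l ∈ Finset.range (i + 1), (Nat.choose i l : K) • (ρ (u0 p) - 1) ^ l := by
      have h := (Commute.one_right (ρ (u0 p) - 1)).add_pow i
      rw [sub_add_cancel] at h
      rw [h]
      refine Finset.sum_congr rfl fun l _ => ?_
      rw [one_pow, mul_one, ← Nat.cast_comm, Nat.cast_smul_eq_nsmul, nsmul_eq_mul]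
    rw [this, LinearMap.sum_apply]
    refine Submodule.sum_mem _ fun l _ => ?_
    rw [LinearMap.smul_apply]
    refine Submodule.smul_mem _ _ ?_
    by_cases hl : l < N
    · exact Submodule.subset_span ⟨Fin.succ ⟨l, hl⟩, Fin.cons_succ _ _ _⟩
    · obtain ⟨d, rfl⟩ := Nat.exists_eq_add_of_le (Nat.le_of_not_lt hl)
      rw [pow_add, hN, zero_mul, LinearMap.zero_apply]
      exact Submodule.zero_mem _
  have hle : Submodule.span K (Set.range fun g => ρ g v) ≤ Submodule.span K (Set.range f) := by
    rw [Submodule.span_le]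
    rintro _ ⟨g, rfl⟩
    have hb : ∀ (a : (ZMod p)ˣ) (j : ℕ), ∃ c : K, ρ (t0 a * u0 p ^ j) v = c • v := fun a j => by
      have hj : ρ (u0 p ^ j) v = v := by
        induction j with
        | zero => simp
        | succ j ih => rw [pow_succ, map_mul, Module.End.mul_apply, hv, ih]
      obtain ⟨c, hc⟩ := hev a
      exact ⟨c, by rw [map_mul, Module.End.mul_apply, hj, hc]⟩
    rcases bruhat g with ⟨a, j, rfl⟩ | ⟨i, a, j, rfl⟩
    · obtain ⟨c, hc⟩ := hb a j
      show ρ (t0 a * u0 p ^ j) v ∈ Submodule.span K (Set.range f)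
      rw [hc]
      exact Submodule.smul_mem _ _ (Submodule.subset_span ⟨0, by simp [f]⟩)
    · obtain ⟨c, hc⟩ := hb a j
      show ρ (u0 p ^ i * w0 p * (t0 a * u0 p ^ j)) v ∈ Submodule.span K (Set.range f)
      rw [map_mul, Module.End.mul_apply, hc, map_smul, map_mul, Module.End.mul_apply, map_pow]
      exact Submodule.smul_mem _ _ (hcyc i)
  exact ((Submodule.finrank_mono hle).trans (finrank_range_le_card f)).trans (by simp)

/-- The unipotent element minus one is nilpotent of index at most the dimension. -/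
theorem unipotent_pow [CharP K p] {W : Type v} [AddCommGroup W] [Module K W] [FiniteDimensional K W]
    (π : Representation K SLp W) (m : ℕ) (hm : finrank K W ≤ m) : (π (u0 p) - 1) ^ m = 0 := by
  classical
  have hupow : (u0 p) ^ p = 1 := by simpa [orderOf_u0] using pow_orderOf_eq_one (u0 p)
  rcases subsingleton_or_nontrivial (End K W) with h | h
  · exact Subsingleton.elim _ _
  have h0 : IsNilpotent (π (u0 p) - 1) := by
    refine ⟨p, ?_⟩
    haveI : CharP (End K W) p := charP_of_injective_algebraMap (algebraMap K (End K W)).injective p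
    rw [sub_pow_char_of_commute (R := End K W) (p := p) (Commute.one_right _), one_pow, ← map_pow, hupow,
      map_one, sub_self]
  obtain ⟨j, hj⟩ := h0
  rw [← LinearMap.ker_eq_top, eq_top_iff]
  intro x _
  have hle : LinearMap.ker ((π (u0 p) - 1) ^ j) ≤ LinearMap.ker ((π (u0 p) - 1) ^ m) := by
    rcases le_total j (finrank K W) with hjn | hjn
    · obtain ⟨d, rfl⟩ := Nat.exists_eq_add_of_le (hjn.trans hm)
      rw [add_comm, pow_add, Module.End.mul_eq_comp]
      exact LinearMap.ker_le_ker_comp _ _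
    · rw [Module.End.ker_pow_eq_ker_pow_finrank_of_le hjn,
        Module.End.ker_pow_eq_ker_pow_finrank_of_le hm]
  exact hle (by rw [hj, LinearMap.ker_zero]; trivial)

/-- Irreducible representations with equal highest weight are isomorphic. -/
theorem highest_unique [CharP K p] {V : Type v} [AddCommGroup V] [Module K V] [FiniteDimensional K V]
    {V' : Type v'} [AddCommGroup V'] [Module K V'] [FiniteDimensional K V']
    {ρ : Representation K SLp V} {σ : Representation K SLp V'} (hρ : Irr ρ) (hσ : Irr σ)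
    {v : V} {v' : V'} (hv0 : v ≠ 0) (hv0' : v' ≠ 0) (hv : ρ (u0 p) v = v) (hv' : σ (u0 p) v' = v')
    (hev : ∀ a, ∃ c : K, ρ (t0 a) v = c • v ∧ σ (t0 a) v' = c • v')
    (hn : 2 ≤ finrank K V) (hn' : 2 ≤ finrank K V') :
    ∃ e : V ≃ₗ[K] V', ∀ g x, e (ρ g x) = σ g (e x) := by
  classical
  let τ : Representation K SLp (V × V') := ρ.prod σ
  have hτ : ∀ g (x : V × V'), τ g x = (ρ g x.1, σ g x.2) := fun g x => rfl
  set M := Submodule.span K (Set.range fun g => τ g (v, v')) with hM
  have hMinv : ∀ g, M ≤ M.comap (τ g) := fun g => by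
    rw [hM, Submodule.span_le]
    rintro _ ⟨h, rfl⟩
    refine Submodule.subset_span ⟨g * h, ?_⟩
    show τ (g * h) (v, v') = τ g (τ h (v, v'))
    rw [map_mul, Module.End.mul_apply]
  set N := max (finrank K V) (finrank K V') with hN
  have hupow : (u0 p) ^ p = 1 := by simpa [orderOf_u0] using pow_orderOf_eq_one (u0 p)
  have hτN : (τ (u0 p) - 1) ^ N = 0 := by
    have h1 := unipotent_pow ρ N (le_max_left _ _)
    have h2 := unipotent_pow σ N (le_max_right _ _)
    have hpw : ∀ (j : ℕ) (x : V × V'), ((τ (u0 p) - 1) ^ j) x =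
        (((ρ (u0 p) - 1) ^ j) x.1, ((σ (u0 p) - 1) ^ j) x.2) := fun j => by
      induction j with
      | zero => intro x; rfl
      | succ j ih =>
        intro x
        rw [pow_succ', pow_succ', pow_succ', Module.End.mul_apply, Module.End.mul_apply, Module.End.mul_apply, ih]
        rfl
    refine LinearMap.ext fun x => ?_
    rw [hpw, h1, h2]
    rfl
  have hdim : finrank K M ≤ N + 1 := by
    refine highest_span τ (by rw [hτ, hv, hv']) (fun a => ?_) hτN
    obtain ⟨c, hc, hc'⟩ := hev a
    exact ⟨c, by rw [hτ, hc, hc']; rfl⟩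
  have hlt : finrank K M < finrank K (V × V') := by
    rw [Module.finrank_prod]
    omega
  -- both projections are bijective on `M`
  have hmem : (v, v') ∈ M := Submodule.subset_span ⟨1, by simp⟩
  let f1 : M →ₗ[K] V := (LinearMap.fst K V V').comp M.subtype
  let f2 : M →ₗ[K] V' := (LinearMap.snd K V V').comp M.subtype
  have hs1 : LinearMap.range f1 = ⊤ := by
    refine (hρ.2 _ fun g x hx => ?_).resolve_left fun h => hv0 ?_
    · obtain ⟨⟨y, hy⟩, rfl⟩ := hx
      exact ⟨⟨τ g y, hMinv g hy⟩, rfl⟩
    · have : v ∈ LinearMap.range f1 := ⟨⟨_, hmem⟩, rfl⟩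
      rw [h, Submodule.mem_bot] at this
      exact this
  have hs2 : LinearMap.range f2 = ⊤ := by
    refine (hσ.2 _ fun g x hx => ?_).resolve_left fun h => hv0' ?_
    · obtain ⟨⟨y, hy⟩, rfl⟩ := hx
      exact ⟨⟨τ g y, hMinv g hy⟩, rfl⟩
    · have : v' ∈ LinearMap.range f2 := ⟨⟨_, hmem⟩, rfl⟩
      rw [h, Submodule.mem_bot] at this
      exact this
  have hk1 : LinearMap.ker f1 = ⊥ := by
    rcases hσ.2 (M.comap (LinearMap.inr K V V')) (fun g x hx => by
      have h := hMinv g hx
      rw [Submodule.mem_comap, hτ, LinearMap.inr_apply, map_zero] at h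
      exact h) with h | h
    · refine (Submodule.eq_bot_iff _).2 ?_
      rintro ⟨⟨a, b⟩, hab⟩ hx
      have ha : a = 0 := hx
      subst ha
      have : b ∈ M.comap (LinearMap.inr K V V') := hab
      rw [h, Submodule.mem_bot] at this
      subst this
      rfl
    · exfalso
      refine absurd hlt (not_lt.2 ?_)
      rw [show M = ⊤ from ?_, finrank_top]
      rw [eq_top_iff]
      rintro ⟨a, b⟩ _
      obtain ⟨⟨⟨a', b'⟩, hab⟩, rfl⟩ : a ∈ LinearMap.range f1 := hs1 ▸ Submodule.mem_top
      have hb : ((0 : V), b - b') ∈ M := (h ▸ Submodule.mem_top : b - b' ∈ M.comap (LinearMap.inr K V V'))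
      have := M.add_mem hab hb
      simpa [f1] using this
  have hk2 : LinearMap.ker f2 = ⊥ := by
    rcases hρ.2 (M.comap (LinearMap.inl K V V')) (fun g x hx => by
      have h := hMinv g hx
      rw [Submodule.mem_comap, hτ, LinearMap.inl_apply, map_zero] at h
      exact h) with h | h
    · refine (Submodule.eq_bot_iff _).2 ?_
      rintro ⟨⟨a, b⟩, hab⟩ hx
      have hb : b = 0 := hx
      subst hb
      have : a ∈ M.comap (LinearMap.inl K V V') := hab
      rw [h, Submodule.mem_bot] at this
      subst this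
      rfl
    · exfalso
      refine absurd hlt (not_lt.2 ?_)
      rw [show M = ⊤ from ?_, finrank_top]
      rw [eq_top_iff]
      rintro ⟨a, b⟩ _
      obtain ⟨⟨⟨a', b'⟩, hab⟩, rfl⟩ : b ∈ LinearMap.range f2 := hs2 ▸ Submodule.mem_top
      have ha : (a - a', (0 : V')) ∈ M := (h ▸ Submodule.mem_top : a - a' ∈ M.comap (LinearMap.inl K V V'))
      have := M.add_mem hab ha
      simpa [f2] using this
  let e1 := LinearEquiv.ofBijective f1 ⟨LinearMap.ker_eq_bot.1 hk1, LinearMap.range_eq_top.1 hs1⟩
  let e2 := LinearEquiv.ofBijective f2 ⟨LinearMap.ker_eq_bot.1 hk2, LinearMap.range_eq_top.1 hs2⟩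
  refine ⟨e1.symm.trans e2, fun g x => ?_⟩
  obtain ⟨⟨y, hy⟩, rfl⟩ := e1.surjective x
  have h : ρ g (e1 ⟨y, hy⟩) = e1 ⟨τ g y, hMinv g hy⟩ := rfl
  rw [h]
  simp only [LinearEquiv.trans_apply, LinearEquiv.symm_apply_apply]
  rfl

/-- The number of fixed basis forms of the element of order three. -/
def cnt3 (k : ℕ) : ℕ := (Finset.univ.filter fun i : Fin (k + 1) => (2 * k - (i : ℕ)) % 3 = 0).card

/-- The number of basis forms of a given torus weight. -/
def cntW (p k w : ℕ) : ℕ :=
  (Finset.univ.filter fun i : Fin (k + 1) => ((i : ℕ) + (p - 2) * (k - i)) % (p - 1) = w % (p - 1)).card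

/-- What is needed of an irreducible representation in characteristic `p`. -/
theorem irreducible_data [CharP K p] [Algebra (ZMod p) K] (hp5 : 5 ≤ p) {V : Type v} [AddCommGroup V]
    [Module K V] [FiniteDimensional K V] {ρ : Representation K SLp V} (hρ : Irr ρ) {g : (ZMod p)ˣ}
    (hg : ∀ a, a ∈ Subgroup.zpowers g) :
    ∃ k < p, finrank K V = k + 1 ∧ fixDim (ρ (x0 p)) = cnt3 k ∧
      (∀ w : ℕ, wt (ρ (t0 g)) (algebraMap (ZMod p) K (g : ZMod p) ^ w) = cntW p k w) ∧
      (∀ w : ℕ, finrank K ↥(Module.End.eigenspace (ρ (t0 g)) (algebraMap (ZMod p) K (g : ZMod p) ^ w) ⊓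
        LinearMap.ker (ρ (u0 p) - 1)) = if k % (p - 1) = w % (p - 1) then 1 else 0) ∧
      finrank K ↥(LinearMap.ker (ρ (u0 p) - 1)) = 1 := by
  classical
  haveI : NeZero p := ⟨hp.out.ne_zero⟩
  haveI := hρ.1
  set ι := algebraMap (ZMod p) K
  set γ : K := ι (g : ZMod p) with hγ
  have hγ1 : γ ^ (p - 1) = 1 := by
    rw [hγ, ← map_pow, ZMod.pow_card_sub_one_eq_one g.ne_zero, map_one]
  have hgord : orderOf g = p - 1 := by
    rw [orderOf_eq_card_of_forall_mem_zpowers hg, Nat.card_eq_fintype_card, ZMod.card_units]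
  have hprim : IsPrimitiveRoot γ (p - 1) := by
    rw [IsPrimitiveRoot.iff_orderOf, hγ]
    show orderOf (((ι : ZMod p →* K).comp (Units.coeHom (ZMod p))) g) = p - 1
    rw [orderOf_injective _ (fun a b h => Units.ext (ι.injective h)), hgord]
  have hginv : ι ((g⁻¹ : (ZMod p)ˣ) : ZMod p) = γ ^ (p - 2) := by
    have h : g⁻¹ = g ^ (p - 2) := by
      refine inv_eq_of_mul_eq_one_right ?_
      rw [← pow_succ', show p - 2 + 1 = p - 1 by omega, ← hgord, pow_orderOf_eq_one]
    rw [h, Units.val_pow_eq_pow_val, map_pow]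
  have hpow : ∀ e f : ℕ, γ ^ e = γ ^ f ↔ e % (p - 1) = f % (p - 1) := fun e f => by
    rw [pow_eq_pow_mod e hγ1, pow_eq_pow_mod f hγ1]
    exact ⟨fun h => hprim.pow_inj (Nat.mod_lt _ (by omega)) (Nat.mod_lt _ (by omega)) h, fun h => by rw [h]⟩
  have hupow : (u0 p) ^ p = 1 := by simpa [orderOf_u0] using pow_orderOf_eq_one (u0 p)
  -- a highest vector
  have hF : LinearMap.ker (ρ (u0 p) - 1) ≠ ⊥ := by
    intro h
    have hc : finrank K V ≤ p * fixDim (ρ (u0 p)) := fixDim_char (by rw [← map_pow, hupow, map_one])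
    have h0 : fixDim (ρ (u0 p)) = 0 := by rw [fixDim, h, finrank_bot]
    have := Module.finrank_pos (R := K) (M := V)
    rw [h0, mul_zero] at hc
    omega
  let th : (ZMod p)ˣ →* SLp := { toFun := t0, map_one' := t0_one, map_mul' := t0_mul }
  obtain ⟨v, hv, hv0, hev⟩ := exists_common_eigen (ρ.comp th) (fun a b => mul_comm a b)
    (LinearMap.ker (ρ (u0 p) - 1)) (fun a x hx => by
      rw [Submodule.mem_comap, mem_ker_sub_one]
      have hx' := mem_ker_sub_one.1 hx
      have hfix : ∀ j : ℕ, ρ (u0 p ^ j) x = x := fun j => by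
        induction j with
        | zero => simp
        | succ j ih => rw [pow_succ, map_mul, Module.End.mul_apply, hx', ih]
      have h : u0 p * t0 a = t0 a * u0 p ^ (((a⁻¹ : (ZMod p)ˣ) : ZMod p) ^ 2).val := by
        rw [← t0_conj_u0 a⁻¹, show (t0 a⁻¹ : SLp) = (t0 a)⁻¹ from map_inv th a]
        group
      show ρ (u0 p) (ρ (t0 a) x) = ρ (t0 a) x
      rw [← Module.End.mul_apply, ← map_mul, h, map_mul, Module.End.mul_apply, hfix]) hF
  obtain ⟨c, hc⟩ := hev g
  have hc' : ρ (t0 g) v = c • v := hc
  have hcpow : ∀ i : ℕ, ρ (t0 (g ^ i)) v = c ^ i • v := fun i => by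
    rw [← t0_pow, map_pow]
    exact pow_apply_eigen hc' i
  have hc1 : c ^ (p - 1) = 1 := by
    have h := hcpow (p - 1)
    rw [← hgord, pow_orderOf_eq_one, t0_one, map_one, Module.End.one_apply, hgord] at h
    exact (smul_left_injective K hv0 (by simpa using h)).symm
  haveI : NeZero (p - 1) := ⟨by omega⟩
  obtain ⟨j, hj, hjc⟩ := hprim.eq_pow_of_pow_eq_one hc1
  have hpowers : ∀ a : (ZMod p)ˣ, ∃ i : ℕ, g ^ i = a := fun a =>
    (Submonoid.mem_powers_iff _ _).1 ((isOfFinOrder_of_finite g).mem_powers_iff_mem_zpowers.2 (hg a))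
  -- transfer of the data from the model
  have transfer : ∀ k, k < p → k % (p - 1) = j % (p - 1) → 2 ≤ finrank K V → 1 ≤ k →
      finrank K V = k + 1 ∧ fixDim (ρ (x0 p)) = cnt3 k ∧
      (∀ w : ℕ, wt (ρ (t0 g)) (γ ^ w) = cntW p k w) ∧
      (∀ w : ℕ, finrank K ↥(Module.End.eigenspace (ρ (t0 g)) (γ ^ w) ⊓ LinearMap.ker (ρ (u0 p) - 1)) =
        if k % (p - 1) = w % (p - 1) then 1 else 0) ∧
      finrank K ↥(LinearMap.ker (ρ (u0 p) - 1)) = 1 := by
    intro k hk hkj hn hk1
    obtain ⟨e, he⟩ := highest_unique hρ (formsRep_irr (K := K) hk) hv0 (topMono_ne k)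
      (mem_ker_sub_one.1 hv) (u0_topMono k) (fun a => by
        obtain ⟨i, rfl⟩ := hpowers a
        refine ⟨c ^ i, hcpow i, ?_⟩
        rw [t0_topMono, Units.val_pow_eq_pow_val, map_pow, ← hjc, ← pow_mul, ← pow_mul]
        show γ ^ (i * k) • _ = _
        rw [(hpow (i * k) (j * i)).2 (by rw [Nat.mul_comm j i, Nat.mul_mod, hkj, ← Nat.mul_mod])])
      hn (by rw [finrank_forms]; omega)
    obtain ⟨l, hl⟩ := IsAlgClosed.exists_root (Polynomial.X ^ 2 + Polynomial.X + 1 : Polynomial K) (by
      have : (Polynomial.X ^ 2 + Polynomial.X + 1 : Polynomial K).degree = 2 := by compute_degree!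
      rw [this]
      exact two_ne_zero)
    have hl2 : l ^ 2 + l + 1 = 0 := by simpa [Polynomial.IsRoot] using hl
    have hl1 : l ≠ 1 := fun h => by
      rw [h] at hl2
      have h3 : ((3 : ℕ) : K) = 0 := by push_cast; linear_combination hl2
      rw [CharP.cast_eq_zero_iff K p, Nat.prime_dvd_prime_iff_eq hp.out Nat.prime_three] at h3
      omega
    have htr : ∀ g', finrank K ↥(LinearMap.ker (ρ g' - 1)) =
        finrank K ↥(LinearMap.ker (formsRep K k g' - 1)) := fun g' =>
      finrank_ker_transfer e fun x => by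
        simp only [LinearMap.sub_apply, Module.End.one_apply, map_sub, he]
    have hline : finrank K ↥(LinearMap.ker (formsRep (p := p) K k (u0 p) - 1)) = 1 := by
      have : LinearMap.ker (formsRep (p := p) K k (u0 p) - 1) = K ∙ topMono k := by
        ext f
        rw [mem_ker_sub_one, Submodule.mem_span_singleton]
        constructor
        · intro hf
          obtain ⟨c', hc'⟩ := fixed_u0 hk hf
          exact ⟨c', hc'.symm⟩
        · rintro ⟨c', rfl⟩
          rw [map_smul, u0_topMono]
      rw [this, finrank_span_singleton (topMono_ne k)]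
    refine ⟨by rw [e.finrank_eq, finrank_forms], ?_, fun w => ?_, fun w => ?_, ?_⟩
    · rw [fixDim, htr]
      exact formsRep_fix hl2 hl1 k
    · rw [wt, Module.End.eigenspace_def]
      refine (finrank_ker_transfer e (B := formsRep K k (t0 g) - γ ^ w • (1 : End K (forms K k))) fun x => by
        simp only [LinearMap.sub_apply, LinearMap.smul_apply, Module.End.one_apply, map_sub, map_smul, he]).trans ?_
      rw [← Module.End.eigenspace_def, formsRep_wt, cntW]
      refine congrArg Finset.card (Finset.filter_congr fun i _ => ?_)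
      rw [hginv, ← hγ, ← pow_mul, ← pow_add, hpow]
    · have hvl : LinearMap.ker (ρ (u0 p) - 1) = K ∙ v := by
        refine (Submodule.eq_of_le_of_finrank_eq ?_ ?_).symm
        · rw [Submodule.span_singleton_le_iff_mem]; exact hv
        · rw [finrank_span_singleton hv0, htr, hline]
      rw [hvl]
      by_cases hw : k % (p - 1) = w % (p - 1)
      · rw [if_pos hw, inf_eq_right.2, finrank_span_singleton hv0]
        rw [Submodule.span_singleton_le_iff_mem, Module.End.mem_eigenspace_iff, hc', ← hjc,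
          (hpow j w).2 (hkj.symm.trans hw)]
      · rw [if_neg hw, show Module.End.eigenspace (ρ (t0 g)) (γ ^ w) ⊓ (K ∙ v) = ⊥ from ?_, finrank_bot]
        rw [Submodule.eq_bot_iff]
        rintro x ⟨hx1, hx2⟩
        obtain ⟨r, rfl⟩ := Submodule.mem_span_singleton.1 hx2
        by_contra hx
        have hr : r ≠ 0 := fun h => hx (by rw [h, zero_smul])
        have h1 := Module.End.mem_eigenspace_iff.1 hx1
        rw [map_smul, hc', smul_smul, smul_smul] at h1
        have h2 := smul_left_injective K hv0 h1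
        rw [mul_comm (γ ^ w) r] at h2
        refine hw (hkj.trans ((hpow j w).1 ?_))
        rw [hjc]
        exact mul_left_cancel₀ hr h2
    · rw [htr, hline]
  by_cases hn : 2 ≤ finrank K V
  · by_cases hj0 : j = 0
    · exact ⟨p - 1, by omega, transfer (p - 1) (by omega) (by rw [hj0, Nat.mod_self, Nat.zero_mod]) hn (by omega)⟩
    · exact ⟨j, by omega, transfer j (by omega) rfl hn (by omega)⟩
  · -- the trivial module
    have hn1 : finrank K V = 1 := by
      have := Module.finrank_pos (R := K) (M := V)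
      omega
    have hu1 : ρ (u0 p) = 1 := by
      refine LinearMap.ext fun x => ?_
      have htop : LinearMap.ker (ρ (u0 p) - 1) = ⊤ := by
        refine Submodule.eq_top_of_finrank_eq (le_antisymm (Submodule.finrank_le _) ?_)
        rw [hn1]
        exact Nat.pos_of_ne_zero fun h => hF (Submodule.finrank_eq_zero.1 h)
      exact mem_ker_sub_one.1 (htop ▸ Submodule.mem_top)
    have hall : ∀ g', ρ g' = 1 := by
      set M : Subgroup SLp := MonoidHom.ker ρ with hM
      haveI : M.Normal := MonoidHom.normal_ker _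
      have hu0 : u0 p ∈ M := hu1
      have hMtop : M = ⊤ := by
        refine Cfsg.Lib.SLTwoSub.closure_transvections M (fun g' hg' => ?_) (fun g' hg' => ?_)
        · rw [show g' = u0 p from Subtype.ext hg']; exact hu0
        · have : g' = x0 p * (u0 p)⁻¹ * (x0 p)⁻¹ := by
            rw [eq_mul_inv_iff_mul_eq, eq_mul_inv_iff_mul_eq]
            refine Subtype.ext ?_
            show (g' : Matrix (Fin 2) (Fin 2) (ZMod p)) * (x0 p).1 * (u0 p).1 = (x0 p).1
            rw [hg']
            simp only [x0, u0, Matrix.mul_fin_two]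
            ext i i'
            fin_cases i <;> fin_cases i' <;> simp
          rw [this]
          exact Subgroup.Normal.conj_mem ‹M.Normal› _ (inv_mem hu0) _
      intro g'
      exact MonoidHom.mem_ker.1 (hMtop ▸ Subgroup.mem_top g' : g' ∈ M)
    refine ⟨0, hp.out.pos, by rw [hn1], ?_, fun w => ?_, fun w => ?_, ?_⟩
    · rw [hall, fixDim_one, hn1, cnt3, Finset.filter_true_of_mem fun i _ => by omega]
      rfl
    · rw [wt, hall]
      by_cases hw : (0 : ℕ) % (p - 1) = w % (p - 1)
      · rw [show γ ^ w = 1 by rw [← pow_zero γ]; exact (hpow w 0).2 hw.symm]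
        rw [show Module.End.eigenspace (1 : End K V) 1 = ⊤ by
          rw [eq_top_iff]; intro x _; rw [Module.End.mem_eigenspace_iff, one_smul]; rfl, finrank_top, hn1, cntW,
          Finset.filter_true_of_mem fun i _ => by simpa using hw]
        rfl
      · have hne : γ ^ w ≠ 1 := fun h => hw ((hpow w 0).1 (by rw [h, pow_zero])).symm
        rw [show Module.End.eigenspace (1 : End K V) (γ ^ w) = ⊥ from ?_, finrank_bot, cntW,
          Finset.filter_false_of_mem (fun i _ => by simpa using hw)]
        · rfl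
        · rw [Submodule.eq_bot_iff]
          intro x hx
          have := Module.End.mem_eigenspace_iff.1 hx
          rw [Module.End.one_apply] at this
          by_contra hx0
          exact hne (smul_left_injective K hx0 (by simpa using this.symm))
    · rw [hall, hu1, sub_self, LinearMap.ker_zero, inf_top_eq]
      by_cases hw : (0 : ℕ) % (p - 1) = w % (p - 1)
      · rw [if_pos hw, show γ ^ w = 1 by rw [← pow_zero γ]; exact (hpow w 0).2 hw.symm,
          show Module.End.eigenspace (1 : End K V) 1 = ⊤ by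
            rw [eq_top_iff]; intro x _; rw [Module.End.mem_eigenspace_iff, one_smul]; rfl, finrank_top, hn1]
      · rw [if_neg hw, show Module.End.eigenspace (1 : End K V) (γ ^ w) = ⊥ from ?_, finrank_bot]
        rw [Submodule.eq_bot_iff]
        intro x hx
        have := Module.End.mem_eigenspace_iff.1 hx
        rw [Module.End.one_apply] at this
        by_contra hx0
        exact hw ((hpow w 0).1 (by rw [smul_left_injective K hx0 (show (γ ^ w) • x = (1 : K) • x by rw [one_smul]; exact this.symm), pow_zero])).symm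
    · rw [hu1, sub_self, LinearMap.ker_zero, finrank_top, hn1]

end Cfsg.Lib.FixSixth
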