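import Cfsg.Agent.FixSixth.Blocks

/-!
# Conjugation on the endomorphism ring
-/

set_option autoImplicit false

namespace Cfsg.Lib.FixSixth

open Module LinearMap

universe u v w

variable {K : Type w} [Field K] {V : Type v} [AddCommGroup V] [Module K V] [FiniteDimensional K V]

omit [FiniteDimensional K V] in
/-- A common eigenvector lies in a weight space. -/
theorem exists_weight_of_eigen {G : Type u} [Group G] (ρ : Representation K G V) {z : V} (hz : z ≠ 0)
    (hev : ∀ g, ∃ c : K, ρ g z = c • z) : ∃ χ : G →* K, z ∈ weight ρ χ := by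
  choose c hc using hev
  have hc1 : c 1 = 1 := by
    have h := hc 1
    rw [map_one, Module.End.one_apply] at h
    exact (smul_left_injective K hz (by simpa using h)).symm
  have hmul : ∀ a b, c (a * b) = c a * c b := fun a b => by
    refine smul_left_injective K hz ?_
    show c (a * b) • z = (c a * c b) • z
    rw [← hc, map_mul, Module.End.mul_apply, hc b, map_smul, hc a, smul_smul, mul_comm]
  exact ⟨{ toFun := c, map_one' := hc1, map_mul' := hmul }, mem_weight.2 hc⟩

omit [FiniteDimensional K V] in
/-- Conjugation. -/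
def conjRep {G : Type u} [Group G] (ρ : Representation K G V) : Representation K G (End K V) where
  toFun g :=
    { toFun := fun T => ρ g * T * ρ g⁻¹
      map_add' := fun S T => by rw [mul_add, add_mul]
      map_smul' := fun c T => by rw [mul_smul_comm, smul_mul_assoc, RingHom.id_apply] }
  map_one' := LinearMap.ext fun T => by simp
  map_mul' a b := LinearMap.ext fun T => by
    show ρ (a * b) * T * ρ (a * b)⁻¹ = ρ a * (ρ b * T * ρ b⁻¹) * ρ a⁻¹
    rw [mul_inv_rev, map_mul, map_mul]
    simp only [mul_assoc]

omit [FiniteDimensional K V] in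
theorem conjRep_apply {G : Type u} [Group G] (ρ : Representation K G V) (g : G) (T : End K V) :
    conjRep ρ g T = ρ g * T * ρ g⁻¹ := rfl

omit [FiniteDimensional K V] in
theorem conjRep_eq_self {G : Type u} [Group G] {ρ : Representation K G V} {g : G} {T : End K V}
    (h : ρ g * T = T * ρ g) : conjRep ρ g T = T := by
  rw [conjRep_apply, h, mul_assoc, ← map_mul, mul_inv_cancel, map_one, mul_one]

/-- The dimension of the centralizer of an operator of order three. -/
theorem sq_le_fixDim_conjRep [IsAlgClosed K] (h3 : (3 : K) ≠ 0) {G : Type u} [Group G]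
    (ρ : Representation K G V) {a : G} (ha : a ^ 3 = 1) :
    ∃ n1 n2 : ℕ, fixDim (ρ a) + n1 + n2 = finrank K V ∧
      fixDim (ρ a) ^ 2 + n1 ^ 2 + n2 ^ 2 ≤ fixDim (conjRep ρ a) := by
  set T := ρ a with hT
  have hT3 : ∀ z, T (T (T z)) = z := fun z => by
    have h : T ^ 3 = 1 := by rw [hT, ← map_pow, ha, map_one]
    have := LinearMap.congr_fun h z
    simpa [pow_succ] using this
  obtain ⟨ω, hω⟩ : ∃ ω : K, ω ^ 2 + ω + 1 = 0 := by
    obtain ⟨ω, hω⟩ := IsAlgClosed.exists_root (Polynomial.X ^ 2 + Polynomial.X + Polynomial.C (1 : K))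
      (by
        rw [Polynomial.degree_eq_natDegree (fun h => by
          have := congrArg (fun f => Polynomial.coeff f 2) h
          simp [Polynomial.coeff_one, Polynomial.coeff_X] at this)]
        have : (Polynomial.X ^ 2 + Polynomial.X + Polynomial.C (1 : K)).natDegree = 2 := by compute_degree!
        rw [this]
        exact two_ne_zero)
    exact ⟨ω, by simpa [Polynomial.IsRoot] using hω⟩
  have hω3 : ω ^ 3 = 1 := by linear_combination (ω - 1) * hω
  have hω1 : ω ≠ 1 := fun h => h3 (by rw [h] at hω; linear_combination hω)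
  let r : Fin 3 → K := ![1, ω, ω ^ 2]
  have hr3 : ∀ i, r i ^ 3 = 1 := by
    intro i
    fin_cases i
    · simp [r]
    · simpa [r] using hω3
    · show (ω ^ 2) ^ 3 = 1
      rw [← pow_mul, mul_comm, pow_mul, hω3, one_pow]
  have hrinj : Function.Injective r := by
    have hω0 : ω ≠ 0 := fun h => by rw [h] at hω3; simp at hω3
    have h21 : ω ^ 2 ≠ 1 := fun h => hω1 (by rw [← hω3, pow_succ, h, one_mul])
    have h2ω : ω ^ 2 ≠ ω := fun h => hω1 (mul_left_cancel₀ hω0 (by rw [mul_one, ← sq, h]))
    intro i j hij
    fin_cases i <;> fin_cases j <;>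
      first
        | rfl
        | exact absurd hij hω1 | exact absurd hij.symm hω1 | exact absurd hij h21 | exact absurd hij.symm h21
        | exact absurd hij h2ω | exact absurd hij.symm h2ω
  -- the projections
  let P : K → End K V := fun l => (3 : K)⁻¹ • (1 + l ^ 2 • T + l • (T * T))
  have hP : ∀ l z, P l z = (3 : K)⁻¹ • (z + l ^ 2 • T z + l • T (T z)) := fun l z => rfl
  have hPmem : ∀ l, l ^ 3 = 1 → ∀ z, P l z ∈ Module.End.eigenspace T l := by
    intro l hl z
    refine Module.End.mem_eigenspace_iff.2 ?_
    rw [hP, map_smul, map_add, map_add, map_smul, map_smul, hT3]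
    match_scalars
    all_goals field_simp
    all_goals first | linear_combination hl | linear_combination (-1 : K) * hl | ring
  have hPeig : ∀ i j, ∀ z ∈ Module.End.eigenspace T (r i), P (r j) z = if i = j then z else 0 := by
    intro i j z hz
    rw [Module.End.mem_eigenspace_iff] at hz
    rw [hP, hz, map_smul, hz, smul_smul, smul_smul, smul_smul]
    split_ifs with h
    · subst h
      match_scalars
      field_simp
      linear_combination 2 * hr3 i
    · have hne : r j ^ 2 * r i ≠ 1 := fun h' => h (hrinj (by
        calc r i = r j ^ 3 * r i := by rw [hr3, one_mul]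
          _ = r j * (r j ^ 2 * r i) := by ring
          _ = r j := by rw [h', mul_one]))
      have hν : (r j ^ 2 * r i) ^ 2 + r j ^ 2 * r i + 1 = 0 := by
        refine (mul_eq_zero.1 ?_).resolve_left (sub_ne_zero.2 hne)
        linear_combination (r i ^ 3 * (r j ^ 3 + 1)) * hr3 j + hr3 i
      match_scalars
      field_simp
      linear_combination hν - (r i ^ 2 * r j) * hr3 j
  let E : Fin 3 → Submodule K V := fun i => Module.End.eigenspace T (r i)
  let π : (i : Fin 3) → V →ₗ[K] E i := fun i => (P (r i)).codRestrict (E i) (hPmem (r i) (hr3 i))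
  let Φ : ((i : Fin 3) → (E i →ₗ[K] E i)) →ₗ[K] End K V :=
    ∑ i : Fin 3, ((LinearMap.llcomp K V (E i) V (E i).subtype).comp
      ((LinearMap.lcomp K (E i) (π i)).comp (LinearMap.proj i)))
  have hΦ : ∀ f z, Φ f z = ∑ i : Fin 3, ((f i (π i z) : E i) : V) := fun f z => by
    simp only [Φ, LinearMap.sum_apply]
    rfl
  have hΦeig : ∀ f j, ∀ z : E j, Φ f z = (f j z : V) := by
    intro f j z
    rw [hΦ, Finset.sum_eq_single j]
    · congr 2
      exact Subtype.ext ((hPeig j j z z.2).trans (if_pos rfl))
    · intro i _ hij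
      have : π i (z : V) = 0 := Subtype.ext ((hPeig j i z z.2).trans (if_neg (Ne.symm hij)))
      rw [this, map_zero, Submodule.coe_zero]
    · exact fun h => absurd (Finset.mem_univ j) h
  have hinj : Function.Injective Φ := fun f f' h => funext fun j => LinearMap.ext fun z => Subtype.ext (by
    rw [← hΦeig, ← hΦeig, h])
  have hfix : range Φ ≤ ker (conjRep ρ a - 1) := by
    rintro _ ⟨f, rfl⟩
    refine mem_ker_sub_one.2 (conjRep_eq_self ?_)
    refine LinearMap.ext fun z => ?_
    show T (Φ f z) = Φ f (T z)
    rw [hΦ, hΦ, map_sum]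
    refine Finset.sum_congr rfl fun i _ => ?_
    have h1 : π i (T z) = r i • π i z := by
      refine Subtype.ext ?_
      show P (r i) (T z) = r i • P (r i) z
      rw [← Module.End.mem_eigenspace_iff.1 (hPmem _ (hr3 i) z), hP, hP, map_smul, map_add, map_add, map_smul, map_smul]
    rw [h1, map_smul, Submodule.coe_smul]
    exact Module.End.mem_eigenspace_iff.1 (f i (π i z)).2
  have hsum : ∑ i : Fin 3, finrank K ↥(E i) = finrank K V := by
    have hind : iSupIndep E := (Module.End.eigenspaces_iSupIndep T).comp hrinj
    have htop : (⨆ i ∈ (Finset.univ : Finset (Fin 3)), E i) = ⊤ := by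
      rw [eq_top_iff]
      intro z _
      have hz : z = ∑ i : Fin 3, P (r i) z := by
        simp only [Fin.sum_univ_three, hP]
        simp only [r, Matrix.cons_val_zero, Matrix.cons_val_one, Matrix.cons_val]
        match_scalars <;> field_simp
        · ring
        · linear_combination -(ω ^ 2 - ω + 1) * hω
        · linear_combination -hω
      rw [hz]
      exact Submodule.sum_mem _ fun i hi => Submodule.mem_iSup_of_mem i
        (Submodule.mem_iSup_of_mem hi (hPmem _ (hr3 i) z))
    rw [← finrank_biSup hind, htop, finrank_top]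
  have hle := Submodule.finrank_mono hfix
  rw [LinearMap.finrank_range_of_inj hinj, Module.finrank_pi_fintype] at hle
  simp only [Module.finrank_linearMap] at hle
  have h0 : finrank K ↥(E 0) = fixDim T := by
    have : E 0 = ker (T - 1) := by
      ext z
      rw [Module.End.mem_eigenspace_iff, mem_ker_sub_one]
      simp [r]
    rw [this, fixDim]
  refine ⟨finrank K ↥(E 1), finrank K ↥(E 2), ?_, ?_⟩
  · rw [← h0, ← hsum, Fin.sum_univ_three]
  · rw [Fin.sum_univ_three, h0] at hle
    simpa [sq, fixDim] using hle

end Cfsg.Lib.FixSixth
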