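import Cfsg.Agent.FixSixth.Conj
import Mathlib.GroupTheory.SpecificGroups.ZGroup

/-!
# A normal subgroup with scalar centre
-/

set_option autoImplicit false

namespace Cfsg.Lib.FixSixth

open Module LinearMap

universe u v w

variable {G : Type u} [Group G] [Finite G]

/-- The automorphism induced on `E / Z(E)` by conjugation. -/
noncomputable def centQuotMap (E : Subgroup G) [E.Normal] (g : G) :
    E ⧸ Subgroup.center E ≃* E ⧸ Subgroup.center E :=
  QuotientGroup.congr _ _ (MulAut.conjNormal g : MulAut E)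
    (Subgroup.characteristic_iff_map_eq.1 inferInstance (MulAut.conjNormal g : MulAut E))

theorem centQuotMap_mk (E : Subgroup G) [E.Normal] (g : G) (e : E) :
    centQuotMap E g (e : E ⧸ Subgroup.center E) =
      ((MulAut.conjNormal g : MulAut E) e : E ⧸ Subgroup.center E) := rfl

/-- The action of the group on `E / Z(E)`. -/
noncomputable def centQuotHom (E : Subgroup G) [E.Normal] : G →* MulAut (E ⧸ Subgroup.center E) :=
  MonoidHom.mk' (centQuotMap E) fun g h => MulEquiv.ext fun q => by
    induction q using QuotientGroup.induction_on with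
    | _ e =>
      show centQuotMap E (g * h) e = centQuotMap E g (centQuotMap E h e)
      rw [centQuotMap_mk, centQuotMap_mk, centQuotMap_mk, map_mul]
      rfl

/-- A primes-five-or-seven group of automorphisms cannot have the large prime. -/
theorem prime_dvd_pow_sub_one {p : ℕ} (hp : p.Prime) (hp3 : p % 3 = 2) (hp11 : 11 ≤ p) {r j : ℕ}
    (hr : r = 5 ∨ r = 7) (hj : 1 ≤ j) (hj4 : j ≤ 4) : ¬ p ∣ r ^ j - 1 := by
  intro h
  have key : ∀ n, n = 4 ∨ n = 24 ∨ n = 124 ∨ n = 624 ∨ n = 6 ∨ n = 48 ∨ n = 342 ∨ n = 2400 →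
      ¬ p ∣ n := by
    intro n hn hd
    have hle : p ≤ n := Nat.le_of_dvd (by omega) hd
    rcases hn with rfl | rfl | rfl | rfl | rfl | rfl | rfl | rfl
    all_goals first
      | omega
      | (have hmem := Nat.mem_primeFactors.2 ⟨hp, hd, by norm_num⟩
         revert hmem
         norm_num [Nat.primeFactors, Nat.primeFactorsList]
         omega)
  refine key _ ?_ h
  rcases hr with rfl | rfl <;> interval_cases j <;> norm_num

variable {K : Type w} [Field K] [IsAlgClosed K] {V : Type v} [AddCommGroup V] [Module K V]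
  [FiniteDimensional K V]

set_option maxHeartbeats 1600000 in
/-- A faithful irreducible representation and a normal subgroup of class two with scalar centre. -/
theorem symplectic_bound (h3 : (3 : K) ≠ 0) (hperf : commutator G = ⊤) {ρ : Representation K G V}
    (hρ : Irr ρ) (hinj : Function.Injective ρ) {E : Subgroup G} [E.Normal] (hE6 : (Nat.card E).Coprime 6)
    (hEK : (Nat.card E : K) ≠ 0) (hE : ¬ E ≤ Subgroup.center G)
    (hcomm : ∀ e ∈ E, ∀ f ∈ E, e * f * e⁻¹ * f⁻¹ ∈ Subgroup.center G)
    (hcent : ∀ e ∈ E, (∀ f ∈ E, e * f = f * e) → e ∈ Subgroup.center G) {p : ℕ} [hp : Fact p.Prime]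
    (hp3 : p % 3 = 2) (hp11 : 11 ≤ p) {a v : G} (ha : a ^ 3 = 1) {m : ℕ} (hv : v ^ p ^ m = 1)
    (hgen : Subgroup.closure ({a, v * a * v⁻¹} : Set G) = ⊤) :
    finrank K V ≤ 4 * fixDim (ρ a) := by
  classical
  haveI := hρ.1
  haveI := Fintype.ofFinite G
  let Q := E ⧸ Subgroup.center E
  have hcZ : ∀ z : E, z ∈ Subgroup.center E → (z : G) ∈ Subgroup.center G := fun z hz =>
    hcent z z.2 fun f hf => congrArg Subtype.val ((Subgroup.mem_center_iff.1 hz ⟨f, hf⟩).symm)
  have hscal : ∀ z : G, z ∈ Subgroup.center G → ∃ c : K, ∀ w, ρ z w = c • w := fun z hz =>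
    hρ.schur (ρ z) fun g => by rw [commute_iff_eq, ← map_mul, ← map_mul, Subgroup.mem_center_iff.1 hz g]
  have hQcomm : ∀ q r : Q, q * r = r * q := by
    intro q r
    induction q using QuotientGroup.induction_on with
    | _ e =>
      induction r using QuotientGroup.induction_on with
      | _ f =>
        rw [← QuotientGroup.mk_mul, ← QuotientGroup.mk_mul, QuotientGroup.eq, Subgroup.mem_center_iff]
        intro t
        have h := hcomm _ (inv_mem f.2) _ (inv_mem e.2)
        refine Subtype.ext ?_
        show (t : G) * (((e : G) * f)⁻¹ * (f * e)) = ((e : G) * f)⁻¹ * (f * e) * t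
        rw [show ((e : G) * f)⁻¹ * (f * e) = (f : G)⁻¹ * (e : G)⁻¹ * ((f : G)⁻¹)⁻¹ * ((e : G)⁻¹)⁻¹ by group]
        exact Subgroup.mem_center_iff.1 h t
  letI : CommGroup Q := { (inferInstance : Group Q) with mul_comm := hQcomm }
  let φ : G →* MulAut Q := centQuotHom E
  have hφmk : ∀ g (e : E), φ g (e : Q) = ((MulAut.conjNormal g : MulAut E) e : Q) := fun g e => rfl
  -- conjugation as a representation
  let τ : Representation K E (End K V) := (conjRep ρ).comp E.subtype
  have hτc : Subgroup.center E ≤ MonoidHom.ker τ := fun z hz => MonoidHom.mem_ker.2 (LinearMap.ext fun T => by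
    obtain ⟨c, hc⟩ := hscal z (hcZ z hz)
    refine conjRep_eq_self (LinearMap.ext fun w => ?_)
    show ρ z (T w) = T (ρ z w)
    rw [hc, hc, map_smul])
  let τQ : Representation K Q (End K V) := QuotientGroup.lift _ τ hτc
  have hτQ : ∀ (e : E) T, τQ (e : Q) T = ρ e * T * ρ (e : G)⁻¹ := fun e T => rfl
  have hρne : ∀ g : G, ρ g ≠ 0 := fun g h => by
    obtain ⟨w, hw⟩ := exists_ne (0 : V)
    refine hw ?_
    have h2 : ρ g⁻¹ (ρ g w) = w := by rw [← Module.End.mul_apply, ← map_mul, inv_mul_cancel, map_one, Module.End.one_apply]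
    rw [← h2, h]
    simp
  have heig : ∀ f : E, ∀ q, ∃ c : K, τQ q (ρ f) = c • ρ f := by
    intro f q
    induction q using QuotientGroup.induction_on with
    | _ e =>
      obtain ⟨c, hc⟩ := hscal _ (hcomm e e.2 f f.2)
      refine ⟨c, LinearMap.ext fun w => ?_⟩
      rw [hτQ, LinearMap.smul_apply, ← hc, ← map_mul, ← map_mul, ← Module.End.mul_apply, ← map_mul]
      congr 2
      group
  choose χ' hχ' using fun f : E => exists_weight_of_eigen τQ (hρne f) (heig f)
  let χ : Q → (Q →* K) := fun q => χ' q.out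
  have hχinj : Function.Injective χ := by
    intro q r hqr
    rw [← QuotientGroup.out_eq' q, ← QuotientGroup.out_eq' r, QuotientGroup.eq, Subgroup.mem_center_iff]
    intro t
    refine Subtype.ext (hinj ?_)
    have h1 := mem_weight.1 (hχ' q.out) (t : Q)
    have h2 := mem_weight.1 (hχ' r.out) (t : Q)
    rw [hτQ, ← map_mul, ← map_mul] at h1 h2
    have hq' : χ' q.out = χ' r.out := hqr
    rw [hq'] at h1
    set c := χ' r.out (t : Q)
    set A := (q.out : G)
    set B := (r.out : G)
    show ρ ((t : G) * (A⁻¹ * B)) = ρ (A⁻¹ * B * t)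
    have key : ρ ((t : G) * A * (t : G)⁻¹) * ρ (A⁻¹ * B) = ρ ((t : G) * B * (t : G)⁻¹) := by
      rw [h1, h2, smul_mul_assoc, ← map_mul, mul_inv_cancel_left]
    rw [← map_mul] at key
    have key' := congrArg (fun T => ρ ((t : G) * A⁻¹ * (t : G)⁻¹) * T * ρ (t : G)) key
    simp only [← map_mul] at key'
    convert key'.symm using 2 <;> group
  haveI hfinhom : Finite (Q →* K) := (linearIndependent_monoidHom Q K).finite
  have hχbij : Function.Bijective χ := by
    haveI := Fintype.ofFinite Q
    haveI := Fintype.ofFinite (Q →* K)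
    refine hχinj.bijective_of_nat_card_le ?_
    have := (linearIndependent_monoidHom Q K).fintype_card_le_finrank
    rw [Module.finrank_pi] at this
    rwa [Nat.card_eq_fintype_card, Nat.card_eq_fintype_card]
  let Z : Submodule K (End K V) := weight τQ 1
  let W : Q → Submodule K (End K V) := fun q => Z.map (LinearMap.mulLeft K (ρ (q.out : G)))
  have hmul : ∀ (ψ ψ' : Q →* K) (S T : End K V), S ∈ weight τQ ψ → T ∈ weight τQ ψ' →
      S * T ∈ weight τQ (ψ * ψ') := by
    intro ψ ψ' S T hS hT
    refine mem_weight.2 fun q => ?_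
    have h1 := mem_weight.1 hS q
    have h2 := mem_weight.1 hT q
    induction q using QuotientGroup.induction_on with
    | _ e =>
      rw [hτQ] at h1 h2 ⊢
      rw [MonoidHom.mul_apply, ← smul_smul, ← mul_smul_comm, ← h2, ← smul_mul_assoc, ← h1]
      simp only [mul_assoc]
      rw [← mul_assoc (ρ ((e : G)⁻¹)) (ρ (e : G)), ← map_mul, inv_mul_cancel, map_one, one_mul]
  have hinvw : ∀ f : E, ∃ ψ : Q →* K, ρ ((f : G)⁻¹) ∈ weight τQ ψ ∧ ψ * χ' f = 1 := by
    intro f
    obtain ⟨ψ, hψ⟩ := exists_weight_of_eigen τQ (hρne _) (fun q => by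
      obtain ⟨c, hc⟩ := heig f⁻¹ q
      exact ⟨c, hc⟩ : ∀ q, ∃ c : K, τQ q (ρ ((f : G)⁻¹)) = c • ρ ((f : G)⁻¹))
    refine ⟨ψ, hψ, MonoidHom.ext fun q => ?_⟩
    have h1 := hmul _ _ _ _ hψ (hχ' f)
    rw [← map_mul, inv_mul_cancel] at h1
    have h2 := mem_weight.1 h1 q
    refine smul_left_injective K (hρne 1) ?_
    show (ψ * χ' f) q • ρ 1 = (1 : K) • ρ 1
    rw [← h2, one_smul]
    induction q using QuotientGroup.induction_on with
    | _ e => rw [hτQ, map_one, mul_one, ← map_mul, mul_inv_cancel, map_one]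
  have hind : iSupIndep W := by
    refine ((iSupIndep_weight τQ).comp hχinj).mono fun q => ?_
    rintro _ ⟨T, hT, rfl⟩
    have := hmul _ _ _ _ (hχ' q.out) hT
    rwa [mul_one] at this
  have htop : ⨆ q, W q = ⊤ := by
    have hQK : (Nat.card Q : K) ≠ 0 := fun h => hEK (by
      rw [Subgroup.card_eq_card_quotient_mul_card_subgroup (Subgroup.center E), Nat.cast_mul]
      exact mul_eq_zero_of_left h _)
    rw [eq_top_iff, ← iSup_weight hQcomm hQK τQ]
    refine iSup_le fun ψ T hT => ?_
    obtain ⟨q, rfl⟩ := hχbij.2 ψ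
    obtain ⟨ψ', hψ', hprod⟩ := hinvw q.out
    refine Submodule.mem_iSup_of_mem q ⟨ρ ((q.out : G))⁻¹ * T, ?_, ?_⟩
    · have := hmul _ _ _ _ hψ' hT
      rwa [hprod] at this
    · show ρ (q.out : G) * (ρ ((q.out : G))⁻¹ * T) = T
      rw [← mul_assoc, ← map_mul, mul_inv_cancel, map_one, one_mul]
  -- the permutation induced by `a`
  have hZinv : ∀ (g : G) T, T ∈ Z → conjRep ρ g T ∈ Z := by
    intro g T hT
    refine mem_weight.2 fun q => ?_
    induction q using QuotientGroup.induction_on with
    | _ e =>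
      have h := mem_weight.1 hT ((MulAut.conjNormal g⁻¹ : MulAut E) e : Q)
      rw [hτQ, MulAut.conjNormal_apply, MonoidHom.one_apply, one_smul, inv_inv] at h
      rw [hτQ, MonoidHom.one_apply, one_smul, conjRep_apply]
      conv_rhs => rw [← h]
      simp only [← mul_assoc, ← map_mul]
      simp only [mul_assoc, ← map_mul]
      congr 2
      · group
      · group
  have hWmem : ∀ (f : E) T, T ∈ Z → ρ f * T ∈ W (f : Q) := by
    intro f T hT
    set z := ((f : Q).out)⁻¹ * f with hz
    have hzc : z ∈ Subgroup.center E := QuotientGroup.eq.1 (QuotientGroup.out_eq' (f : Q))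
    obtain ⟨c, hc⟩ := hscal z (hcZ z hzc)
    refine ⟨c • T, Z.smul_mem c hT, ?_⟩
    show ρ ((f : Q).out : G) * (c • T) = ρ f * T
    have : (f : G) = ((f : Q).out : G) * (z : G) := by
      rw [hz, Subgroup.coe_mul, Subgroup.coe_inv, mul_inv_cancel_left]
    conv_rhs => rw [this, map_mul, mul_assoc]
    congr 1
    exact LinearMap.ext fun w => by rw [Module.End.mul_apply, hc, LinearMap.smul_apply]
  have hmaps : ∀ (g : G) q, ∀ T ∈ W q, conjRep ρ g T ∈ W (φ g q) := by
    rintro g q _ ⟨T, hT, rfl⟩
    have := hWmem ((MulAut.conjNormal g : MulAut E) q.out) _ (hZinv g T hT)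
    rw [show φ g q = ((MulAut.conjNormal g : MulAut E) q.out : Q) by
      rw [← hφmk, QuotientGroup.out_eq']]
    convert this using 1
    rw [MulAut.conjNormal_apply, conjRep_apply, conjRep_apply, LinearMap.mulLeft_apply, map_mul, map_mul]
    simp only [mul_assoc]
    rw [← mul_assoc (ρ g⁻¹) (ρ g), ← map_mul, inv_mul_cancel, map_one, one_mul]
  have hφ3 : ∀ q, φ a (φ a (φ a q)) = q := fun q => by
    rw [← MulAut.mul_apply, ← MulAut.mul_apply, ← map_mul, ← map_mul,
      show a * a * a = a ^ 3 by rw [pow_succ, pow_two], ha, map_one]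
    rfl
  haveI := Fintype.ofFinite Q
  obtain ⟨-, hfix⟩ := fixDim_perm h3 (T := conjRep ρ a) (by rw [← map_pow, ha, map_one]) hind htop
    (fun q => φ a q) hφ3 (hmaps a)
  set d := finrank K ↥Z with hd
  have hWd : ∀ q, finrank K ↥(W q) = d := fun q => by
    refine (Submodule.equivMapOfInjective _ (fun S T h => ?_) Z).finrank_eq.symm
    have := congrArg (fun X => ρ ((q.out : G))⁻¹ * X) h
    simpa only [LinearMap.mulLeft_apply, ← mul_assoc, ← map_mul, inv_mul_cancel, map_one, one_mul] using this
  -- the fixed part and the commutators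
  let δ : Q →* Q := MonoidHom.mk' (fun q => φ a q * q⁻¹) fun q r => by
    rw [map_mul, mul_inv]; exact mul_mul_mul_comm _ _ _ _
  let C : Subgroup Q := δ.ker
  let D : Subgroup Q := δ.range
  have hC : ∀ q, q ∈ C ↔ φ a q = q := fun q => by
    show φ a q * q⁻¹ = 1 ↔ φ a q = q
    rw [mul_inv_eq_one]
  have hfixcard : (Finset.univ.filter fun q => φ a q = q).card = Nat.card C := by
    rw [Nat.card_eq_fintype_card, ← Fintype.card_subtype]
    exact Fintype.card_congr (Equiv.subtypeEquivRight fun q => (hC q).symm)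
  have hQk : Nat.card Q = Nat.card D * Nat.card C := by
    rw [Subgroup.card_eq_card_quotient_mul_card_subgroup C,
      Nat.card_congr (QuotientGroup.quotientKerEquivRange δ).toEquiv]
  have hn2 : finrank K (End K V) = Nat.card Q * d := by
    rw [← finrank_top K (End K V), ← htop, show (⨆ q, W q) = ⨆ q ∈ (Finset.univ : Finset Q), W q by simp,
      finrank_biSup hind, Finset.sum_congr rfl (fun q _ => hWd q), Finset.sum_const, smul_eq_mul,
      Finset.card_univ, Nat.card_eq_fintype_card]
  rw [Finset.sum_congr rfl (fun q _ => hWd q), Finset.sum_const, smul_eq_mul, hfixcard, hn2] at hfix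
  obtain ⟨n1, n2, hsum, hsq⟩ := sq_le_fixDim_conjRep h3 ρ ha
  have hnn : finrank K V * finrank K V = Nat.card D * Nat.card C * d := by
    rw [← hQk, ← hn2, Module.finrank_linearMap]
  -- it is enough that the commutators are numerous
  suffices hk : 64 ≤ Nat.card D by
    set n := finrank K V
    set n0 := fixDim (ρ a)
    set k := Nat.card D
    set f := Nat.card C
    rw [hQk] at hfix
    by_contra hlt
    push Not at hlt
    zify at hlt hfix hnn hsq hsum hk
    have h1 : (3 * (n0 : ℤ) - n) ^ 2 ≤ 4 * (f * d) := by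
      nlinarith [sq_nonneg ((n1 : ℤ) - n2)]
    have h2 : 64 * ((f : ℤ) * d) ≤ n * n := by
      rw [hnn, mul_assoc]
      exact mul_le_mul_of_nonneg_right hk (by positivity)
    nlinarith
  -- coprimality
  have hQ6 : (Nat.card Q).Coprime 6 := hE6.coprime_dvd_left (Subgroup.card_quotient_dvd_card _)
  have hD6 : (Nat.card D).Coprime 6 := hQ6.coprime_dvd_left (Subgroup.card_subgroup_dvd_card D)
  have hCD : ∀ q, q ∈ C → q ∈ D → q = 1 := by
    intro q hq hqD
    obtain ⟨r, rfl⟩ := hqD
    rw [hC] at hq
    have h3' : δ r ^ 3 = 1 := by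
      calc δ r ^ 3 = φ a (φ a (δ r)) * φ a (δ r) * δ r := by
            rw [hq, hq, pow_succ, pow_two]
        _ = 1 := by
            show φ a (φ a (φ a r * r⁻¹)) * φ a (φ a r * r⁻¹) * (φ a r * r⁻¹) = 1
            simp only [map_mul, map_inv, hφ3]
            group
    rw [← orderOf_eq_one_iff]
    have h6 : (orderOf (δ r)).Coprime 6 := hQ6.coprime_dvd_left (orderOf_dvd_natCard _)
    exact Nat.eq_one_of_dvd_coprimes h6 dvd_rfl ((orderOf_dvd_of_pow_eq_one h3').trans (by norm_num))
  -- the fixed points of the whole group are trivial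
  have hglobal : ∀ q : Q, φ a q = q → φ (v * a * v⁻¹) q = q → q = 1 := by
    intro q h1 h2
    have hall : ∀ g, φ g q = q := fun g => by
      have hg : g ∈ Subgroup.closure ({a, v * a * v⁻¹} : Set G) := hgen ▸ Subgroup.mem_top g
      induction hg using Subgroup.closure_induction with
      | mem z hz =>
        rcases hz with rfl | rfl
        · exact h1
        · exact h2
      | one => rw [map_one]; rfl
      | mul z z' _ _ h h' => rw [map_mul, MulAut.mul_apply, h', h]
      | inv z _ h =>
        conv_lhs => rw [← h]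
        rw [← MulAut.mul_apply, ← map_mul, inv_mul_cancel, map_one]
        rfl
    induction q using QuotientGroup.induction_on with
    | _ e =>
      have hmem : ∀ g : G, g * (e : G) * g⁻¹ * (e : G)⁻¹ ∈ Subgroup.center G := fun g => by
        have h := hall g
        rw [hφmk, eq_comm, QuotientGroup.eq] at h
        have h' := hcZ _ h
        rw [Subgroup.coe_mul, Subgroup.coe_inv, MulAut.conjNormal_apply] at h'
        have h'' := (inferInstance : (Subgroup.center G).Normal).conj_mem _ h' (e : G)
        rwa [mul_inv_cancel_left] at h''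
      let hom : G →* Subgroup.center G :=
        MonoidHom.mk' (fun g => ⟨g * (e : G) * g⁻¹ * (e : G)⁻¹, hmem g⟩) fun g g' => Subtype.ext (by
          show g * g' * (e : G) * (g * g')⁻¹ * (e : G)⁻¹ =
            (g * (e : G) * g⁻¹ * (e : G)⁻¹) * (g' * (e : G) * g'⁻¹ * (e : G)⁻¹)
          have hc := Subgroup.mem_center_iff.1 (hmem g') g
          calc g * g' * (e : G) * (g * g')⁻¹ * (e : G)⁻¹
              = g * (g' * (e : G) * g'⁻¹ * (e : G)⁻¹) * ((e : G) * g⁻¹ * (e : G)⁻¹) := by group
            _ = (g' * (e : G) * g'⁻¹ * (e : G)⁻¹) * (g * (e : G) * g⁻¹ * (e : G)⁻¹) := by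
                rw [hc]; group
            _ = _ := (Subgroup.mem_center_iff.1 (hmem g') _).symm)
      have hker : commutator G ≤ hom.ker := by
        rw [commutator_def, Subgroup.commutator_le]
        intro g _ g' _
        rw [MonoidHom.mem_ker, map_commutatorElement, commutatorElement_eq_one_iff_mul_comm]
        exact Subtype.ext (Subgroup.mem_center_iff.1 (hom g').2 _)
      rw [hperf] at hker
      rw [QuotientGroup.eq_one_iff, Subgroup.mem_center_iff]
      intro f
      have h := congrArg Subtype.val (MonoidHom.mem_ker.1 (hker (Subgroup.mem_top (f : G))))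
      refine Subtype.ext ?_
      show (f : G) * e = e * f
      have h' : (f : G) * e * (f : G)⁻¹ * (e : G)⁻¹ = 1 := h
      rw [mul_inv_eq_one, mul_inv_eq_iff_eq_mul] at h'
      exact h'
  have hnontriv : ∃ q : Q, q ≠ 1 := by
    by_contra h
    push Not at h
    refine hE fun e he => hcZ ⟨e, he⟩ ((QuotientGroup.eq_one_iff _).1 (h _))
  have hD1 : Nat.card D ≠ 1 := by
    intro h1
    have hall : ∀ q, φ a q = q := fun q => by
      rw [← hC]
      show δ q = 1
      have : δ q ∈ D := ⟨q, rfl⟩
      rwa [Subgroup.eq_bot_of_card_eq D h1, Subgroup.mem_bot] at this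
    obtain ⟨q, hq⟩ := hnontriv
    refine hq (hglobal q (hall q) ?_)
    rw [map_mul, map_mul, MulAut.mul_apply, MulAut.mul_apply, hall, ← MulAut.mul_apply, ← map_mul,
      mul_inv_cancel, map_one]
    rfl
  -- the commutators are not cyclic
  have hnc : ¬ IsCyclic D := by
    intro hcyc
    have hCDtop : ∀ q : Q, ∃ c ∈ C, ∃ d ∈ D, c * d = q := by
      have hdisj : Disjoint C D := Subgroup.disjoint_def.2 fun h h' => hCD _ h h'
      have hcompl := Subgroup.isComplement'_of_card_mul_and_disjoint (by rw [hQk, mul_comm]) hdisj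
      intro q
      obtain ⟨⟨c, d⟩, hcd⟩ := hcompl.2 q
      exact ⟨c, c.2, d, d.2, hcd⟩
    let com : Q → Q → Prop := fun q r => ∀ e f : E, (e : Q) = q → (f : Q) = r → e * f = f * e
    have hcomrep : ∀ e f : E, e * f = f * e → com (e : Q) (f : Q) := by
      intro e f h e' f' he hf
      rw [eq_comm, QuotientGroup.eq] at he hf
      have e1 : e' = e * (e⁻¹ * e') := by group
      have f1 : f' = f * (f⁻¹ * f') := by group
      rw [e1, f1]
      generalize e⁻¹ * e' = z at he
      generalize f⁻¹ * f' = z' at hf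
      have cz := Subgroup.mem_center_iff.1 he
      have cz' := Subgroup.mem_center_iff.1 hf
      calc e * z * (f * z') = e * (f * z') * z := by rw [mul_assoc e z, ← cz (f * z'), ← mul_assoc]
        _ = e * f * z' * z := by rw [← mul_assoc e f]
        _ = f * e * z' * z := by rw [h]
        _ = f * z' * e * z := by rw [mul_assoc f e z', cz' e, ← mul_assoc]
        _ = f * z' * (e * z) := by rw [mul_assoc]
    -- fixed elements commute with commutators
    have hCcom : ∀ c ∈ C, ∀ d ∈ D, com c d := by
      rintro c hc _ ⟨q, rfl⟩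
      induction c using QuotientGroup.induction_on with
      | _ e =>
        induction q using QuotientGroup.induction_on with
        | _ f =>
          have hh : δ (f : Q) = ((((MulAut.conjNormal a : MulAut E) f) * f⁻¹ : E) : Q) := rfl
          rw [hh]
          refine hcomrep _ _ (Subtype.ext ?_)
          show (e : G) * (a * f * a⁻¹ * (f : G)⁻¹) = a * f * a⁻¹ * (f : G)⁻¹ * e
          rw [hC, hφmk, eq_comm, QuotientGroup.eq] at hc
          have hz := hcZ _ hc
          rw [Subgroup.coe_mul, Subgroup.coe_inv, MulAut.conjNormal_apply] at hz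
          set z := (e : G)⁻¹ * (a * e * a⁻¹) with hzdef
          set κ := (e : G) * f * (e : G)⁻¹ * (f : G)⁻¹ with hκ
          have hκc : κ ∈ Subgroup.center G := hcomm _ e.2 _ f.2
          have cz := Subgroup.mem_center_iff.1 hz
          have cκ := Subgroup.mem_center_iff.1 hκc
          have hae : a * (e : G) * a⁻¹ = (e : G) * z := by rw [hzdef, mul_inv_cancel_left]
          have hP : (e : G) * (a * f * a⁻¹) * (e : G)⁻¹ = κ * (a * f * a⁻¹) := by
            calc (e : G) * (a * f * a⁻¹) * (e : G)⁻¹
                = (e : G) * ((a * f * a⁻¹) * z) * z⁻¹ * (e : G)⁻¹ := by group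
              _ = ((e : G) * z) * (a * f * a⁻¹) * z⁻¹ * (e : G)⁻¹ := by rw [cz (a * f * a⁻¹)]; group
              _ = (a * (e : G) * a⁻¹) * (a * f * a⁻¹) * (a * (e : G) * a⁻¹)⁻¹ := by rw [hae]; group
              _ = a * κ * (f : G) * a⁻¹ := by rw [hκ]; group
              _ = κ * a * (f : G) * a⁻¹ := by rw [cκ a]
              _ = κ * (a * f * a⁻¹) := by group
          calc (e : G) * (a * f * a⁻¹ * (f : G)⁻¹)
              = ((e : G) * (a * f * a⁻¹) * (e : G)⁻¹) * ((e : G) * (f : G)⁻¹ * (e : G)⁻¹) * e := by group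
            _ = (κ * (a * f * a⁻¹)) * ((f : G)⁻¹ * κ⁻¹) * e := by rw [hP, hκ]; group
            _ = a * f * a⁻¹ * (f : G)⁻¹ * e := by
                rw [← cκ (a * f * a⁻¹)]
                have hκi := Subgroup.mem_center_iff.1 (inv_mem hκc) ((f : G)⁻¹)
                rw [hκi]
                group
    have hDcom : ∀ d ∈ D, ∀ d' ∈ D, com d d' := by
      obtain ⟨g, hg⟩ := hcyc.exists_generator
      intro d hd' d' hd''
      obtain ⟨i, hi⟩ := hg ⟨d, hd'⟩
      obtain ⟨j, hj⟩ := hg ⟨d', hd''⟩
      have hi' : ((g : Q).out ^ i : E) = (d : Q) := by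
        rw [QuotientGroup.mk_zpow, QuotientGroup.out_eq']
        exact congrArg Subtype.val hi
      have hj' : ((g : Q).out ^ j : E) = (d' : Q) := by
        rw [QuotientGroup.mk_zpow, QuotientGroup.out_eq']
        exact congrArg Subtype.val hj
      intro e f he hf
      exact hcomrep _ _ ((Commute.refl _).zpow_zpow i j).eq e f (he.trans hi'.symm) (hf.trans hj'.symm)
    refine hD1 ?_
    have : D = ⊥ := by
      rw [eq_bot_iff]
      intro d hd'
      rw [Subgroup.mem_bot, ← QuotientGroup.out_eq' d, QuotientGroup.eq_one_iff, Subgroup.mem_center_iff]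
      intro t
      obtain ⟨c, hc, d', hd'', hcd⟩ := hCDtop (t : Q)
      have hsplit : (t : Q) = ((c.out * d'.out : E) : Q) := by
        rw [QuotientGroup.mk_mul, QuotientGroup.out_eq', QuotientGroup.out_eq', hcd]
      have h1 : c.out * d.out = d.out * c.out :=
        hCcom c hc d hd' _ _ (QuotientGroup.out_eq' _) (QuotientGroup.out_eq' _)
      have h2 : d'.out * d.out = d.out * d'.out :=
        hDcom d' hd'' d hd' _ _ (QuotientGroup.out_eq' _) (QuotientGroup.out_eq' _)
      refine (hcomrep (c.out * d'.out) d.out ?_ t d.out hsplit rfl)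
      rw [mul_assoc, h2, ← mul_assoc, h1, mul_assoc]
    rw [this, Subgroup.card_bot]
  -- only two orders remain
  by_contra hlt
  push Not at hlt
  have hsqf : ¬ Squarefree (Nat.card D) := fun h => hnc (by
    haveI := IsZGroup.of_squarefree h
    infer_instance)
  obtain ⟨r, hr, hDr⟩ : ∃ r, (r = 5 ∨ r = 7) ∧ Nat.card D = r ^ 2 := by
    have key : ∀ k < 64, Nat.Coprime k 6 → (∀ q < 8, q * q ∣ k → q = 1) ∨ k = 25 ∨ k = 49 := by decide
    rcases key _ hlt hD6 with h | h | h
    · refine absurd ?_ hsqf
      intro q hq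
      have hqle : q * q ≤ Nat.card D := Nat.le_of_dvd Nat.card_pos hq
      rw [Nat.isUnit_iff]
      exact h q (by nlinarith) hq
    · exact ⟨5, Or.inl rfl, by rw [h]; norm_num⟩
    · exact ⟨7, Or.inr rfl, by rw [h]; norm_num⟩
  have hrp : r.Prime := by rcases hr with rfl | rfl <;> norm_num
  set y := v * a * v⁻¹
  -- the fixed subgroup of the conjugate
  have hfk : Nat.card C ∣ Nat.card D := by
    let ψ : C →* Q ⧸ C := (QuotientGroup.mk' C).comp (((φ v).toMonoidHom).comp C.subtype)
    have hψ : Function.Injective ψ := by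
      rw [injective_iff_map_eq_one]
      intro c hc
      have hmem : φ v c ∈ C := (QuotientGroup.eq_one_iff _).1 hc
      have hy' : φ y (φ v c) = φ v c := by
        rw [← MulAut.mul_apply, ← map_mul, inv_mul_cancel_right, map_mul, MulAut.mul_apply, (hC _).1 c.2]
      have h1 := hglobal _ ((hC _).1 hmem) hy'
      exact Subtype.ext ((φ v).injective (h1.trans (map_one _).symm))
    have h := Subgroup.card_dvd_of_injective ψ hψ
    rwa [Nat.card_congr (QuotientGroup.quotientKerEquivRange δ).toEquiv] at h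
  obtain ⟨i, hi, hCi⟩ := (Nat.dvd_prime_pow hrp).1 (hDr ▸ hfk)
  have hQr : Nat.card Q = r ^ (2 + i) := by rw [hQk, hDr, hCi, pow_add]
  -- the element of order a power of `p` acts trivially
  have htriv : ∀ q, φ v q = q := by
    let P := Subgroup.zpowers v
    have hP : IsPGroup p P := fun g => by
      refine ⟨m, Subtype.ext ?_⟩
      obtain ⟨l, hl⟩ := g.2
      rw [Subgroup.coe_pow, ← hl, Subgroup.coe_one]
      show (v ^ l) ^ p ^ m = 1
      rw [← zpow_natCast, ← zpow_mul, mul_comm, zpow_mul, zpow_natCast, hv, one_zpow]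
    letI act : MulAction P Q :=
      { smul := fun g q => φ (g : G) q
        one_smul := fun q => by show φ ((1 : P) : G) q = q; rw [Subgroup.coe_one, map_one]; rfl
        mul_smul := fun g g' q => by
          show φ ((g * g' : P) : G) q = φ (g : G) (φ (g' : G) q)
          rw [Subgroup.coe_mul, map_mul]; rfl }
    have hmod := hP.card_modEq_card_fixedPoints Q
    let F : Subgroup Q :=
      { carrier := {q | φ v q = q}
        one_mem' := map_one _
        mul_mem' := fun {x x'} h h' => by show φ v (x * x') = x * x'; rw [map_mul, h, h']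
        inv_mem' := fun {x} h => by show φ v x⁻¹ = x⁻¹; rw [map_inv, h] }
    have hF : Nat.card (MulAction.fixedPoints P Q) = Nat.card F := by
      refine Nat.card_congr (Equiv.subtypeEquivRight fun q => ⟨fun h => h ⟨v, Subgroup.mem_zpowers v⟩, ?_⟩)
      intro h g
      obtain ⟨l, hl⟩ := g.2
      show φ (g : G) q = q
      rw [← hl]
      have hst : v ∈ (MulAction.stabilizer (MulAut Q) q).comap φ := h
      exact Subgroup.zpow_mem _ hst l
    obtain ⟨j, hj, hFj⟩ := (Nat.dvd_prime_pow hrp).1 (hQr ▸ Subgroup.card_subgroup_dvd_card F)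
    rw [hF, hFj, hQr] at hmod
    have hij : j = 2 + i := by
      by_contra hne
      have hlt' : j < 2 + i := lt_of_le_of_ne hj hne
      obtain ⟨l, hl⟩ := Nat.exists_eq_add_of_lt hlt'
      have hd' := (Nat.modEq_iff_dvd' (Nat.pow_le_pow_right hrp.pos hlt'.le)).1 hmod.symm
      rw [hl, pow_add, pow_add, mul_assoc, ← Nat.mul_sub_one, ← pow_add] at hd'
      rcases (Fact.out : p.Prime).dvd_mul.1 hd' with h | h
      · have := (Fact.out : p.Prime).dvd_of_dvd_pow h
        rw [Nat.prime_dvd_prime_iff_eq Fact.out hrp] at this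
        rcases hr with rfl | rfl <;> omega
      · exact prime_dvd_pow_sub_one Fact.out hp3 hp11 hr (by omega) (by omega) h
    have hFtop : F = ⊤ := Subgroup.eq_top_of_card_eq _ (by rw [hFj, hQr, hij])
    exact fun q => (hFtop ▸ Subgroup.mem_top q : q ∈ F)
  have hφy : φ y = φ a := by
    have : φ v = 1 := MulEquiv.ext htriv
    rw [map_mul, map_mul, map_inv, this, one_mul, inv_one, mul_one]
  have hrange : ∀ g, φ g ∈ Subgroup.zpowers (φ a) := fun g => by
    have hg : g ∈ Subgroup.closure ({a, y} : Set G) := hgen ▸ Subgroup.mem_top g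
    have hle : Subgroup.closure ({a, y} : Set G) ≤ (Subgroup.zpowers (φ a)).comap φ := by
      rw [Subgroup.closure_le]
      rintro z (rfl | rfl)
      · exact Subgroup.mem_zpowers _
      · show φ y ∈ Subgroup.zpowers (φ a)
        rw [hφy]; exact Subgroup.mem_zpowers _
    exact hle hg
  have hone : commutator G ≤ φ.ker := by
    rw [commutator_def, Subgroup.commutator_le]
    intro g _ g' _
    rw [MonoidHom.mem_ker, map_commutatorElement, commutatorElement_eq_one_iff_mul_comm]
    obtain ⟨l, hl⟩ := hrange g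
    obtain ⟨l', hl'⟩ := hrange g'
    rw [← hl, ← hl']
    exact ((Commute.refl _).zpow_zpow l l').eq
  rw [hperf] at hone
  obtain ⟨q, hq⟩ := hnontriv
  have hfixall : ∀ g, φ g q = q := fun g => by
    rw [MonoidHom.mem_ker.1 (hone (Subgroup.mem_top g))]
    rfl
  exact hq (hglobal q (hfixall a) (hfixall _))

end Cfsg.Lib.FixSixth
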