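import Cfsg.Agent.FixSixth.NormalAbelian
import Cfsg.Agent.FixSixth.Symplectic
import Mathlib.GroupTheory.Transfer
import Mathlib.GroupTheory.Nilpotent

/-!
# The bound in the presence of a nilpotent normal subgroup
-/

set_option autoImplicit false

namespace Cfsg.Lib.FixSixth

open Module LinearMap
open scoped commutatorElement

universe u v w

variable {G : Type u} [Group G] [Finite G]

/-- A central subgroup of a perfect group is trivial when the relevant Sylow subgroups are abelian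
modulo it. -/
theorem central_trivial (hperf : commutator G = ⊤) {N : Subgroup G} (hN : N ≤ Subgroup.center G)
    (hcyc : ∀ r : ℕ, r.Prime → r ∣ Nat.card N → ∀ R : Subgroup G, IsPGroup r R →
      ∃ c : G, ∀ g ∈ R, ∃ i : ℤ, g * c ^ i ∈ N) : N = ⊥ := by
  by_contra hne
  set r := (Nat.card N).minFac
  have hcard : Nat.card N ≠ 1 := fun h => hne (Subgroup.eq_bot_of_card_eq N h)
  have hr : r.Prime := Nat.minFac_prime hcard
  haveI : Fact r.Prime := ⟨hr⟩
  obtain ⟨⟨z, hzN⟩, hz⟩ := exists_prime_orderOf_dvd_card' r (Nat.minFac_dvd (Nat.card N))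
  rw [← Subgroup.orderOf_coe] at hz
  change orderOf z = r at hz
  have hzp : IsPGroup r (Subgroup.zpowers z) := IsPGroup.of_card (n := 1) (by rw [Nat.card_zpowers, hz, pow_one])
  obtain ⟨R, hR⟩ := hzp.exists_le_sylow
  obtain ⟨c, hc⟩ := hcyc r hr (Nat.minFac_dvd _) R R.2
  have hcomm : ∀ g g' : (R : Subgroup G), g * g' = g' * g := by
    rintro ⟨g, hg⟩ ⟨g', hg'⟩
    refine Subtype.ext ?_
    show g * g' = g' * g
    obtain ⟨i, hi⟩ := hc g hg
    obtain ⟨j, hj⟩ := hc g' hg'
    have e : g = g * c ^ i * c ^ (-i) := by group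
    have e' : g' = g' * c ^ j * c ^ (-j) := by group
    have cn := Subgroup.mem_center_iff.1 (hN hi)
    have cn' := Subgroup.mem_center_iff.1 (hN hj)
    rw [e, e']
    generalize g * c ^ i = n at cn
    generalize g' * c ^ j = n' at cn'
    calc n * c ^ (-i) * (n' * c ^ (-j)) = n' * (n * c ^ (-i)) * c ^ (-j) := by rw [← mul_assoc, cn' (n * c ^ (-i))]
      _ = n' * n * (c ^ (-j) * c ^ (-i)) := by group
      _ = n' * c ^ (-j) * (n * c ^ (-i)) := by
          rw [← mul_assoc (n' * c ^ (-j)) n, mul_assoc n' (c ^ (-j)) n, cn (c ^ (-j))]; group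
  letI : CommGroup (R : Subgroup G) := { (inferInstance : Group (R : Subgroup G)) with mul_comm := hcomm }
  let t : G →* (R : Subgroup G) := MonoidHom.transfer (MonoidHom.id (R : Subgroup G))
  have hker : commutator G ≤ t.ker := Abelianization.commutator_subset_ker t
  rw [hperf] at hker
  have hzz := Subgroup.mem_center_iff.1 (hN hzN)
  have hkey : ∀ (k : ℕ) (g₀ : G), g₀⁻¹ * z ^ k * g₀ ∈ (R : Subgroup G) → g₀⁻¹ * z ^ k * g₀ = z ^ k :=
    fun k g₀ _ => by
      have := Subgroup.mem_center_iff.1 (pow_mem (hN hzN) k) g₀⁻¹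
      rw [this, inv_mul_cancel_right]
  have ht : t z = ⟨z ^ (R : Subgroup G).index, MonoidHom.transfer_eq_pow_aux z hkey⟩ :=
    MonoidHom.transfer_eq_pow _ z hkey
  have h1 : z ^ (R : Subgroup G).index = 1 := by
    have := MonoidHom.mem_ker.1 (hker (Subgroup.mem_top z))
    rw [ht] at this
    exact congrArg Subtype.val this
  have := orderOf_dvd_of_pow_eq_one h1
  rw [hz] at this
  exact R.not_dvd_index this

variable {K : Type w} [Field K] [IsAlgClosed K] {V : Type v} [AddCommGroup V] [Module K V]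
  [FiniteDimensional K V]

/-- The bound in the presence of a nontrivial nilpotent normal subgroup. -/
theorem core_bound (h3 : (3 : K) ≠ 0) (hperf : commutator G = ⊤) {ρ : Representation K G V}
    (hρ : Irr ρ) (hinj : Function.Injective ρ) {N : Subgroup G} [N.Normal] [Group.IsNilpotent N] (hN1 : N ≠ ⊥)
    (hN6 : (Nat.card N).Coprime 6) (hNK : (Nat.card N : K) ≠ 0)
    (hcyc : ∀ r : ℕ, r.Prime → r ∣ Nat.card N → ∀ R : Subgroup G, IsPGroup r R →
      ∃ c : G, ∀ g ∈ R, ∃ i : ℤ, g * c ^ i ∈ N)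
    {p : ℕ} [hp : Fact p.Prime] (hp3 : p % 3 = 2) (hp11 : 11 ≤ p) {a v : G} (ha : a ^ 3 = 1) {m : ℕ}
    (hv : v ^ p ^ m = 1) (hgen : Subgroup.closure ({a, v * a * v⁻¹} : Set G) = ⊤)
    (hxy : (a * (v * a * v⁻¹)) ^ (2 * p) ∈ N) (hxyi : (a * (v * a * v⁻¹)⁻¹) ^ (p ^ 2 - 1) ∈ N) :
    finrank K V ≤ 4 * fixDim (ρ a) := by
  have hcardK : ∀ (E : Subgroup G), E ≤ N → (Nat.card E : K) ≠ 0 := fun E hE h => hNK (by
    obtain ⟨d, hd⟩ := Subgroup.card_dvd_of_le hE
    rw [hd, Nat.cast_mul, h, zero_mul])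
  let Z := (Subgroup.center N).map N.subtype
  by_cases hZ : Z ≤ Subgroup.center G
  swap
  · refine normal_abelian_bound h3 hperf hρ hinj hN6 (A := Z) ?_ hZ ?_ ha hgen hxy hxyi
    · rintro ⟨_, b, hb, rfl⟩ ⟨_, b', -, rfl⟩
      refine Subtype.ext ?_
      show (b : G) * b' = b' * b
      exact congrArg Subtype.val (Subgroup.mem_center_iff.1 hb b').symm
    · rintro n hn _ ⟨b, hb, rfl⟩
      have h := congrArg Subtype.val (Subgroup.mem_center_iff.1 hb ⟨n, hn⟩)
      have h' : n * (b : G) = (b : G) * n := h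
      rw [Subgroup.coe_subtype, mul_assoc n⁻¹, ← h', inv_mul_cancel_left, mul_inv_cancel]
      exact one_mem _
  -- the second centre
  let E := (Subgroup.upperCentralSeries N 2).map N.subtype
  have hEN : E ≤ N := Subgroup.map_subtype_le _
  have hZ2 : ∀ b : N, b ∈ Subgroup.upperCentralSeries N 2 → ∀ n : N, ⁅b, n⁆ ∈ Subgroup.center N := by
    intro b hb n
    have := (Subgroup.mem_upperCentralSeries_succ_iff (n := 1) (x := b)).1 hb n
    rwa [Subgroup.upperCentralSeries_one] at this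
  by_cases hE : E ≤ Subgroup.center G
  · -- then `N` is central
    exfalso
    have hle : Subgroup.upperCentralSeries N 2 ≤ Subgroup.center N := fun b hb =>
      Subgroup.mem_center_iff.2 fun n => Subtype.ext (Subgroup.mem_center_iff.1 (hE ⟨b, hb, rfl⟩) (n : G))
    have hall : ∀ k, Subgroup.upperCentralSeries N k ≤ Subgroup.center N := by
      intro k
      induction k with
      | zero => simp
      | succ k ih =>
        intro b hb
        refine hle ((Subgroup.mem_upperCentralSeries_succ_iff (n := 1) (x := b)).2 fun n => ?_)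
        rw [Subgroup.upperCentralSeries_one]
        exact ih ((Subgroup.mem_upperCentralSeries_succ_iff (n := k) (x := b)).1 hb n)
    obtain ⟨k, hk⟩ := (inferInstance : Group.IsNilpotent N).nilpotent
    refine hN1 (central_trivial hperf (fun g hg => ?_) hcyc)
    exact hZ ⟨⟨g, hg⟩, hall k (hk ▸ Subgroup.mem_top _), rfl⟩
  let A := E ⊓ Subgroup.centralizer (E : Set G)
  by_cases hA : A ≤ Subgroup.center G
  · refine symplectic_bound h3 hperf hρ hinj (E := E) (hN6.coprime_dvd_left (Subgroup.card_dvd_of_le hEN))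
      (hcardK E hEN) hE ?_ ?_ hp3 hp11 ha hv hgen
    · rintro _ ⟨b, hb, rfl⟩ _ ⟨b', -, rfl⟩
      exact hZ ⟨⁅b, b'⁆, hZ2 b hb b', by rw [commutatorElement_def]; rfl⟩
    · exact fun e he h => hA ⟨he, Subgroup.mem_centralizer_iff.2 fun f hf => (h f hf).symm⟩
  · refine normal_abelian_bound h3 hperf hρ hinj hN6 (A := A) ?_ hA ?_ ha hgen hxy hxyi
    · exact fun b b' => Subtype.ext ((Subgroup.mem_centralizer_iff.1 b'.2.2 b b.2.1))
    · rintro n hn _ ⟨⟨b, hb, rfl⟩, -⟩
      have h := hZ2 b hb ⟨n, hn⟩⁻¹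
      have h' := hZ ⟨_, inv_mem h, rfl⟩
      rw [commutatorElement_inv, commutatorElement_def, Subgroup.coe_subtype] at h'
      simpa using h'

end Cfsg.Lib.FixSixth
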