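import Cfsg.Agent.FixSixth.Classify

/-!
# The counting inequalities
-/

set_option autoImplicit false

namespace Cfsg.Lib.FixSixth

/-- The number of `i ≤ k` with `2 i = c`. -/
theorem card_two_mul (k c : ℕ) :
    (Finset.univ.filter fun i : Fin (k + 1) => 2 * (i : ℕ) = c).card = if c % 2 = 0 ∧ c ≤ 2 * k then 1 else 0 := by
  split_ifs with h
  · rw [Finset.card_eq_one]
    refine ⟨⟨c / 2, by omega⟩, ?_⟩
    ext i
    simp only [Finset.mem_filter, Finset.mem_univ, true_and, Finset.mem_singleton, Fin.ext_iff]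
    omega
  · rw [Finset.card_eq_zero, Finset.filter_eq_empty_iff]
    intro i _
    have := i.2
    omega

theorem mod_small {M x : ℕ} (hx : x < 3 * M) :
    x % M = if x < M then x else if x < 2 * M then x - M else x - 2 * M := by
  split_ifs with h1 h2
  · exact Nat.mod_eq_of_lt h1
  · rw [Nat.mod_eq_sub_mod (by omega), Nat.mod_eq_of_lt (by omega)]
  · rw [Nat.mod_eq_sub_mod (by omega), Nat.mod_eq_sub_mod (by omega), Nat.mod_eq_of_lt (by omega)]
    omega

/-- The multiplicity of a small weight. -/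
theorem cntW_eq {p k w : ℕ} (hp : 13 ≤ p) (hk : k < p) (hw : w ≤ 6) :
    cntW p k w = (if (k + w) % 2 = 0 ∧ k + w ≤ 2 * k then 1 else 0) +
      (if p - 1 ≤ k + w ∧ (k + w - (p - 1)) % 2 = 0 ∧ k + w - (p - 1) ≤ 2 * k then 1 else 0) +
      (if (k + w + (p - 1)) % 2 = 0 ∧ k + w + (p - 1) ≤ 2 * k then 1 else 0) := by
  classical
  have hkey : ∀ i : Fin (k + 1), ((i : ℕ) + (p - 2) * (k - i)) % (p - 1) = w % (p - 1) ↔
      (2 * (i : ℕ) = k + w ∨ 2 * (i : ℕ) + (p - 1) = k + w ∨ 2 * (i : ℕ) = k + w + (p - 1)) := by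
    intro i
    have hi := i.2
    obtain ⟨d, hd⟩ : ∃ d, k = i + d := ⟨k - i, by omega⟩
    have hsum : ((i : ℕ) + (p - 2) * (k - i)) + k = 2 * i + (p - 1) * d := by
      rw [show k - (i : ℕ) = d by omega, show p - 1 = (p - 2) + 1 by omega, add_mul]
      omega
    have h1 : ((i : ℕ) + (p - 2) * (k - i)) % (p - 1) = w % (p - 1) ↔
        (((i : ℕ) + (p - 2) * (k - i)) + k) % (p - 1) = (w + k) % (p - 1) :=
      ⟨fun h => by rw [Nat.add_mod, h, ← Nat.add_mod], fun h => Nat.ModEq.add_right_cancel' k h⟩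
    rw [h1, hsum, Nat.add_mul_mod_self_left, mod_small (by omega : 2 * (i : ℕ) < 3 * (p - 1)),
      mod_small (by omega : w + k < 3 * (p - 1))]
    split_ifs <;> omega
  have hsplit : (Finset.univ.filter fun i : Fin (k + 1) =>
        ((i : ℕ) + (p - 2) * (k - i)) % (p - 1) = w % (p - 1)) =
      (Finset.univ.filter fun i : Fin (k + 1) => 2 * (i : ℕ) = k + w) ∪
      ((Finset.univ.filter fun i : Fin (k + 1) => 2 * (i : ℕ) + (p - 1) = k + w) ∪
        (Finset.univ.filter fun i : Fin (k + 1) => 2 * (i : ℕ) = k + w + (p - 1))) := by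
    ext i
    simp only [Finset.mem_filter, Finset.mem_univ, true_and, Finset.mem_union, hkey]
  rw [cntW, hsplit, Finset.card_union_of_disjoint, Finset.card_union_of_disjoint, card_two_mul, card_two_mul]
  · have h2 : (Finset.univ.filter fun i : Fin (k + 1) => 2 * (i : ℕ) + (p - 1) = k + w).card =
        if p - 1 ≤ k + w ∧ (k + w - (p - 1)) % 2 = 0 ∧ k + w - (p - 1) ≤ 2 * k then 1 else 0 := by
      by_cases h : p - 1 ≤ k + w
      · rw [show (Finset.univ.filter fun i : Fin (k + 1) => 2 * (i : ℕ) + (p - 1) = k + w) =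
          Finset.univ.filter fun i : Fin (k + 1) => 2 * (i : ℕ) = k + w - (p - 1) by
            refine Finset.filter_congr fun i _ => ?_
            omega, card_two_mul]
        simp only [h, true_and]
      · rw [if_neg (fun hh => h hh.1), Finset.card_eq_zero, Finset.filter_eq_empty_iff]
        intro i _
        omega
    omega
  · rw [Finset.disjoint_left]
    intro i hi hi'
    simp only [Finset.mem_filter, Finset.mem_univ, true_and] at hi hi'
    omega
  · rw [Finset.disjoint_left]
    intro i hi hi'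
    simp only [Finset.mem_filter, Finset.mem_univ, true_and, Finset.mem_union] at hi hi'
    omega

theorem cnt3_eq (k : ℕ) :
    cnt3 k = if 2 * k % 3 ≤ k then (k - 2 * k % 3) / 3 + 1 else 0 := by
  classical
  split_ifs with h
  · rw [cnt3, ← Fintype.card_fin ((k - 2 * k % 3) / 3 + 1), ← Finset.card_univ]
    symm
    refine Finset.card_bij (fun j _ => (⟨2 * k % 3 + 3 * (j : ℕ), by have := j.2; omega⟩ : Fin (k + 1)))
      (fun j _ => ?_) (fun a _ b _ hab => ?_) (fun i hi => ?_)
    · have := j.2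
      simp only [Finset.mem_filter, Finset.mem_univ, true_and]
      omega
    · rw [Fin.ext_iff] at hab ⊢
      simp only at hab
      omega
    · have := i.2
      simp only [Finset.mem_filter, Finset.mem_univ, true_and] at hi
      exact ⟨⟨((i : ℕ) - 2 * k % 3) / 3, by omega⟩, Finset.mem_univ _, Fin.ext (by simp only; omega)⟩
  · rw [cnt3, Finset.card_eq_zero, Finset.filter_eq_empty_iff]
    intro i _
    have := i.2
    have : k ≤ 1 := by omega
    interval_cases k <;> omega

set_option maxHeartbeats 3000000 in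
/-- The inequality for `p ≥ 13`. -/
theorem count_large {p k : ℕ} (hp : 13 ≤ p) (hodd : p % 2 = 1) (hk : k < p) :
    k + 1 + 2 * cntW p k 3 + cntW p k 6 ≤ 4 * cnt3 k + 2 * cntW p k 1 + cntW p k 0 := by
  rcases Nat.lt_or_ge k 13 with hsmall | hbig
  · rw [cntW_eq hp hk (by norm_num), cntW_eq hp hk (by norm_num), cntW_eq hp hk (by norm_num),
      cntW_eq hp hk (by norm_num), cnt3_eq]
    interval_cases k <;> norm_num <;> split_ifs <;> omega
  · have hc : k - 1 ≤ 3 * cnt3 k := by
      rw [cnt3_eq]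
      split_ifs <;> omega
    have h1 : cntW p k 3 ≤ cntW p k 1 + 1 := by
      rw [cntW_eq hp hk (by norm_num), cntW_eq hp hk (by norm_num)]
      split_ifs <;> omega
    have h0 : cntW p k 6 ≤ cntW p k 0 + 1 := by
      rw [cntW_eq hp hk (by norm_num), cntW_eq hp hk (by norm_num)]
      split_ifs <;> omega
    have hev : k % 2 = 1 → cntW p k 6 = 0 ∧ cntW p k 0 = 0 := fun h => by
      rw [cntW_eq hp hk (by norm_num), cntW_eq hp hk (by norm_num)]
      split_ifs <;> omega
    have hod : k % 2 = 0 → cntW p k 3 = 0 ∧ cntW p k 1 = 0 := fun h => by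
      rw [cntW_eq hp hk (by norm_num), cntW_eq hp hk (by norm_num)]
      split_ifs <;> omega
    rcases Nat.mod_two_eq_zero_or_one k with h | h
    · have := hod h; omega
    · have := hev h; omega

/-- The inequality used for `p = 11` when the kernel has exponent above one. -/
theorem count_eleven_a : ∀ k < 11, k + 1 + 2 * cntW 11 k 3 ≤ 5 * cnt3 k + cntW 11 k 9 + cntW 11 k 1 := by
  decide

end Cfsg.Lib.FixSixth
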