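import Cfsg.Agent.FixSixth.Linear

/-!
# Multiplicity one through an anti-involution
-/

set_option autoImplicit false

namespace Cfsg.Lib.FixSixth

open Module LinearMap

universe u v w

variable {K : Type w} [Field K] [IsAlgClosed K] {V : Type v} [AddCommGroup V] [Module K V]
  [FiniteDimensional K V] {G : Type u} [Group G] [Finite G]

/-- The Gelfand–Kazhdan argument: if an anti-automorphism moves every element only by conjugation
with a power of `c`, then `c` has eigenspaces of dimension at most one in every irreducible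
representation. -/
theorem gelfand_kazhdan {ρ : Representation K G V} (hρ : Irr ρ) (σ : G → G)
    (hσmul : ∀ a b, σ (a * b) = σ b * σ a) (hσinj : Function.Injective σ) (c : G)
    (hσc : ∀ g, ∃ i : ℕ, σ g * c ^ i = c ^ i * g) (l : K) :
    finrank K ↥(Module.End.eigenspace (ρ c) l) ≤ 1 := by
  classical
  haveI := Fintype.ofFinite G
  set E := Module.End.eigenspace (ρ c) l with hE
  by_cases hbot : E = ⊥
  · rw [hbot, finrank_bot]; exact Nat.zero_le _
  obtain ⟨v₁, hv₁, hv₁0⟩ := Submodule.exists_mem_ne_zero_of_ne_bot hbot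
  -- a linear form in the same eigenvalue
  have hnsurj : LinearMap.range (ρ c - l • (1 : End K V)) < ⊤ := by
    refine lt_top_iff_ne_top.2 fun h => hbot ?_
    have hker := (LinearMap.ker_eq_bot_iff_range_eq_top).2 h
    rw [hE, Module.End.eigenspace_def]
    simpa [Algebra.algebraMap_eq_smul_one] using hker
  obtain ⟨φ, hφ0, hφ⟩ := Submodule.exists_dual_map_eq_bot_of_lt_top hnsurj inferInstance
  have hφc : ∀ w, φ (ρ c w) = l * φ w := fun w => by
    have : φ ((ρ c - l • (1 : End K V)) w) ∈ Submodule.map φ (LinearMap.range (ρ c - l • (1 : End K V))) :=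
      Submodule.mem_map_of_mem (LinearMap.mem_range_self _ w)
    rw [hφ, Submodule.mem_bot, LinearMap.sub_apply, map_sub, LinearMap.smul_apply, map_smul,
      Module.End.one_apply, sub_eq_zero, smul_eq_mul] at this
    exact this
  have hl0 : l ≠ 0 := by
    intro h
    have h1 := Module.End.mem_eigenspace_iff.1 hv₁
    rw [h, zero_smul] at h1
    apply hv₁0
    have h2 := congrArg (ρ c⁻¹) h1
    rwa [← Module.End.mul_apply, ← map_mul, inv_mul_cancel, map_one, Module.End.one_apply, map_zero] at h2
  -- the invariance of the matrix coefficient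
  have hsym : ∀ v ∈ E, ∀ g, φ (ρ (σ g) v) = φ (ρ g v) := by
    intro v hv g
    obtain ⟨i, hi⟩ := hσc g
    have h1 : ∀ j : ℕ, ρ (c ^ j) v = l ^ j • v := fun j => by
      induction j with
      | zero => simp
      | succ j ih =>
        rw [pow_succ', map_mul, Module.End.mul_apply, ih, map_smul, Module.End.mem_eigenspace_iff.1 hv,
          smul_smul, pow_succ]
    have h2 : ∀ (j : ℕ) w, φ (ρ (c ^ j) w) = l ^ j * φ w := fun j => by
      induction j with
      | zero => intro w; simp
      | succ j ih =>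
        intro w
        rw [pow_succ, map_mul, Module.End.mul_apply, ih, hφc, pow_succ, mul_assoc]
    have h3 := congrArg (fun x => φ (ρ x v)) hi
    simp only [map_mul, Module.End.mul_apply, h1, h2, map_smul, smul_eq_mul] at h3
    exact mul_left_cancel₀ (pow_ne_zero _ hl0) h3
  let Θ : V → ((G → K) →ₗ[K] V) := fun v => Fintype.linearCombination K fun g => ρ g v
  let Φ : (G → K) →ₗ[K] (V →ₗ[K] K) := Fintype.linearCombination K fun g => φ.comp (ρ (σ g))
  have hσsurj : Function.Surjective σ := Finite.injective_iff_surjective.1 hσinj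
  have happ : ∀ (v : V) (a : G → K) (h : G), φ (ρ h (Θ v a)) = ∑ g, a g * φ (ρ (h * g) v) := fun v a h => by
    simp [Θ, Fintype.linearCombination_apply, map_sum, map_mul]
  have hkey : ∀ v ∈ E, v ≠ 0 → ∀ a, Θ v a = 0 ↔ Φ a = 0 := by
    intro v hv hv0 a
    constructor
    · intro h
      rw [← LinearMap.ker_eq_top, eq_top_iff, ← hρ.orbit_span hv0, Submodule.span_le]
      rintro _ ⟨h', rfl⟩
      obtain ⟨k, rfl⟩ := hσsurj h'
      simp only [SetLike.mem_coe, mem_ker, Φ, Fintype.linearCombination_apply, LinearMap.sum_apply,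
        LinearMap.smul_apply, LinearMap.comp_apply, smul_eq_mul]
      rw [show (∑ g, a g * φ (ρ (σ g) (ρ (σ k) v))) = ∑ g, a g * φ (ρ (k * g) v) from
        Finset.sum_congr rfl fun g _ => by
          rw [← Module.End.mul_apply, ← map_mul, ← hσmul, hsym v hv]]
      rw [← happ, h, map_zero, map_zero]
    · intro h
      refine hρ.eq_zero_of_forall hφ0 fun k => ?_
      rw [happ]
      have h' := LinearMap.congr_fun h (ρ (σ k) v)
      simp only [Φ, Fintype.linearCombination_apply, LinearMap.sum_apply, LinearMap.smul_apply,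
        LinearMap.comp_apply, smul_eq_mul, LinearMap.zero_apply] at h'
      rw [← h']
      exact Finset.sum_congr rfl fun g _ => by
        rw [← Module.End.mul_apply, ← map_mul, ← hσmul, hsym v hv]
  refine finrank_le_one ⟨v₁, hv₁⟩ ?_
  rintro ⟨v₂, hv₂⟩
  by_cases hv₂0 : v₂ = 0
  · exact ⟨0, Subtype.ext (by simp [hv₂0])⟩
  have hker : LinearMap.ker (Θ v₁) ≤ LinearMap.ker (Θ v₂) := fun a ha => by
    rw [mem_ker] at ha ⊢
    exact (hkey v₂ hv₂ hv₂0 a).2 ((hkey v₁ hv₁ hv₁0 a).1 ha)
  have hsurj : LinearMap.range (Θ v₁) = ⊤ := by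
    rw [← hρ.orbit_span hv₁0]
    exact Fintype.range_linearCombination _ _
  obtain ⟨T, hT⟩ : ∃ T : End K V, ∀ a, T (Θ v₁ a) = Θ v₂ a := by
    let e := (Θ v₁).quotKerEquivOfSurjective (LinearMap.range_eq_top.1 hsurj)
    refine ⟨((LinearMap.ker (Θ v₁)).liftQ (Θ v₂) hker).comp e.symm.toLinearMap, fun a => ?_⟩
    have : e.symm (Θ v₁ a) = Submodule.Quotient.mk a := by
      rw [LinearEquiv.symm_apply_eq]; rfl
    simp [this]
  have hTeq : ∀ g, T (ρ g v₁) = ρ g v₂ := fun g => by
    have := hT (Pi.single g 1)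
    simpa [Θ, Fintype.linearCombination_apply_single] using this
  obtain ⟨m, hm⟩ := hρ.schur T fun g => by
    refine LinearMap.ext_on (hρ.orbit_span hv₁0) ?_
    rintro _ ⟨h, rfl⟩
    simp only [Module.End.mul_apply]
    rw [hTeq, ← Module.End.mul_apply (ρ g), ← map_mul, hTeq, map_mul, Module.End.mul_apply]
  refine ⟨m, Subtype.ext ?_⟩
  have := hTeq 1
  simp only [map_one, Module.End.one_apply, hm] at this
  simpa using this

end Cfsg.Lib.FixSixth
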