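import Cfsg.Agent.FixSixth.Linear

/-!
# A unipotent operator normalised by a semisimple one, made homogeneous
-/

set_option autoImplicit false

namespace Cfsg.Lib.FixSixth

open Module LinearMap

universe v w

variable {K : Type w} [Field K] {V : Type v} [AddCommGroup V] [Module K V]

/-- The homogeneous operator made from `H - 1`. -/
def gradedOp (H : End K V) (s k : ℕ) : End K V :=
  ∑ j ∈ Finset.range k, (((s : K)⁻¹) ^ j) • (H ^ (s ^ j) - 1)

/-- The homogeneous operator shifts by `s` and has the kernels of the powers of `H - 1`. -/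
theorem gradedOp_spec {p e k s : ℕ} [Fact p.Prime] [CharP K p] (hk : (k : K) ≠ 0)
    {T H : End K V} (hT : T ^ k = 1) (hH : H ^ (p ^ e) = 1) (hTH : T * H = H ^ s * T)
    (hs : (s : K) ^ k = 1) :
    T * gradedOp H s k = (s : K) • (gradedOp H s k * T) ∧ IsNilpotent (gradedOp H s k) ∧
      ∀ i, ker (gradedOp H s k ^ i) = ker ((H - 1) ^ i) := by
  have hconj : ∀ j, T ^ j * H = H ^ (s ^ j) * T ^ j := fun j => by
    induction j with
    | zero => simp
    | succ j ih =>
      have h1 : SemiconjBy T H (H ^ s) := hTH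
      have h2 := h1.pow_right (s ^ j)
      rw [pow_succ' T, mul_assoc, ih, ← mul_assoc, h2.eq, ← pow_mul, pow_succ' s, ← mul_assoc]
  have hsk : H ^ (s ^ k) = H := by simpa [hT] using (hconj k).symm
  have hk0 : k ≠ 0 := fun h => hk (by simp [h])
  have hs0 : (s : K) ≠ 0 := fun h => by
    rw [h, zero_pow hk0] at hs
    exact zero_ne_one hs
  set c : ℕ → K := fun j => ((s : K)⁻¹) ^ j with hc
  set D : End K V := ∑ j ∈ Finset.range k, c j • (H ^ (s ^ j) - 1) with hD
  -- the twisted commutation
  have hTD : T * D = (s : K) • (D * T) := by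
    have h1 : T * D = (∑ j ∈ Finset.range k, c j • (H ^ (s ^ (j + 1)) - 1)) * T := by
      rw [hD, Finset.mul_sum, Finset.sum_mul]
      refine Finset.sum_congr rfl fun j _ => ?_
      have h2 : SemiconjBy T H (H ^ s) := hTH
      have h3 := h2.pow_right (s ^ j)
      rw [mul_smul_comm, mul_sub, mul_one, smul_mul_assoc, sub_mul, one_mul, h3.eq, ← pow_mul,
        ← pow_succ']
    have h4 : ∀ j, c j • (H ^ (s ^ (j + 1)) - 1) =
        (s : K) • (c (j + 1) • (H ^ (s ^ (j + 1)) - 1)) := fun j => by
      rw [smul_smul, hc]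
      simp only [pow_succ]
      rw [mul_comm ((s : K)⁻¹ ^ j), ← mul_assoc, mul_inv_cancel₀ hs0, one_mul]
    have h5 : ∑ j ∈ Finset.range k, c (j + 1) • (H ^ (s ^ (j + 1)) - 1) = D := by
      have h6 := Finset.sum_range_succ' (fun j => c j • (H ^ (s ^ j) - 1)) k
      rw [Finset.sum_range_succ] at h6
      have h7 : c k • (H ^ (s ^ k) - 1) = c 0 • (H ^ (s ^ 0) - 1) := by
        simp [hc, inv_pow, hs, hsk]
      rw [h7] at h6
      exact (add_right_cancel h6).symm
    rw [h1, Finset.sum_congr rfl fun j _ => h4 j, ← Finset.smul_sum, h5, smul_mul_assoc]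
  -- the factorisation
  set R : ℕ → End K V := fun m => ∑ i ∈ Finset.range m, ∑ l ∈ Finset.range i, H ^ l with hR
  have hfac : ∀ m : ℕ, H ^ m - 1 = (H - 1) * ((m : K) • (1 : End K V) + (H - 1) * R m) := fun m => by
    have h1 : ∑ i ∈ Finset.range m, H ^ i = (m : K) • (1 : End K V) + (H - 1) * R m := by
      have h2 : ∀ i ∈ Finset.range m, H ^ i = 1 + (H - 1) * ∑ l ∈ Finset.range i, H ^ l := fun i _ => by
        rw [mul_geom_sum]; abel
      rw [Finset.sum_congr rfl h2, Finset.sum_add_distrib, Finset.sum_const, Finset.card_range,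
        ← Finset.mul_sum, Nat.cast_smul_eq_nsmul]
    rw [← mul_geom_sum, h1]
  set R' : End K V := ∑ j ∈ Finset.range k, c j • R (s ^ j) with hR'
  set U : End K V := (k : K) • (1 : End K V) + (H - 1) * R' with hU
  have hDU : D = (H - 1) * U := by
    rw [hD, hU, mul_add, hR', Finset.mul_sum, Finset.mul_sum]
    have h1 : (k : K) • (1 : End K V) =
        ∑ j ∈ Finset.range k, c j • (((s ^ j : ℕ) : K) • (1 : End K V)) := by
      have h2 : ∀ j ∈ Finset.range k, c j • (((s ^ j : ℕ) : K) • (1 : End K V)) = 1 := fun j _ => by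
        rw [smul_smul, hc, Nat.cast_pow, ← mul_pow, inv_mul_cancel₀ hs0, one_pow, one_smul]
      rw [Finset.sum_congr rfl h2, Finset.sum_const, Finset.card_range, Nat.cast_smul_eq_nsmul]
    rw [h1, Finset.mul_sum, ← Finset.sum_add_distrib]
    refine Finset.sum_congr rfl fun j _ => ?_
    rw [hfac]
    simp only [mul_add, smul_add, mul_smul_comm]
  have hnil : IsNilpotent (H - 1) := by
    refine ⟨p ^ e, ?_⟩
    haveI : Nontrivial (End K V) ∨ Subsingleton (End K V) := (subsingleton_or_nontrivial _).symm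
    rcases this with h | h
    · haveI : CharP (End K V) p := by
        haveI := h
        exact charP_of_injective_algebraMap (algebraMap K (End K V)).injective p
      rw [sub_pow_char_pow_of_commute (R := End K V) (p := p) (n := e) (Commute.one_right H),
        one_pow, hH, sub_self]
    · exact Subsingleton.elim _ _
  have hRc : Commute (H - 1) R' := by
    refine Commute.sum_right _ _ _ fun j _ => Commute.smul_right ?_ _
    exact Commute.sum_right _ _ _ fun i _ => Commute.sum_right _ _ _ fun l _ =>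
      ((Commute.refl H).pow_right l).sub_left (Commute.one_left _)
  have hUc : Commute (H - 1) U :=
    ((Commute.one_right _).smul_right _).add_right ((Commute.refl _).mul_right hRc)
  have hUunit : IsUnit U := by
    have h1 : IsNilpotent ((k : K)⁻¹ • ((H - 1) * R')) := (hRc.isNilpotent_mul_right hnil).smul _
    have h2 : U = (k : K) • (1 + (k : K)⁻¹ • ((H - 1) * R')) := by
      rw [smul_add, smul_smul, mul_inv_cancel₀ hk, one_smul]
    rw [h2, Algebra.smul_def]
    exact ((isUnit_iff_ne_zero.2 hk).map _).mul h1.isUnit_one_add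
  have hDop : gradedOp H s k = D := rfl
  rw [hDop]
  refine ⟨hTD, ?_, fun i => ?_⟩
  · rw [hDU]; exact hUc.isNilpotent_mul_right hnil
  · rw [hDU, hUc.mul_pow, (hUc.pow_pow i i).eq]
    have hinj : Function.Injective (U ^ i : End K V) := ((Module.End.isUnit_iff _).1 (hUunit.pow i)).1
    ext v
    simp only [mem_ker, Module.End.mul_apply]
    exact ⟨fun h => hinj (by rw [h, map_zero]), fun h => by rw [h, map_zero]⟩

/-- A homogeneous operator with the kernels of the powers of `H - 1`. -/
theorem exists_graded {p e k s : ℕ} [Fact p.Prime] [CharP K p] (hk : (k : K) ≠ 0)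
    {T H : End K V} (hT : T ^ k = 1) (hH : H ^ (p ^ e) = 1) (hTH : T * H = H ^ s * T)
    (hs : (s : K) ^ k = 1) :
    ∃ D : End K V, T * D = (s : K) • (D * T) ∧ IsNilpotent D ∧
      ∀ i, ker (D ^ i) = ker ((H - 1) ^ i) :=
  ⟨_, gradedOp_spec hk hT hH hTH hs⟩

/-- A homogeneous operator shifts the eigenspaces. -/
theorem graded_maps {T D : End K V} {a : K} (hTD : T * D = a • (D * T)) {l : K} {v : V}
    (hv : T v = l • v) (i : ℕ) : T ((D ^ i) v) = (a ^ i * l) • (D ^ i) v := by
  induction i with
  | zero => simpa using hv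
  | succ i ih =>
    rw [pow_succ' D, Module.End.mul_apply, ← Module.End.mul_apply T D, hTD, LinearMap.smul_apply,
      Module.End.mul_apply, ih, map_smul, smul_smul, pow_succ' a, mul_assoc]

variable [FiniteDimensional K V]

/-- The multiplicity of an eigenvalue. -/
noncomputable def wt (T : End K V) (l : K) : ℕ := finrank K (T.eigenspace l)

/-- The kernel of a power of a homogeneous operator inside an eigenspace. -/
theorem wt_le {T D : End K V} {a : K} (hTD : T * D = a • (D * T)) (l : K) (i : ℕ) :
    wt T l ≤ finrank K ↥(T.eigenspace l ⊓ ker (D ^ i)) + wt T (a ^ i * l) := by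
  have h := LinearMap.finrank_range_add_finrank_ker ((D ^ i).comp (T.eigenspace l).subtype)
  rw [range_comp, Submodule.range_subtype, ker_comp] at h
  have h1 : finrank K ↥(Submodule.map (D ^ i) (T.eigenspace l)) ≤ wt T (a ^ i * l) := by
    refine Submodule.finrank_mono ?_
    rintro _ ⟨v, hv, rfl⟩
    exact Module.End.mem_eigenspace_iff.2 (graded_maps hTD (Module.End.mem_eigenspace_iff.1 hv) i)
  have h2 : finrank K ↥(Submodule.comap (T.eigenspace l).subtype (ker (D ^ i))) =
      finrank K ↥(T.eigenspace l ⊓ ker (D ^ i)) := by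
    rw [← Submodule.finrank_map_subtype_eq, Submodule.map_comap_eq, Submodule.range_subtype]
  rw [h2] at h
  unfold wt at *
  omega

/-- Parts of a subspace in distinct eigenspaces add up. -/
theorem sum_inf_le (T : End K V) (S : Submodule K V) (ls : Finset K) :
    ∑ l ∈ ls, finrank K ↥(T.eigenspace l ⊓ S) ≤ finrank K S := by
  classical
  suffices h : ∑ l ∈ ls, finrank K ↥(T.eigenspace l ⊓ S) =
      finrank K ↥(⨆ l ∈ ls, T.eigenspace l ⊓ S) by
    rw [h]
    exact Submodule.finrank_mono (iSup₂_le fun l _ => inf_le_right)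
  induction ls using Finset.induction with
  | empty => rw [Finset.sum_empty, show (⨆ l ∈ (∅ : Finset K), T.eigenspace l ⊓ S) = ⊥ by simp, finrank_bot]
  | insert l ls hl ih =>
    rw [Finset.sum_insert hl, Finset.iSup_insert, ih]
    have hd : Disjoint (T.eigenspace l ⊓ S) (⨆ j ∈ ls, T.eigenspace j ⊓ S) := by
      refine Disjoint.mono inf_le_left (iSup₂_mono fun j _ => inf_le_left) ?_
      exact (T.eigenspaces_iSupIndep).disjoint_biSup (y := (ls : Set K)) (by simpa using hl)
    have h := Submodule.finrank_sup_add_finrank_inf_eq (T.eigenspace l ⊓ S)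
      (⨆ j ∈ ls, T.eigenspace j ⊓ S)
    rw [hd.eq_bot, finrank_bot] at h
    omega

omit [FiniteDimensional K V] in
/-- Powers of an eigenvector. -/
theorem pow_apply_eigen {T : End K V} {l : K} {v : V} (hv : T v = l • v) (j : ℕ) :
    (T ^ j) v = l ^ j • v := by
  induction j with
  | zero => simp
  | succ j ih => rw [pow_succ', Module.End.mul_apply, ih, map_smul, hv, smul_smul, pow_succ]

omit [FiniteDimensional K V] in
/-- An eigenspace is the fixed space of a scaled operator. -/
theorem eigenspace_eq_fixed (T : End K V) {l : K} (hl : l ≠ 0) :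
    T.eigenspace l = ker (l⁻¹ • T - 1) := by
  ext v
  rw [Module.End.mem_eigenspace_iff, mem_ker_sub_one, LinearMap.smul_apply, inv_smul_eq_iff₀ hl]

/-- Multiplicities of eigenvalues are additive. -/
theorem wt_quot {k : ℕ} (hk : (k : K) ≠ 0) {T : End K V} (hT : T ^ k = 1) {l : K} (hl : l ^ k = 1)
    (p : Submodule K V) (hp : p ≤ p.comap T) :
    wt (T.restrict hp) l + wt (p.mapQ p T hp) l = wt T l := by
  have hk0 : k ≠ 0 := fun h => hk (by simp [h])
  have hl0 : l ≠ 0 := fun h => by rw [h, zero_pow hk0] at hl; exact zero_ne_one hl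
  have hp' : p ≤ p.comap (l⁻¹ • T) := fun v hv => by
    rw [Submodule.mem_comap, LinearMap.smul_apply]
    exact p.smul_mem _ (hp hv)
  have hT' : (l⁻¹ • T) ^ k = 1 := by rw [smul_pow, hT, inv_pow, hl, inv_one, one_smul]
  have h := fixDim_quot hk hT' p hp'
  have e1 : (l⁻¹ • T).restrict hp' = l⁻¹ • T.restrict hp := by ext v; rfl
  have e2 : p.mapQ p (l⁻¹ • T) hp' = l⁻¹ • p.mapQ p T hp := by
    refine LinearMap.ext fun q => ?_
    obtain ⟨v, rfl⟩ := p.mkQ_surjective q
    rfl
  simp only [fixDim, e1, e2] at h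
  unfold wt
  rw [eigenspace_eq_fixed (T.restrict hp) hl0, eigenspace_eq_fixed (p.mapQ p T hp) hl0,
    eigenspace_eq_fixed T hl0, ← e1, ← e2]
  exact h

/-- The Frobenius case: an operator of order three and a unipotent one rotated by it. -/
theorem frobenius_char {p e : ℕ} [Fact p.Prime] [CharP K p] [IsAlgClosed K] (h3 : (3 : K) ≠ 0)
    {T H : End K V} {s : ℕ} (hT : T ^ 3 = 1) (hH : H ^ (p ^ e) = 1) (hTH : T * H = H ^ s * T)
    (hs : (s : K) ^ 3 = 1) (hs1 : (s : K) ≠ 1) :
    finrank K V ≤ 6 * fixDim T ∨ finrank K V ≤ 6 * fixDim H := by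
  classical
  obtain ⟨D, hTD, _, hker⟩ := exists_graded (p := p) (e := e) (k := 3) (by exact_mod_cast h3) hT hH hTH hs
  have hk1 : ker (D ^ 1) = ker (H - 1) := by rw [hker, pow_one]
  have hs2 : (s : K) ^ 2 ≠ 1 := fun h => hs1 (by rw [← hs, pow_succ, h, one_mul])
  -- the three eigenspaces fill the space
  have htop : (⊤ : Submodule K V) ≤ T.eigenspace 1 ⊔ T.eigenspace (s : K) ⊔ T.eigenspace ((s : K) ^ 2) := by
    intro v _
    set a : K := (s : K) with ha
    have ha3 : a * a * a = 1 := by rw [← hs]; ring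
    have hsum : 1 + a + a ^ 2 = 0 := by
      have : (a - 1) * (1 + a + a ^ 2) = 0 := by ring_nf; linear_combination ha3
      exact (mul_eq_zero.1 this).resolve_left (sub_ne_zero.2 hs1)
    have hT3 : T (T (T v)) = v := by
      have := LinearMap.congr_fun hT v
      simpa [pow_succ] using this
    have hcomp : v = ((3 : K)⁻¹ • (v + T v + T (T v))) + ((3 : K)⁻¹ • (v + a ^ 2 • T v + a • T (T v)))
        + ((3 : K)⁻¹ • (v + a • T v + a ^ 2 • T (T v))) := by
      rw [← smul_add, ← smul_add]
      have h : v + T v + T (T v) + (v + a ^ 2 • T v + a • T (T v)) + (v + a • T v + a ^ 2 • T (T v))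
          = (3 : K) • v + (1 + a + a ^ 2) • T v + (1 + a + a ^ 2) • T (T v) := by
        rw [show (3 : K) = 1 + 1 + 1 by norm_num]
        simp only [add_smul, one_smul]
        abel
      rw [h, hsum, zero_smul, zero_smul, add_zero, add_zero, smul_smul, inv_mul_cancel₀ h3, one_smul]
    rw [hcomp]
    refine Submodule.add_mem_sup (Submodule.add_mem_sup ?_ ?_) ?_
    all_goals refine Submodule.smul_mem _ _ ?_
    all_goals rw [Module.End.mem_eigenspace_iff]
    all_goals simp only [map_add, map_smul, hT3, smul_add, smul_smul, one_smul]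
    · abel
    · have e2 : a * a ^ 2 = 1 := by rw [← hs]; ring
      rw [e2, one_smul, ← pow_two]
      abel
    · have e1 : a ^ 2 * a = 1 := by rw [← hs]; ring
      have e4 : a ^ 2 * a ^ 2 = a := by linear_combination a * ha3
      rw [e1, e4, one_smul]
      abel
  have hsum : finrank K V ≤ wt T 1 + wt T (s : K) + wt T ((s : K) ^ 2) := by
    rw [← finrank_top K V]
    refine (Submodule.finrank_mono htop).trans ?_
    refine (Submodule.finrank_add_le_finrank_add_finrank _ _).trans ?_
    exact Nat.add_le_add_right (Submodule.finrank_add_le_finrank_add_finrank _ _) _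
  have h1 : wt T 1 = fixDim T := by
    rw [wt, fixDim, eigenspace_eq_fixed T one_ne_zero, inv_one, one_smul]
  have hb := wt_le hTD ((s : K) ^ 2) 1
  have ha := wt_le hTD (s : K) 1
  rw [pow_one (s : K), show (s : K) * (s : K) ^ 2 = 1 by rw [← hs]; ring, hk1] at hb
  rw [pow_one (s : K), ← pow_two, hk1] at ha
  have hne : (s : K) ≠ (s : K) ^ 2 := fun h => hs1 (by
    have h0 : (s : K) ≠ 0 := fun h0 => by rw [h0] at hs; norm_num at hs
    rw [pow_two] at h
    exact mul_right_cancel₀ h0 (by rw [one_mul]; exact h.symm))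
  have hker2 := sum_inf_le T (ker (H - 1)) {(s : K), (s : K) ^ 2}
  rw [Finset.sum_pair hne] at hker2
  unfold fixDim at *
  omega

end Cfsg.Lib.FixSixth
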