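import Cfsg.Agent.PGroups.Basic

/-!
# Lifting a Frobenius configuration through a surjection
-/

set_option autoImplicit false

namespace Cfsg.Lib.FixSixth

open Subgroup

universe u v

variable {S : Type u} [Group S] [Finite S] {Q : Type v} [Group Q] {π : S →* Q}

/-- An element of order prime to the kernel lifts with the same order. -/
theorem exists_order_lift (hπ : Function.Surjective π) {x0 : Q} {k : ℕ} (hk : 0 < k) (hx0 : x0 ^ k = 1)
    (hco : Nat.Coprime k (Nat.card π.ker)) : ∃ x : S, π x = x0 ∧ x ^ k = 1 := by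
  obtain ⟨a, ha⟩ := hπ x0
  set n := Nat.card π.ker with hn
  have hn0 : 0 < n := Nat.card_pos
  have hak : (a ^ k) ^ n = 1 := by
    have : a ^ k ∈ π.ker := by rw [MonoidHom.mem_ker, map_pow, ha, hx0]
    have h := pow_card_eq_one' (G := π.ker) (x := ⟨a ^ k, this⟩)
    exact congrArg Subtype.val h
  obtain ⟨c, hc⟩ : ∃ c, n * c ≡ 1 [MOD k] := by
    rcases Nat.eq_or_lt_of_le hk with hk1 | hk1
    · exact ⟨0, by rw [← hk1]; exact Nat.modEq_one⟩
    · obtain ⟨c, hc⟩ := Nat.exists_mul_mod_eq_one_of_coprime hco.symm hk1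
      exact ⟨c, by rw [Nat.ModEq, hc.2, Nat.mod_eq_of_lt hk1]⟩
  refine ⟨a ^ (n * c), ?_, ?_⟩
  · rw [map_pow, ha, pow_eq_pow_mod _ hx0, hc, ← pow_eq_pow_mod _ hx0, pow_one]
  · rw [← pow_mul, mul_comm (n * c) k, ← mul_assoc, pow_mul, pow_mul, hak, one_pow]

/-- A normalised cyclic `p`-group above a normalised element of order `p`, together with a `p'`-element
above the normalising one. -/
theorem exists_frobenius_lift (hπ : Function.Surjective π) {p k s : ℕ} [hp : Fact p.Prime] {t0 u : Q}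
    (hu : orderOf u = p) (hk : 0 < k) (hpk : ¬ p ∣ k) (ht0 : t0 ^ k = 1) (hconj : t0 * u * t0⁻¹ = u ^ s) :
    ∃ (t h : S) (e s' M : ℕ), π t = t0 ∧ t ^ M = 1 ∧ k ∣ M ∧ M ∣ k * Nat.card π.ker ∧ ¬ p ∣ M ∧ h ≠ 1 ∧
      h ^ p ^ e = 1 ∧ π h ≠ 1 ∧ π h ∈ Subgroup.zpowers u ∧ t * h * t⁻¹ = h ^ s' ∧ (s' : ZMod p) = (s : ZMod p) := by
  classical
  set U := Subgroup.zpowers u with hU
  set Uh := U.comap π with hUh
  have hUcard : Nat.card U = p := by rw [hU, Nat.card_zpowers, hu]
  obtain ⟨th, hth⟩ := hπ t0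
  have hstab : ∀ y ∈ Uh, th * y * th⁻¹ ∈ Uh := by
    intro y hy
    rw [hUh, mem_comap] at hy ⊢
    obtain ⟨i, hi⟩ := hy
    refine ⟨(s : ℤ) * i, ?_⟩
    show u ^ ((s : ℤ) * i) = π (th * y * th⁻¹)
    rw [map_mul, map_mul, map_inv, hth, ← hi, ← conj_zpow, hconj, zpow_mul, zpow_natCast]
  -- a Sylow subgroup of the preimage and the element normalising it
  let c : Uh →* Uh :=
    { toFun := fun y => ⟨th * y * th⁻¹, hstab y y.2⟩
      map_one' := Subtype.ext (by simp)
      map_mul' := fun a b => Subtype.ext (by simp only [Subgroup.coe_mul]; group) }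
  have hc : Function.Injective c := fun a b hab => by
    have h := congrArg Subtype.val hab
    exact Subtype.ext (by simpa [c] using h)
  obtain ⟨P⟩ : Nonempty (Sylow p Uh) := inferInstance
  have hPc : IsPGroup p ((P : Subgroup Uh).map c) := P.2.map c
  obtain ⟨P', hP'⟩ := hPc.exists_le_sylow
  have hP'eq : ((P : Subgroup Uh).map c) = P' := by
    refine Subgroup.eq_of_le_of_card_ge hP' ?_
    rw [Nat.card_congr ((P : Subgroup Uh).equivMapOfInjective c hc).toEquiv.symm]
    exact le_of_eq ((Sylow.equiv P' P).toEquiv |> Nat.card_congr)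
  obtain ⟨n, hn⟩ := MulAction.exists_smul_eq Uh P' P
  -- correct the element by the kernel
  have hsurjP : ∀ z ∈ U, ∃ y ∈ (P : Subgroup Uh), π (y : S) = z := by
    let πU : Uh →* U := (π.comp Uh.subtype).codRestrict U fun y => y.2
    have hπU : Function.Surjective πU := fun z => by
      obtain ⟨y, hy⟩ := hπ (z : Q)
      exact ⟨⟨y, by rw [hUh, mem_comap, hy]; exact z.2⟩, Subtype.ext hy⟩
    haveI : Finite U := Nat.finite_of_card_ne_zero (by rw [hUcard]; exact hp.out.ne_zero)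
    have hUp : IsPGroup p U := IsPGroup.of_card (n := 1) (by rw [hUcard, pow_one])
    set PU : Sylow p U := P.mapSurjective hπU with hPU
    have htop : (PU : Subgroup U) = ⊤ :=
      (PU.is_maximal' (hUp.to_subgroup ⊤) le_top).symm
    intro z hz
    have : (⟨z, hz⟩ : U) ∈ (P : Subgroup Uh).map πU := by
      rw [← Sylow.coe_mapSurjective hπU P, ← hPU, htop]; exact mem_top _
    obtain ⟨y, hy, hy'⟩ := this
    exact ⟨y, hy, congrArg Subtype.val hy'⟩
  obtain ⟨p1, hp1, hπp1⟩ := hsurjP (π (n : S)) n.2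
  set t1 : S := (p1 : S)⁻¹ * n * th with ht1
  have hπt1 : π t1 = t0 := by rw [ht1, map_mul, map_mul, map_inv, hπp1, inv_mul_cancel, one_mul, hth]
  set PS := (P : Subgroup Uh).map Uh.subtype with hPS
  have hnorm : ∀ y ∈ PS, t1 * y * t1⁻¹ ∈ PS := by
    rintro _ ⟨y, hy, rfl⟩
    have h1 : c y ∈ (P' : Subgroup Uh) := hP'eq ▸ Subgroup.mem_map_of_mem c hy
    have h2 : n * c y * n⁻¹ ∈ (P : Subgroup Uh) := by
      rw [← hn, Sylow.coe_subgroup_smul, Subgroup.mem_pointwise_smul_iff_inv_smul_mem]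
      simpa [MulAut.smul_def, mul_assoc] using h1
    have h3 := mul_mem (mul_mem (inv_mem hp1) h2) hp1
    refine ⟨_, h3, ?_⟩
    simp [c, ht1]
    group
  -- make it a `p'`-element
  set N := Nat.card π.ker with hN
  set M := k * (ordCompl[p] N) with hM
  have hNpos : 0 < N := Nat.card_pos
  have hMp : ¬ p ∣ M := fun h => by
    rcases (hp.out.dvd_mul).1 h with h | h
    · exact hpk h
    · exact Nat.not_dvd_ordCompl hp.out hNpos.ne' h
  set a := N.factorization p with ha
  have ht1pow : t1 ^ (k * N) = 1 := by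
    have : t1 ^ k ∈ π.ker := by rw [MonoidHom.mem_ker, map_pow, hπt1, ht0]
    rw [pow_mul]
    exact congrArg Subtype.val (pow_card_eq_one' (G := π.ker) (x := ⟨t1 ^ k, this⟩))
  obtain ⟨d, hd⟩ : ∃ d, p ^ a * d ≡ 1 [MOD k] := by
    have hco : Nat.Coprime (p ^ a) k := ((hp.out.coprime_iff_not_dvd).2 hpk).pow_left a
    rcases Nat.eq_or_lt_of_le hk with hk1 | hk1
    · exact ⟨0, by rw [← hk1]; exact Nat.modEq_one⟩
    · obtain ⟨d, hd⟩ := Nat.exists_mul_mod_eq_one_of_coprime hco hk1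
      exact ⟨d, by rw [Nat.ModEq, hd.2, Nat.mod_eq_of_lt hk1]⟩
  set t := t1 ^ (p ^ a * d) with ht
  have hπt : π t = t0 := by
    rw [ht, map_pow, hπt1, pow_eq_pow_mod _ ht0, hd, ← pow_eq_pow_mod _ ht0, pow_one]
  have htM : t ^ M = 1 := by
    rw [ht, ← pow_mul, show p ^ a * d * M = k * N * d by
      rw [hM]
      conv_rhs => rw [← Nat.ordProj_mul_ordCompl_eq_self N p]
      ring, pow_mul, ht1pow, one_pow]
  have hnormt : ∀ j, ∀ y ∈ PS, t1 ^ j * y * (t1 ^ j)⁻¹ ∈ PS := by
    intro j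
    induction j with
    | zero => intro y hy; simpa using hy
    | succ j ih =>
      intro y hy
      have := hnorm _ (ih y hy)
      rw [pow_succ', mul_inv_rev]
      simpa [mul_assoc] using this
  -- a minimal normalised subgroup with nontrivial image
  let good : Set (Subgroup S) :=
    {R | R ≤ PS ∧ (∀ y ∈ R, t * y * t⁻¹ ∈ R) ∧ ∃ y ∈ R, π y ≠ 1}
  have hgood : good.Nonempty := by
    obtain ⟨y, hy, hy'⟩ := hsurjP u (Subgroup.mem_zpowers u)
    refine ⟨PS, le_rfl, fun z hz => hnormt _ z hz, (y : S), Subgroup.mem_map_of_mem _ hy, ?_⟩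
    rw [hy']
    intro h
    rw [h, orderOf_one] at hu
    exact hp.out.ne_one hu.symm
  obtain ⟨R, hR, hmin⟩ : ∃ R ∈ good, ∀ R' ∈ good, R' ≤ R → R' = R := by
    obtain ⟨R, hR, hmin⟩ := (Set.toFinite good).exists_minimal hgood
    exact ⟨R, hR, fun R' hR' hle => le_antisymm hle (hmin hR' hle)⟩
  obtain ⟨hRPS, hRt, yR, hyR, hyR'⟩ := hR
  have hPSp : IsPGroup p PS := P.2.map _
  have hRp : IsPGroup p R := hPSp.to_le hRPS
  have hRU : ∀ y : R, π (y : S) ∈ U := fun y => by
    obtain ⟨z, _, hz⟩ := hRPS y.2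
    rw [← hz]
    exact z.2
  let ξ : R →* U := (π.comp R.subtype).codRestrict U hRU
  haveI : Finite U := Nat.finite_of_card_ne_zero (by rw [hUcard]; exact hp.out.ne_zero)
  have hfr : frattini R ≤ ξ.ker := by
    refine frattini_le_coatom ⟨fun h => ?_, fun K hK => ?_⟩
    · have : (⟨yR, hyR⟩ : R) ∈ ξ.ker := h ▸ mem_top _
      rw [MonoidHom.mem_ker] at this
      exact hyR' (congrArg Subtype.val this)
    · have hidx : ξ.ker.index ∣ p := by
        rw [Subgroup.index_ker, ← hUcard]; exact Subgroup.card_subgroup_dvd_card _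
      have h1 := Subgroup.index_dvd_of_le hK.le
      have h2 := Subgroup.index_strictAnti hK
      rcases (Nat.dvd_prime hp.out).1 (h1.trans hidx) with h | h
      · exact Subgroup.index_eq_one.1 h
      · have := Nat.le_of_dvd hp.out.pos hidx
        omega
  set F := frattini R with hF
  haveI hRQ : IsMulCommutative (R ⧸ F) := Cfsg.Lib.PGroups.isMulCommutative_quotient_frattini hRp
  let ξ' : R ⧸ F →* U := QuotientGroup.lift F ξ hfr
  let c' : R →* R :=
    { toFun := fun y => ⟨t * y * t⁻¹, hRt y y.2⟩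
      map_one' := Subtype.ext (by simp)
      map_mul' := fun a b => Subtype.ext (by simp only [Subgroup.coe_mul]; group) }
  have hc'inj : Function.Injective c' := fun a b hab => by
    have h := congrArg Subtype.val hab
    exact Subtype.ext (by simpa [c'] using h)
  have hFc : F ≤ F.comap c' :=
    frattini_le_comap_frattini_of_surjective (Finite.injective_iff_surjective.1 hc'inj)
  let ψ : R ⧸ F →* R ⧸ F := QuotientGroup.map F F c' hFc
  have hψmk : ∀ y : R, ψ (y : R ⧸ F) = ((c' y : R) : R ⧸ F) := fun y => rfl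
  have hψM : ∀ q : R ⧸ F, (ψ : R ⧸ F → R ⧸ F)^[M] q = q := by
    intro q
    obtain ⟨y, rfl⟩ := QuotientGroup.mk_surjective q
    have h1 : ∀ j, (ψ : R ⧸ F → R ⧸ F)^[j] (y : R ⧸ F) = ((c'^[j] y : R) : R ⧸ F) := fun j => by
      induction j with
      | zero => rfl
      | succ j ih => rw [Function.iterate_succ_apply', ih, hψmk, Function.iterate_succ_apply']
    have h2 : ∀ j, ((c'^[j] y : R) : S) = t ^ j * y * (t ^ j)⁻¹ := fun j => by
      induction j with
      | zero => simp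
      | succ j ih =>
        rw [Function.iterate_succ_apply']
        show t * ((c'^[j] y : R) : S) * t⁻¹ = _
        rw [ih, pow_succ']
        group
    rw [h1]
    congr 1
    refine Subtype.ext ?_
    rw [h2, htM]
    simp
  have hξψ : ∀ q, ξ' (ψ q) = ξ' q ^ s := by
    intro q
    obtain ⟨y, rfl⟩ := QuotientGroup.mk_surjective q
    refine Subtype.ext ?_
    show π (t * (y : S) * t⁻¹) = ((ξ y ^ s : U) : Q)
    obtain ⟨i, hi⟩ := hRU y
    rw [SubmonoidClass.coe_pow, map_mul, map_mul, map_inv, hπt]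
    show _ = π (y : S) ^ s
    rw [← hi, ← conj_zpow, hconj, ← zpow_natCast u s, ← zpow_mul, ← zpow_natCast (u ^ i) s, ← zpow_mul,
      mul_comm]
  have hexp : ∀ (q : R ⧸ F) (i j : ℕ), (i : ZMod p) = j → q ^ i = q ^ j := fun q i j hij => by
    have h := (ZMod.natCast_eq_natCast_iff' i j p).1 hij
    rw [pow_eq_pow_mod i (Cfsg.Lib.PGroups.pow_prime_quotient_frattini hRp q), h,
      ← pow_eq_pow_mod j (Cfsg.Lib.PGroups.pow_prime_quotient_frattini hRp q)]
  have hsM : (s : ZMod p) ^ M = 1 := by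
    have hiter : ∀ j, t0 ^ j * u * (t0 ^ j)⁻¹ = u ^ (s ^ j) := fun j => by
      induction j with
      | zero => simp
      | succ j ih =>
        have h1 : t0 ^ (j + 1) * u * (t0 ^ (j + 1))⁻¹ = t0 * (t0 ^ j * u * (t0 ^ j)⁻¹) * t0⁻¹ := by
          rw [pow_succ']; group
        rw [h1, ih, ← conj_pow, hconj, ← pow_mul, pow_succ']
    have h := hiter M
    rw [hM, pow_mul t0, ht0, one_pow, one_mul, inv_one, mul_one, ← hM] at h
    have h1 : u ^ 1 = u ^ (s ^ M) := by rw [pow_one]; exact h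
    have h' := (ZMod.natCast_eq_natCast_iff 1 (s ^ M) p).2 (by rw [← hu]; exact pow_eq_pow_iff_modEq.1 h1)
    simpa using h'.symm
  have hMpos : 0 < M := Nat.pos_of_ne_zero fun h => hMp (h ▸ dvd_zero p)
  letI : CommGroup (R ⧸ F) := { (inferInstance : Group (R ⧸ F)) with mul_comm := mul_comm' }
  haveI hUc : IsMulCommutative U := by rw [hU]; infer_instance
  letI : CommGroup U := { (inferInstance : Group U) with mul_comm := mul_comm' }
  -- the eigenvector
  set cc : ℕ → ℕ := fun j => s ^ ((M - 1) * j) with hcc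
  set a0 : R ⧸ F := ((⟨yR, hyR⟩ : R) : R ⧸ F) with ha0
  set b : R ⧸ F := ∏ j ∈ Finset.range M, ((ψ : R ⧸ F → R ⧸ F)^[j] a0) ^ cc j with hb
  have hccs : ∀ j, ((cc j : ℕ) : ZMod p) * (s : ZMod p) ^ j = 1 := fun j => by
    rw [hcc]
    push_cast
    rw [← pow_add, show (M - 1) * j + j = M * j by
      conv_rhs => rw [← Nat.sub_add_cancel (Nat.one_le_iff_ne_zero.2 hMpos.ne')]
      ring, pow_mul, hsM, one_pow]
  have hψb : ψ b = b ^ s := by
    have h1 : ψ b = ∏ j ∈ Finset.range M, ((ψ : R ⧸ F → R ⧸ F)^[j + 1] a0) ^ cc j := by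
      rw [hb, map_prod]
      exact Finset.prod_congr rfl fun j _ => by rw [map_pow, Function.iterate_succ_apply']
    have h2 : ∀ j, ((ψ : R ⧸ F → R ⧸ F)^[j + 1] a0) ^ cc j =
        (((ψ : R ⧸ F → R ⧸ F)^[j + 1] a0) ^ cc (j + 1)) ^ s := fun j => by
      rw [← pow_mul]
      refine hexp _ _ _ ?_
      rw [Nat.cast_mul]
      calc ((cc j : ℕ) : ZMod p) = cc j * (cc (j + 1) * (s : ZMod p) ^ (j + 1)) := by rw [hccs, mul_one]
        _ = cc j * (s : ZMod p) ^ j * (cc (j + 1) * s) := by ring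
        _ = _ := by rw [hccs, one_mul]
    have h3 : ∏ j ∈ Finset.range M, ((ψ : R ⧸ F → R ⧸ F)^[j + 1] a0) ^ cc (j + 1) = b := by
      have h4 := Finset.prod_range_succ' (fun j => ((ψ : R ⧸ F → R ⧸ F)^[j] a0) ^ cc j) M
      rw [Finset.prod_range_succ] at h4
      have h5 : ((ψ : R ⧸ F → R ⧸ F)^[M] a0) ^ cc M = ((ψ : R ⧸ F → R ⧸ F)^[0] a0) ^ cc 0 := by
        rw [hψM, Function.iterate_zero_apply]
        refine hexp _ _ _ ?_
        simp [hcc, pow_mul', hsM]
      rw [h5] at h4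
      exact (mul_right_cancel h4).symm
    rw [h1, Finset.prod_congr rfl fun j _ => h2 j, Finset.prod_pow, h3]
  have hξb : ξ' b ≠ 1 := by
    have hξit : ∀ j, ξ' ((ψ : R ⧸ F → R ⧸ F)^[j] a0) = ξ' a0 ^ (s ^ j) := fun j => by
      induction j with
      | zero => simp
      | succ j ih => rw [Function.iterate_succ_apply', hξψ, ih, ← pow_mul, pow_succ]
    rw [hb, map_prod]
    simp only [map_pow, hξit, ← pow_mul]
    rw [Finset.prod_pow_eq_pow_sum]
    intro h
    have hord : orderOf (ξ' a0) = p := by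
      refine orderOf_eq_prime (by rw [← hUcard]; exact pow_card_eq_one') fun h => ?_
      exact hyR' (congrArg Subtype.val h)
    have h' := orderOf_dvd_of_pow_eq_one h
    rw [hord, ← ZMod.natCast_eq_zero_iff, Nat.cast_sum] at h'
    have h6 : ∀ j ∈ Finset.range M, ((s ^ j * cc j : ℕ) : ZMod p) = 1 := fun j _ => by
      push_cast
      rw [mul_comm, hccs]
    rw [Finset.sum_congr rfl h6, Finset.sum_const, Finset.card_range, nsmul_one,
      ZMod.natCast_eq_zero_iff] at h'
    exact hMp h'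
  -- minimality makes the subgroup cyclic
  haveI hcyc : IsCyclic (R ⧸ F) := by
    set R' : Subgroup R := (Subgroup.zpowers b).comap (QuotientGroup.mk' F) with hR'
    have hR'top : R' = ⊤ := by
      have hgood' : R'.map R.subtype ∈ good := by
        refine ⟨(Subgroup.map_subtype_le _).trans hRPS, ?_, ?_⟩
        · rintro _ ⟨z, hz, rfl⟩
          refine ⟨c' z, ?_, rfl⟩
          rw [hR', SetLike.mem_coe, mem_comap, QuotientGroup.mk'_apply] at hz ⊢
          obtain ⟨i, hi⟩ := hz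
          refine ⟨(s : ℤ) * i, ?_⟩
          show b ^ ((s : ℤ) * i) = _
          rw [← hψmk, ← hi, map_zpow, hψb, zpow_mul, zpow_natCast]
        · obtain ⟨z, hz⟩ := QuotientGroup.mk_surjective b
          refine ⟨(z : S), ⟨z, ?_, rfl⟩, fun h => hξb (Subtype.ext ?_)⟩
          · rw [hR', SetLike.mem_coe, mem_comap, QuotientGroup.mk'_apply, hz]; exact Subgroup.mem_zpowers b
          · rw [← hz]; exact h
      have h := hmin _ hgood' (Subgroup.map_subtype_le _)
      rw [eq_top_iff]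
      intro z _
      have hz : (z : S) ∈ R'.map R.subtype := by rw [h]; exact z.2
      obtain ⟨z', hz', hzz⟩ := hz
      rwa [← Subtype.ext hzz]
    exact ⟨⟨b, fun q => by
      obtain ⟨z, rfl⟩ := QuotientGroup.mk_surjective q
      have : z ∈ R' := hR'top ▸ mem_top z
      exact this⟩⟩
  haveI : IsCyclic R := Cfsg.Lib.PGroups.isCyclic_of_isCyclic_quotient_frattini
  obtain ⟨g, hg⟩ := IsCyclic.exists_monoid_generator (α := R)
  obtain ⟨s', hs'⟩ := hg (c' g)
  obtain ⟨e, he⟩ := hRp g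
  have hπg : π (g : S) ≠ 1 := fun h => hyR' (by
    obtain ⟨j, hj⟩ := hg ⟨yR, hyR⟩
    have := congrArg (fun z : R => π (z : S)) hj
    simpa [h] using this.symm)
  have hconjg : t * (g : S) * t⁻¹ = (g : S) ^ s' := by
    simpa [c'] using (congrArg Subtype.val hs').symm
  refine ⟨t, g, e, s', M, hπt, htM, Dvd.intro _ rfl, Nat.mul_dvd_mul_left k (Nat.ordCompl_dvd N p), hMp,
    fun h => hπg (by rw [h, map_one]), ?_, hπg, hRU g, hconjg, ?_⟩
  · simpa using congrArg Subtype.val he
  · obtain ⟨i, hi⟩ := Submonoid.mem_powers_iff _ _ |>.1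
      ((IsOfFinOrder.mem_powers_iff_mem_zpowers
        (isOfFinOrder_iff_pow_eq_one.2 ⟨p, hp.out.pos, hu ▸ pow_orderOf_eq_one u⟩)).2 (hRU g))
    have hi0 : (i : ZMod p) ≠ 0 := fun h => hπg (by
      rw [← hi]
      exact orderOf_dvd_iff_pow_eq_one.1 (by rw [hu]; exact (ZMod.natCast_eq_zero_iff _ _).1 h))
    have h1 := congrArg π hconjg
    rw [map_mul, map_mul, map_inv, hπt, map_pow, ← hi, ← conj_pow, hconj, ← pow_mul, ← pow_mul] at h1
    have h2 := (ZMod.natCast_eq_natCast_iff (s * i) (i * s') p).2 (hu ▸ pow_eq_pow_iff_modEq.1 h1)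
    push_cast at h2
    rw [mul_comm (i : ZMod p)] at h2
    exact (mul_right_cancel₀ hi0 h2).symm

end Cfsg.Lib.FixSixth
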