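import Mathlib

/-!
# Fixed spaces of operators of order three, and an induction over composition factors
-/

set_option autoImplicit false

namespace Cfsg.Lib.FixSixth

open Module LinearMap

universe u v w

variable {K : Type w} [Field K] {V : Type v} [AddCommGroup V] [Module K V]

/-- The dimension of the fixed space. -/
noncomputable def fixDim (T : End K V) : ℕ := finrank K (ker (T - 1))

theorem mem_ker_sub_one {T : End K V} {v : V} : v ∈ ker (T - 1) ↔ T v = v := by
  rw [mem_ker, LinearMap.sub_apply, Module.End.one_apply, sub_eq_zero]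

variable [FiniteDimensional K V]

theorem fixDim_le (T : End K V) : fixDim T ≤ finrank K V := Submodule.finrank_le _

theorem fixDim_one : fixDim (1 : End K V) = finrank K V := by
  rw [fixDim, sub_self, ker_zero, finrank_top]

/-- The projection onto the fixed space of an operator of order dividing `k`. -/
noncomputable def projFix (T : End K V) (k : ℕ) : End K V := (k : K)⁻¹ • ∑ j ∈ Finset.range k, T ^ j

omit [FiniteDimensional K V] in
theorem projFix_fixed {T : End K V} {k : ℕ} (hT : T ^ k = 1) (v : V) :
    T (projFix T k v) = projFix T k v := by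
  have h : T * ∑ j ∈ Finset.range k, T ^ j = ∑ j ∈ Finset.range k, T ^ j := by
    rw [Finset.mul_sum]
    have h1 := Finset.sum_range_succ' (fun j => T ^ j) k
    rw [Finset.sum_range_succ, hT, pow_zero] at h1
    simpa [← pow_succ'] using (add_right_cancel h1).symm
  rw [projFix, LinearMap.smul_apply, map_smul, ← Module.End.mul_apply, h]

omit [FiniteDimensional K V] in
theorem projFix_of_fixed {T : End K V} {k : ℕ} (hk : (k : K) ≠ 0) {v : V} (hv : T v = v) :
    projFix T k v = v := by
  have h : ∀ j : ℕ, (T ^ j) v = v := fun j => by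
    induction j with
    | zero => rfl
    | succ j ih => rw [pow_succ, Module.End.mul_apply, hv, ih]
  simp [projFix, LinearMap.sum_apply, h, ← Nat.cast_smul_eq_nsmul K, smul_smul, hk]

/-- Fixed spaces of an operator of order prime to the characteristic are additive. -/
theorem fixDim_quot {k : ℕ} (hk : (k : K) ≠ 0) {T : End K V} (hT : T ^ k = 1) (p : Submodule K V)
    (hp : p ≤ p.comap T) :
    fixDim (T.restrict hp) + fixDim (p.mapQ p T hp) = fixDim T := by
  set F := ker (T - 1) with hF
  have e1 : finrank K ↥(F ⊓ p) = fixDim (T.restrict hp) := by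
    refine (LinearEquiv.finrank_eq ?_).symm
    refine LinearEquiv.ofBijective ((p.subtype.comp (Submodule.subtype _)).codRestrict (F ⊓ p)
      (fun x => ⟨?_, x.1.2⟩)) ⟨?_, ?_⟩
    · have := mem_ker_sub_one.1 x.2
      exact mem_ker_sub_one.2 (congrArg Subtype.val this)
    · intro a b hab
      refine Subtype.ext (Subtype.ext ?_)
      exact congrArg (fun z : ↥(F ⊓ p) => (z : V)) hab
    · rintro ⟨v, hv1, hv2⟩
      exact ⟨⟨⟨v, hv2⟩, mem_ker_sub_one.2 (Subtype.ext (mem_ker_sub_one.1 hv1))⟩, rfl⟩
  have e2 : Submodule.map p.mkQ F = ker (p.mapQ p T hp - 1) := by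
    ext q
    constructor
    · rintro ⟨v, hv, rfl⟩
      rw [mem_ker_sub_one, Submodule.mkQ_apply, Submodule.mapQ_apply, mem_ker_sub_one.1 hv]
    · intro hq
      obtain ⟨v, rfl⟩ := p.mkQ_surjective q
      have h1 : p.mkQ (T v) = p.mkQ v := by
        have := mem_ker_sub_one.1 hq
        rwa [Submodule.mkQ_apply, Submodule.mapQ_apply] at this
      have h2 : ∀ j : ℕ, p.mkQ ((T ^ j) v) = p.mkQ v := fun j => by
        induction j with
        | zero => rfl
        | succ j ih =>
          have hsub : (T ^ j) v - v ∈ p := (Submodule.Quotient.eq p).1 ih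
          have hTs : T ((T ^ j) v - v) ∈ p := hp hsub
          rw [← h1, pow_succ', Module.End.mul_apply]
          refine (Submodule.Quotient.eq p).2 ?_
          rwa [map_sub] at hTs
      refine ⟨projFix T k v, mem_ker_sub_one.2 (projFix_fixed hT v), ?_⟩
      simp only [projFix, LinearMap.smul_apply, LinearMap.sum_apply, map_smul, map_sum, h2,
        Finset.sum_const, Finset.card_range]
      rw [← Nat.cast_smul_eq_nsmul K, smul_smul, inv_mul_cancel₀ hk, one_smul]
  have h := LinearMap.finrank_range_add_finrank_ker (p.mkQ.comp F.subtype)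
  rw [range_comp, Submodule.range_subtype, e2] at h
  have e3 : finrank K ↥(ker (p.mkQ.comp F.subtype)) = finrank K ↥(F ⊓ p) := by
    rw [ker_comp, Submodule.ker_mkQ]
    exact (LinearEquiv.ofInjective (F.subtype.comp (Submodule.comap F.subtype p).subtype)
      (F.subtype_injective.comp (Submodule.comap F.subtype p).subtype_injective)).finrank_eq.trans
      (by rw [range_comp, Submodule.range_subtype, Submodule.map_comap_eq, Submodule.range_subtype])
  rw [e3, e1] at h
  rw [fixDim, fixDim, fixDim, ← hF]
  rw [fixDim] at h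
  omega

section Rep

variable {G : Type u} [Group G]

/-- Irreducibility, spelled out. -/
def Irr (ρ : Representation K G V) : Prop :=
  Nontrivial V ∧ ∀ p : Submodule K V, (∀ g, p ≤ p.comap (ρ g)) → p = ⊥ ∨ p = ⊤

/-- Schur's lemma. -/
theorem Irr.schur [IsAlgClosed K] {ρ : Representation K G V} (hρ : Irr ρ) (T : End K V)
    (hT : ∀ g, Commute T (ρ g)) : ∃ c : K, ∀ v, T v = c • v := by
  haveI := hρ.1
  obtain ⟨c, hc⟩ := Module.End.exists_eigenvalue T
  refine ⟨c, fun v => ?_⟩
  have hinv : ∀ g, T.eigenspace c ≤ (T.eigenspace c).comap (ρ g) := fun g x hx => by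
    rw [Submodule.mem_comap, Module.End.mem_eigenspace_iff] at *
    have := LinearMap.congr_fun (hT g).eq x
    simp only [Module.End.mul_apply] at this
    rw [this, hx, map_smul]
  rcases hρ.2 _ hinv with h | h
  · exact absurd h hc
  · exact Module.End.mem_eigenspace_iff.1 (h ▸ Submodule.mem_top)

/-- The span of an orbit of a nonzero vector of an irreducible representation. -/
theorem Irr.orbit_span {ρ : Representation K G V} (hρ : Irr ρ) {v : V} (hv : v ≠ 0) :
    Submodule.span K (Set.range fun g => ρ g v) = ⊤ := by
  refine (hρ.2 _ fun g => ?_).resolve_left ?_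
  · rw [Submodule.span_le]
    rintro _ ⟨h, rfl⟩
    exact Submodule.subset_span ⟨g * h, by simp⟩
  · intro h
    have : v ∈ (⊥ : Submodule K V) := h ▸ Submodule.subset_span ⟨1, by simp⟩
    exact hv ((Submodule.mem_bot K).1 this)

/-- The linear forms killing the orbit of a vector. -/
theorem Irr.eq_zero_of_forall {ρ : Representation K G V} (hρ : Irr ρ) {φ : V →ₗ[K] K} (hφ : φ ≠ 0)
    {w : V} (hw : ∀ g, φ (ρ g w) = 0) : w = 0 := by
  by_contra hne
  refine hφ (LinearMap.ker_eq_top.1 (top_le_iff.1 ?_))
  rw [← hρ.orbit_span hne, Submodule.span_le]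
  rintro _ ⟨g, rfl⟩
  exact hw g

end Rep

/-- Induction over a composition series. -/
theorem rep_induction {G : Type u} [Group G]
    {motive : ∀ (W : Type v) [AddCommGroup W] [Module K W] [FiniteDimensional K W],
      Representation K G W → Prop}
    (h0 : ∀ (W : Type v) [AddCommGroup W] [Module K W] [FiniteDimensional K W]
      (ρ : Representation K G W), Subsingleton W → motive W ρ)
    (h1 : ∀ (W : Type v) [AddCommGroup W] [Module K W] [FiniteDimensional K W]
      (ρ : Representation K G W), Irr ρ → motive W ρ)
    (h2 : ∀ (W : Type v) [AddCommGroup W] [Module K W] [FiniteDimensional K W]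
      (ρ : Representation K G W) (p : Submodule K W) (hp : ∀ g, p ≤ p.comap (ρ g)),
      motive p (ρ.subrepresentation p hp) → motive (W ⧸ p) (ρ.quotient p hp) → motive W ρ)
    (W : Type v) [AddCommGroup W] [Module K W] [FiniteDimensional K W] (ρ : Representation K G W) :
    motive W ρ := by
  suffices H : ∀ n, ∀ (W : Type v) [AddCommGroup W] [Module K W] [FiniteDimensional K W]
      (ρ : Representation K G W), finrank K W ≤ n → motive W ρ from H _ W ρ le_rfl
  intro n
  induction n with
  | zero =>
    intro W _ _ _ ρ hn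
    exact h0 W ρ (Module.finrank_zero_iff.1 (Nat.le_zero.1 hn))
  | succ n ih =>
    intro W _ _ _ ρ hn
    by_cases hI : Irr ρ
    · exact h1 W ρ hI
    by_cases hN : Subsingleton W
    · exact h0 W ρ hN
    simp only [Irr, not_and, not_forall, not_or] at hI
    obtain ⟨p, hp, hb, ht⟩ := hI (not_subsingleton_iff_nontrivial.1 hN)
    have hlt : finrank K p < finrank K W := Submodule.finrank_lt ht
    have hpos : 0 < finrank K p := by
      rw [Nat.pos_iff_ne_zero]
      exact fun h => hb (Submodule.finrank_eq_zero.1 h)
    have hq := p.finrank_quotient_add_finrank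
    exact h2 W ρ p hp (ih _ _ (by omega)) (ih _ _ (by omega))

end Cfsg.Lib.FixSixth
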