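import Cfsg.Agent.FixSixth.Supplement
import Cfsg.Agent.GWDihedral.Main
import Cfsg.Agent.GWDihedral.Consumers.RankOne
import Cfsg.Agent.OddChar.PF.OddOrder
import Cfsg.Agent.OddLocal.UniquenessBase
import Cfsg.Agent.Classical.Misc.SmallPSL
import Cfsg.Agent.SolvStruct.AltAut
import Cfsg.Prelude.Def_RootSubgroups

/-!
# A fixed space of dimension a sixth
-/

set_option autoImplicit false

namespace Cfsg.Lib.FixSixth

open Module LinearMap Matrix

universe u v w x

section Groups

/-- Groups of odd-prime rank one have cyclic subgroups of that prime power order. -/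
theorem isCyclic_of_rank_one {G : Type u} [Group G] [Finite G] {r : ℕ} [hr : Fact r.Prime] (hr2 : r ≠ 2)
    (h1 : Cfsg.PRankLE r 1 G) {R : Subgroup G} (hR : IsPGroup r R) : IsCyclic R := by
  by_contra hnc
  obtain ⟨F, -, -, hF, hcard⟩ := Cfsg.Lib.OddLocal.Uniqueness.exists_normal_sq hr2 hR hnc
  have h := h1 F hF.1 hF.2
  rw [hcard, pow_one] at h
  nlinarith [hr.out.one_lt]

/-- Rank one passes to quotients of subgroups. -/
theorem mem_zpowers_of_rank_one {G : Type u} [Group G] [Finite G] {r : ℕ} [hr : Fact r.Prime] (hr2 : r ≠ 2)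
    (h1 : Cfsg.PRankLE r 1 G) {Q : Type x} [Group Q] {φ : G →* Q} (hφ : Function.Surjective φ) {a b : Q}
    (ha : a ^ r = 1) (hb : b ^ r = 1) (hab : a * b = b * a) (ha1 : a ≠ 1) : b ∈ Subgroup.zpowers a := by
  haveI : Finite Q := Finite.of_surjective φ hφ
  set A := Subgroup.closure ({a, b} : Set Q) with hA
  have hcomm : IsMulCommutative A := by
    refine Subgroup.isMulCommutative_closure ?_
    rintro y (rfl | rfl) z (rfl | rfl)
    exacts [rfl, hab, hab.symm, rfl]
  have hexp : ∀ y ∈ A, y ^ r = 1 := by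
    intro y hy
    induction hy using Subgroup.closure_induction with
    | mem z hz =>
      rcases hz with rfl | rfl
      · exact ha
      · exact hb
    | one => exact one_pow r
    | mul y z hy hz ihy ihz =>
      have hyz : Commute y z := congrArg Subtype.val (hcomm.is_comm.comm ⟨y, hy⟩ ⟨z, hz⟩)
      rw [hyz.mul_pow, ihy, ihz, one_mul]
    | inv y _ ih => rw [inv_pow, ih, inv_one]
  have hAp : IsPGroup r A := fun y => ⟨1, Subtype.ext (by rw [pow_one]; exact hexp y y.2)⟩
  obtain ⟨R, hR⟩ := hAp.exists_le_sylow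
  obtain ⟨T, rfl⟩ := Sylow.mapSurjective_surjective (p := r) hφ R
  haveI := isCyclic_of_rank_one hr2 h1 T.2
  haveI : IsCyclic ((T : Subgroup G).map φ) :=
    isCyclic_of_surjective _ (φ.subgroupMap_surjective (T : Subgroup G))
  haveI : IsCyclic ↥((Sylow.mapSurjective hφ T : Sylow r Q) : Subgroup Q) := ‹IsCyclic ((T : Subgroup G).map φ)›
  haveI : IsCyclic A := Subgroup.isCyclic_of_le hR
  obtain ⟨g, hg⟩ := IsCyclic.exists_ofOrder_eq_natCard (α := A)
  have hle : Nat.card A ≤ r := by
    rw [← hg]
    exact Nat.le_of_dvd hr.out.pos (orderOf_dvd_of_pow_eq_one (Subtype.ext (hexp g g.2)))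
  have hza : Subgroup.zpowers a ≤ A := Subgroup.zpowers_le.2 (Subgroup.subset_closure (Or.inl rfl))
  have heq : Subgroup.zpowers a = A := Subgroup.eq_of_le_of_card_ge hza (by
    rw [Nat.card_zpowers, orderOf_eq_prime ha ha1]
    exact hle)
  rw [heq]
  exact Subgroup.subset_closure (Or.inr rfl)

/-- The alternating group of degree seven contains two independent commuting elements of order three. -/
theorem alt_seven_pair : ∃ a b : alternatingGroup (Fin 7),
    a ^ 3 = 1 ∧ b ^ 3 = 1 ∧ a * b = b * a ∧ a ≠ 1 ∧ b ∉ Subgroup.zpowers a := by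
  refine ⟨⟨Equiv.swap 0 1 * Equiv.swap 1 2, Equiv.Perm.mem_alternatingGroup.2 (by decide)⟩,
    ⟨Equiv.swap 3 4 * Equiv.swap 4 5, Equiv.Perm.mem_alternatingGroup.2 (by decide)⟩,
    by decide, by decide, by decide, by decide, ?_⟩
  rintro ⟨i, hi⟩
  have h := congrArg (fun e : alternatingGroup (Fin 7) => (e : Equiv.Perm (Fin 7)) 3) hi
  have hfix : ∀ i : ℤ, ((Equiv.swap (0 : Fin 7) 1 * Equiv.swap 1 2 : Equiv.Perm (Fin 7)) ^ i) 3 = 3 := fun i =>
    Equiv.Perm.zpow_apply_eq_self_of_apply_eq_self (by decide) i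
  simp only [SubgroupClass.coe_zpow] at h
  rw [hfix] at h
  revert h
  decide

/-- A group with a finite solvable-by-`A₅` normal subgroup and solvable quotient has radical of index at most 120. -/
theorem index_radical_le {H : Type u} [Group H] [Finite H] {D : Subgroup H} [D.Normal]
    [Group.IsSolvable (H ⧸ D)] {φ : D →* alternatingGroup (Fin 5)} (hφ : Function.Surjective φ)
    [hsol : Group.IsSolvable φ.ker] : (Cfsg.solvableRadical H).index ≤ 120 := by
  haveI hsimple : IsSimpleGroup (alternatingGroup (Fin 5)) := alternatingGroup.isSimpleGroup_five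
  have hnsol : ¬ Group.IsSolvable (alternatingGroup (Fin 5)) := by
    intro h
    rw [IsSimpleGroup.comm_iff_isSolvable.symm] at h
    exact absurd (h ⟨Equiv.swap 0 1 * Equiv.swap 1 2, Equiv.Perm.mem_alternatingGroup.2 (by decide)⟩
      ⟨Equiv.swap 2 3 * Equiv.swap 3 4, Equiv.Perm.mem_alternatingGroup.2 (by decide)⟩) (by decide)
  haveI hchar : φ.ker.Characteristic := by
    refine Subgroup.characteristic_iff_map_le.2 fun θ => ?_
    have hn : ((φ.ker.map θ.toMonoidHom).map φ).Normal :=
      Subgroup.Normal.map (Subgroup.Normal.map inferInstance _ θ.surjective) φ hφ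
    rcases hn.eq_bot_or_eq_top with h | h
    · exact (Subgroup.map_eq_bot_iff _).1 h
    · refine absurd ?_ hnsol
      let f : φ.ker →* alternatingGroup (Fin 5) := (φ.comp θ.toMonoidHom).comp φ.ker.subtype
      have hf : Function.Surjective f := fun y => by
        have hy : y ∈ (φ.ker.map θ.toMonoidHom).map φ := h ▸ Subgroup.mem_top y
        obtain ⟨_, ⟨z, hz, rfl⟩, rfl⟩ := hy
        exact ⟨⟨z, hz⟩, rfl⟩
      exact solvable_of_surjective hf
  set Z := φ.ker.map D.subtype
  haveI : Z.Normal := inferInstance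
  -- the kernel of the action on the section
  let act : H →* MulAut (alternatingGroup (Fin 5)) := MonoidHom.mk'
    (fun g => ((QuotientGroup.quotientKerEquivOfSurjective φ hφ).symm.trans
      (QuotientGroup.congr φ.ker φ.ker (MulAut.conjNormal g : MulAut D)
        (Subgroup.characteristic_iff_map_eq.1 hchar _))).trans (QuotientGroup.quotientKerEquivOfSurjective φ hφ))
    fun g g' => MulEquiv.ext fun y => by
      obtain ⟨d, rfl⟩ := hφ y
      have key : ∀ (g : H) (d : D), (((QuotientGroup.quotientKerEquivOfSurjective φ hφ).symm.trans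
          (QuotientGroup.congr φ.ker φ.ker (MulAut.conjNormal g : MulAut D)
            (Subgroup.characteristic_iff_map_eq.1 hchar _))).trans
            (QuotientGroup.quotientKerEquivOfSurjective φ hφ)) (φ d) = φ ((MulAut.conjNormal g : MulAut D) d) := by
        intro g d
        have e : QuotientGroup.quotientKerEquivOfSurjective φ hφ (d : D ⧸ φ.ker) = φ d := rfl
        rw [MulEquiv.trans_apply, MulEquiv.trans_apply, ← e, MulEquiv.symm_apply_apply]
        rfl
      rw [key, MulAut.mul_apply, key, key, map_mul, MulAut.mul_apply]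
  have hact : ∀ (g : H) (d : D), act g (φ d) = φ ((MulAut.conjNormal g : MulAut D) d) := by
    intro g d
    have e : QuotientGroup.quotientKerEquivOfSurjective φ hφ (d : D ⧸ φ.ker) = φ d := rfl
    show (((QuotientGroup.quotientKerEquivOfSurjective φ hφ).symm.trans _).trans _) (φ d) = _
    rw [MulEquiv.trans_apply, MulEquiv.trans_apply, ← e, MulEquiv.symm_apply_apply]
    rfl
  set C := act.ker
  have hCD : ∀ d : D, (d : H) ∈ C → φ d = 1 := by
    intro d hd
    have hcent : φ d ∈ Subgroup.center (alternatingGroup (Fin 5)) := Subgroup.mem_center_iff.2 fun y => by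
      obtain ⟨d', rfl⟩ := hφ y
      have h := hact (d : H) d'
      rw [MonoidHom.mem_ker.1 hd, MulAut.one_apply] at h
      rw [show (MulAut.conjNormal (d : H) : MulAut D) d' = d * d' * d⁻¹ from
        Subtype.ext (MulAut.conjNormal_apply _ _), map_mul, map_mul, map_inv] at h
      exact eq_mul_inv_iff_mul_eq.1 h
    have hbot : Subgroup.center (alternatingGroup (Fin 5)) = ⊥ := by
      rcases (inferInstance : (Subgroup.center (alternatingGroup (Fin 5))).Normal).eq_bot_or_eq_top with h | h
      · exact h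
      · refine absurd (Group.IsSolvable.mk ?_) hnsol
        exact ⟨1, by
          rw [derivedSeries_one, commutator_def, Subgroup.commutator_eq_bot_iff_le_centralizer]
          intro y _
          rw [Subgroup.mem_centralizer_iff]
          intro z _
          exact Subgroup.mem_center_iff.1 (h ▸ Subgroup.mem_top y) z⟩
    rwa [hbot, Subgroup.mem_bot] at hcent
  haveI : Group.IsSolvable C := by
    let q : C →* H ⧸ D := (QuotientGroup.mk' D).comp C.subtype
    haveI : Group.IsSolvable Z := solvable_of_surjective (D.subtype.subgroupMap_surjective φ.ker)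
    let j : Z →* H := Z.subtype
    let Z' : Subgroup C := Z.subgroupOf C
    haveI : Group.IsSolvable Z' := by
      let k : Z' →* Z := (C.subtype.comp Z'.subtype).codRestrict Z fun y => y.2
      exact solvable_of_solvable_injective (f := k) fun a b h =>
        Subtype.ext (Subtype.ext (congrArg Subtype.val h :))
    refine solvable_of_ker_le_range Z'.subtype q fun y hy => ?_
    rw [MonoidHom.mem_ker] at hy
    have hyD : (y : H) ∈ D := (QuotientGroup.eq_one_iff _).1 hy
    have hyZ : (y : H) ∈ Z := ⟨⟨y, hyD⟩, hCD ⟨y, hyD⟩ y.2, rfl⟩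
    exact ⟨⟨y, hyZ⟩, rfl⟩
  have hCR : C ≤ Cfsg.solvableRadical H := le_sSup ⟨inferInstance, inferInstance⟩
  have haut : Nat.card (MulAut (alternatingGroup (Fin 5))) = 120 := by
    rw [← Nat.card_congr (Equiv.ofBijective _
      (Cfsg.Lib.SolvStruct.AltAut.conjNormal_bijective (n := 5) (by norm_num) (by norm_num))),
      Nat.card_perm, Nat.card_fin]
    rfl
  calc (Cfsg.solvableRadical H).index ≤ C.index := Nat.le_of_dvd (Nat.pos_of_ne_zero C.index_ne_zero_of_finite)
        (Subgroup.index_dvd_of_le hCR)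
    _ = Nat.card act.range := Subgroup.index_ker act
    _ ≤ Nat.card (MulAut (alternatingGroup (Fin 5))) := act.range.card_le_card_group
    _ = 120 := haut

/-- A perfect normal subgroup with solvable quotient. -/
theorem exists_residual (H : Type u) [Group H] [Finite H] :
    ∃ (D : Subgroup H) (_ : D.Normal), Group.IsPerfect D ∧ Group.IsSolvable (H ⧸ D) := by
  obtain ⟨D, ⟨n, rfl⟩, hmin⟩ := (Set.toFinite (Set.range (derivedSeries H))).exists_minimal ⟨_, 0, rfl⟩
  have heq : derivedSeries H (n + 1) = derivedSeries H n :=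
    le_antisymm (derivedSeries_antitone H (Nat.le_succ n)) (hmin ⟨n + 1, rfl⟩ (derivedSeries_antitone H (Nat.le_succ n)))
  refine ⟨derivedSeries H n, derivedSeries_normal H n, ?_, ⟨⟨n, ?_⟩⟩⟩
  · rw [Subgroup.isPerfect_iff, ← derivedSeries_succ, heq]
  · haveI := derivedSeries_normal H n
    rw [← map_derivedSeries_eq (QuotientGroup.mk'_surjective (derivedSeries H n)) n, Subgroup.map_eq_bot_iff,
      QuotientGroup.ker_mk']

end Groups

variable {K : Type w} [Field K] [IsAlgClosed K]

/-- The theorem over an algebraically closed field. -/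
theorem exists_fix_sixth {H : Type u} [Group H] [Finite H] (hR : 120 < (Cfsg.solvableRadical H).index)
    {V : Type v} [AddCommGroup V] [Module K V] [FiniteDimensional K V] (ρ : Representation K H V) :
    ∃ h : H, h ≠ 1 ∧ finrank K V ≤ 6 * fixDim (ρ h) := by
  classical
  by_contra hcon
  push Not at hcon
  -- small primes have rank one
  have helt : ∀ r : ℕ, r.Prime → r ≤ 5 → (r : K) = 0 → ∀ g : H, g ^ r = 1 → g = 1 := by
    intro r hr hr5 hrK g hg
    by_contra hg1
    haveI : Fact r.Prime := ⟨hr⟩
    haveI : CharP K r := (CharP.charP_iff_prime_eq_zero hr).2 hrK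
    have h := fixDim_char (K := K) (r := r) (T := ρ g) (by rw [← map_pow, hg, map_one])
    have := hcon g hg1
    nlinarith
  have hrank : ∀ r : ℕ, r.Prime → r ≤ 5 → Cfsg.PRankLE r 1 H := by
    intro r hr hr5 A hA hAr
    by_contra hlt
    rw [pow_one] at hlt
    haveI : Fact r.Prime := ⟨hr⟩
    obtain ⟨a, ha, ha1⟩ : ∃ a ∈ A, a ≠ 1 := by
      by_contra h
      push Not at h
      rw [(Subgroup.eq_bot_iff_forall A).2 h, Subgroup.card_bot] at hlt
      exact hlt hr.one_lt.le
    obtain ⟨b, hb, hb1⟩ : ∃ b ∈ A, b ∉ Subgroup.zpowers a := by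
      by_contra h
      push Not at h
      refine hlt ?_
      calc Nat.card A ≤ Nat.card (Subgroup.zpowers a) := Subgroup.card_le_of_le h
        _ = r := by rw [Nat.card_zpowers, orderOf_eq_prime (hAr a ha) ha1]
    by_cases hrK : (r : K) = 0
    · exact ha1 (helt r hr hr5 hrK a (hAr a ha))
    · obtain ⟨g, hg, hle⟩ := fixDim_rank_two hrK ρ
        (congrArg Subtype.val (hA.is_comm.comm ⟨a, ha⟩ ⟨b, hb⟩)) (hAr a ha) (hAr b hb) ha1 hb1
      have := hcon g hg
      nlinarith
  haveI : Fact (Nat.Prime 2) := ⟨Nat.prime_two⟩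
  haveI : Fact (Nat.Prime 3) := ⟨Nat.prime_three⟩
  haveI : Fact (Nat.Prime 5) := ⟨Nat.prime_five⟩
  -- the perfect residual
  obtain ⟨D, hDn, hDperf, hDsol⟩ := exists_residual H
  haveI := hDn
  haveI := hDperf
  haveI := hDsol
  have hDne : D ≠ ⊥ := by
    intro h
    haveI : Group.IsSolvable D := by rw [h]; infer_instance
    haveI : Group.IsSolvable H := solvable_of_ker_le_range D.subtype (QuotientGroup.mk' D)
      (by rw [QuotientGroup.ker_mk', Subgroup.range_subtype])
    have htop : Cfsg.solvableRadical H = ⊤ := by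
      rw [eq_top_iff]
      exact le_sSup ⟨inferInstance, inferInstance⟩
    rw [htop, Subgroup.index_top] at hR
    omega
  haveI : Nontrivial D := (Subgroup.nontrivial_iff_ne_bot D).2 hDne
  have hDnsol : ¬ Group.IsSolvable D := Group.IsPerfect.not_isSolvable D
  have hDeven : Even (Nat.card D) := by
    by_contra h
    exact hDnsol (Cfsg.Agent.PF.isSolvable_of_odd D (Nat.not_even_iff_odd.1 h))
  have hDrank : ∀ r : ℕ, r.Prime → r ≤ 5 → Cfsg.PRankLE r 1 D := fun r hr hr5 A hA hAr => by
    have h := hrank r hr hr5 (A.map D.subtype) (by haveI := hA; infer_instance) (by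
      rintro _ ⟨y, hy, rfl⟩
      rw [← map_pow, hAr y hy, map_one])
    rwa [Subgroup.card_map_of_injective D.subtype_injective] at h
  set O := Cfsg.oddCore D with hO
  have hOodd : Odd (Nat.card O) := Nat.coprime_two_right.1 (Cfsg.Lib.Components.coprime_card_pPrimeCore 2)
  rcases Cfsg.Lib.GWD.perfect_rank_one Cfsg.Lib.GWD.dihedralProp hDperf (hDrank 2 Nat.prime_two (by norm_num))
    hDeven with ⟨F, iF, iFt, hFodd, hF3, ⟨e⟩⟩ | ⟨-, ⟨e⟩, -⟩
  swap
  · -- the double cover of `A₇` has noncyclic Sylow 3-subgroups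
    obtain ⟨a, b, ha, hb, hab, ha1, hb1⟩ := alt_seven_pair
    let φ : D →* alternatingGroup (Fin 7) :=
      e.toMonoidHom.comp ((QuotientGroup.mk' _).comp (QuotientGroup.mk' O))
    have hφ : Function.Surjective φ :=
      e.surjective.comp ((QuotientGroup.mk'_surjective _).comp (QuotientGroup.mk'_surjective _))
    exact hb1 (mem_zpowers_of_rank_one (by norm_num) (hDrank 3 Nat.prime_three (by norm_num)) hφ ha hb hab ha1)
  letI := iF
  letI := iFt
  let φ : D →* SpecialLinearGroup (Fin 2) F := e.toMonoidHom.comp (QuotientGroup.mk' O)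
  have hφ : Function.Surjective φ := e.surjective.comp (QuotientGroup.mk'_surjective _)
  have hkerφ : φ.ker = O := by
    rw [← MonoidHom.comap_ker, (MonoidHom.ker_eq_bot_iff e.toMonoidHom).2 e.injective, MonoidHom.comap_bot,
      QuotientGroup.ker_mk']
  obtain ⟨p, hp⟩ := CharP.exists F
  haveI := hp
  have hpp : p.Prime := CharP.char_is_prime F p
  haveI : Fact p.Prime := ⟨hpp⟩
  letI := ZMod.algebra F p
  -- unipotent elements
  have hunip : p = 3 ∨ (p = 5 ∧ Fintype.card F ≠ 5) → False := by
    intro hcase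
    have hp5 : p ≤ 5 := by omega
    have hne : p ≠ 2 := by omega
    have hq : Fintype.card F ≠ p := by omega
    obtain ⟨β, hβ⟩ : ∃ β : F, ∀ c : ZMod p, algebraMap (ZMod p) F c ≠ β := by
      by_contra h
      push Not at h
      haveI : NeZero p := ⟨hpp.ne_zero⟩
      exact hq (by
        rw [← Fintype.card_of_bijective ⟨(algebraMap (ZMod p) F).injective, h⟩, ZMod.card])
    let U : Multiplicative F →* SpecialLinearGroup (Fin 2) F :=
      { toFun := fun c => ⟨!![1, c.toAdd; 0, 1], by simp [Matrix.det_fin_two]⟩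
        map_one' := Subtype.ext (by simp [Matrix.one_fin_two])
        map_mul' := fun c c' => Subtype.ext (by
          show !![(1 : F), (c * c').toAdd; 0, 1] = !![(1 : F), c.toAdd; 0, 1] * !![(1 : F), c'.toAdd; 0, 1]
          simp [Matrix.mul_fin_two, add_comm]) }
    have hUp : ∀ c : F, U (Multiplicative.ofAdd c) ^ p = 1 := fun c => by
      rw [← map_pow, ← ofAdd_nsmul, show p • c = 0 by rw [nsmul_eq_mul, CharP.cast_eq_zero, zero_mul], ofAdd_zero,
        map_one]
    have hentry : ∀ c : F, ((U (Multiplicative.ofAdd c)) : Matrix (Fin 2) (Fin 2) F) 0 1 = c := fun c => rfl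
    have h := mem_zpowers_of_rank_one hne (hDrank p hpp hp5) hφ (hUp 1) (hUp β)
      ((Commute.all (Multiplicative.ofAdd (1 : F)) (Multiplicative.ofAdd β)).map U).eq (fun h => by
        have h' := congrArg (fun q : SpecialLinearGroup (Fin 2) F => (q : Matrix (Fin 2) (Fin 2) F) 0 1) h
        simp only [hentry] at h'
        simp at h')
    obtain ⟨i, hi⟩ := h
    simp only [← map_zpow, ← ofAdd_zsmul] at hi
    have h' := congrArg (fun q : SpecialLinearGroup (Fin 2) F => (q : Matrix (Fin 2) (Fin 2) F) 0 1) hi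
    simp only [hentry] at h'
    exact hβ (i : ZMod p) (by rw [map_intCast, ← h', zsmul_one])
  have hp2 : p ≠ 2 := by
    rintro rfl
    obtain ⟨k, hk⟩ := FiniteField.card F 2
    rw [hk.2] at hFodd
    exact absurd hFodd (by simp [Nat.odd_iff, Nat.pow_mod])
  have hp3 : p ≠ 3 := fun h => hunip (Or.inl h)
  by_cases hp5 : p = 5
  · -- the case of `SL₂(5)`
    have hF5 : Fintype.card F = 5 := by
      by_contra h
      exact hunip (Or.inr ⟨hp5, h⟩)
    obtain ⟨e5⟩ := Cfsg.Lib.Classical.SmallPSL.psl_five hF5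
    let ψ : D →* alternatingGroup (Fin 5) :=
      e5.toMonoidHom.comp ((QuotientGroup.mk' (Subgroup.center (SpecialLinearGroup (Fin 2) F))).comp φ)
    have hψ : Function.Surjective ψ :=
      e5.surjective.comp ((QuotientGroup.mk'_surjective _).comp hφ)
    haveI : Group.IsSolvable ψ.ker := by
      haveI : Group.IsSolvable φ.ker := by
        rw [hkerφ]
        exact Cfsg.Agent.PF.isSolvable_of_odd _ hOodd
      let g : ψ.ker →* Subgroup.center (SpecialLinearGroup (Fin 2) F) :=
        (φ.comp ψ.ker.subtype).codRestrict _ fun y => by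
          have hy : ψ y = 1 := y.2
          exact (QuotientGroup.eq_one_iff _).1 (e5.injective (hy.trans (map_one _).symm))
      haveI : Group.IsSolvable (Subgroup.center (SpecialLinearGroup (Fin 2) F)) :=
        Group.IsSolvable.mk ⟨1, by
          rw [derivedSeries_one, commutator_def, Subgroup.commutator_eq_bot_iff_le_centralizer]
          exact fun y _ => Subgroup.mem_centralizer_iff.2 fun z _ =>
            Subtype.ext (Subgroup.mem_center_iff.1 y.2 z)⟩
      let i : φ.ker →* ψ.ker := φ.ker.subtype.codRestrict _ fun y => by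
        show e5 ((φ y : SpecialLinearGroup (Fin 2) F) : ProjectiveSpecialLinearGroup (Fin 2) F) = 1
        rw [MonoidHom.mem_ker.1 y.2]
        exact map_one e5
      exact solvable_of_ker_le_range i g fun y hy =>
        ⟨⟨y, congrArg Subtype.val (MonoidHom.mem_ker.1 hy)⟩, rfl⟩
    have h120 := index_radical_le hψ
    omega
  -- the case `p ≥ 7`
  have hp7 : 7 ≤ p := by
    have := hpp.two_le
    by_contra hlt
    push Not at hlt
    interval_cases p <;> first | omega | norm_num at hpp
  let ι : SpecialLinearGroup (Fin 2) (ZMod p) →* SpecialLinearGroup (Fin 2) F :=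
    SpecialLinearGroup.map (algebraMap (ZMod p) F)
  have hι : Function.Injective ι := fun a b h => Subtype.ext (Matrix.ext fun i j =>
    (algebraMap (ZMod p) F).injective
      (congrFun (congrFun (congrArg Subtype.val h) i) j :))
  let L : Subgroup D := ι.range.comap φ
  let π : L →* SpecialLinearGroup (Fin 2) (ZMod p) :=
    (MonoidHom.ofInjective hι).symm.toMonoidHom.comp ((φ.comp L.subtype).codRestrict ι.range fun y => y.2)
  have hπι : ∀ y : L, ι (π y) = φ y := fun y => by
    show ι ((MonoidHom.ofInjective hι).symm ⟨φ y, y.2⟩) = φ y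
    exact MonoidHom.apply_ofInjective_symm hι _
  have hπ : Function.Surjective π := fun q => by
    obtain ⟨d, hd⟩ := hφ (ι q)
    exact ⟨⟨d, ⟨q, hd.symm⟩⟩, hι (by rw [hπι]; exact hd)⟩
  have hkodd : Odd (Nat.card π.ker) := by
    refine hOodd.of_dvd_nat ?_
    let j : π.ker →* O := (L.subtype.comp π.ker.subtype).codRestrict O fun y => by
      show ((y : L) : D) ∈ O
      rw [← hkerφ, MonoidHom.mem_ker, ← hπι, MonoidHom.mem_ker.1 y.2, map_one]
    exact Subgroup.card_dvd_of_injective j fun a b h =>
      Subtype.ext (Subtype.ext (congrArg Subtype.val h :))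
  have hcyc : ∀ R : Subgroup L, IsPGroup 3 R → IsCyclic R := fun R hR => by
    haveI := isCyclic_of_rank_one (by norm_num) (hDrank 3 Nat.prime_three (by norm_num)) (hR.map L.subtype)
    exact isCyclic_of_surjective _ (R.equivMapOfInjective L.subtype L.subtype_injective).symm.surjective
  -- an element of order three
  have h3 : (3 : K) ≠ 0 := by
    intro h
    obtain ⟨y, hy⟩ := hπ (x0 p)
    have h3dvd : 3 ∣ orderOf ((y : L) : D) := by
      have h1 := orderOf_map_dvd π y
      rw [hy, orderOf_eq_prime (x0_cube (p := p)) x0_ne_one, ← Subgroup.orderOf_coe] at h1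
      exact h1
    obtain ⟨z, hz⟩ := exists_prime_orderOf_dvd_card' (G := D) 3 (h3dvd.trans (orderOf_dvd_natCard _))
    have := helt 3 Nat.prime_three (by norm_num) (by exact_mod_cast h) (z : H)
      (by rw [← SubmonoidClass.coe_pow, ← hz, pow_orderOf_eq_one]; rfl)
    rw [show z = 1 from Subtype.ext this, orderOf_one] at hz
    omega
  obtain ⟨g, hg, hle⟩ := sl_group_bound hp7 h3 hπ hkodd hcyc (ρ.comp (D.subtype.comp L.subtype))
  have := hcon ((g : D) : H) fun h => hg (Subtype.ext (Subtype.ext h))
  exact absurd hle (not_le.2 this)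

end Cfsg.Lib.FixSixth
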