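import Cfsg.Agent.FixSixth.Scott

/-!
# A noncentral abelian normal subgroup
-/

set_option autoImplicit false

namespace Cfsg.Lib.FixSixth

open Module LinearMap

universe u v w x

variable {G : Type u} [Group G] [Finite G]

/-- A perfect group has no subgroup of index two. -/
theorem index_ne_two (hperf : commutator G = ⊤) (H : Subgroup G) : H.index ≠ 2 := by
  intro h2
  have hle : commutator G ≤ H := by
    rw [commutator_def, Subgroup.commutator_le]
    intro a _ b _
    rw [commutatorElement_def]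
    simp only [Subgroup.mul_mem_iff_of_index_two h2, inv_mem_iff]
    tauto
  rw [hperf, top_le_iff] at hle
  rw [hle, Subgroup.index_top] at h2
  omega

/-- A transitive cyclic group with an exponent bound for a subgroup containing a normal one. -/
theorem index_dvd_of_smul {ι : Type x} [MulAction G ι] [MulAction.IsPretransitive G ι] (i0 : ι) {N H : Subgroup G}
    [N.Normal] (hN : N ≤ H) (hH : MulAction.stabilizer G i0 ≤ H) {c : G} {m : ℕ}
    (hc : ∀ i, i ∈ MulAction.orbit (Subgroup.zpowers c) i0) (hm : c ^ m ∈ N) : H.index ∣ m := by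
  have horb : MulAction.orbit (Subgroup.zpowers c) ((1 : G) : G ⧸ H) = Set.univ := by
    refine Set.eq_univ_of_forall fun q => ?_
    obtain ⟨g, rfl⟩ := QuotientGroup.mk_surjective q
    obtain ⟨⟨z, hz⟩, hzg⟩ := hc (g • i0)
    refine ⟨⟨z, hz⟩, ?_⟩
    show ((z * 1 : G) : G ⧸ H) = (g : G ⧸ H)
    rw [mul_one, QuotientGroup.eq]
    refine hH ?_
    rw [MulAction.mem_stabilizer_iff, mul_smul, inv_smul_eq_iff]
    exact hzg.symm
  have hper : Function.IsPeriodicPt (c • ·) m ((1 : G) : G ⧸ H) := by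
    rw [Function.IsPeriodicPt, Function.IsFixedPt, smul_iterate]
    show ((c ^ m * 1 : G) : G ⧸ H) = ((1 : G) : G ⧸ H)
    rw [mul_one, eq_comm, QuotientGroup.eq, inv_one, one_mul]
    exact hN hm
  have hcard : Nat.card (G ⧸ H) = Function.minimalPeriod (c • ·) ((1 : G) : G ⧸ H) := by
    exact (Nat.card_congr (((Equiv.setCongr horb).trans (Equiv.Set.univ (G ⧸ H))).symm.trans
      (MulAction.orbitZPowersEquiv c ((1 : G) : G ⧸ H)))).trans (Nat.card_zmod _)
  rw [Subgroup.index, hcard]
  exact hper.minimalPeriod_dvd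

variable {K : Type w} [Field K] [IsAlgClosed K] {V : Type v} [AddCommGroup V] [Module K V]
  [FiniteDimensional K V]

set_option maxHeartbeats 1000000 in
/-- A faithful irreducible representation and a noncentral abelian normal subgroup. -/
theorem normal_abelian_bound (h3 : (3 : K) ≠ 0) (hperf : commutator G = ⊤) {ρ : Representation K G V}
    (hρ : Irr ρ) (hinj : Function.Injective ρ) {N : Subgroup G} [N.Normal] (hN6 : (Nat.card N).Coprime 6)
    {A : Subgroup G} [A.Normal] (hab : ∀ a b : A, a * b = b * a) (hnc : ¬ A ≤ Subgroup.center G)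
    (hcomm : ∀ n ∈ N, ∀ a ∈ A, n⁻¹ * a * n * a⁻¹ ∈ Subgroup.center G) {p : ℕ} [hp : Fact p.Prime] {a v : G}
    (ha : a ^ 3 = 1) (hgen : Subgroup.closure ({a, v * a * v⁻¹} : Set G) = ⊤)
    (hxy : (a * (v * a * v⁻¹)) ^ (2 * p) ∈ N) (hxyi : (a * (v * a * v⁻¹)⁻¹) ^ (p ^ 2 - 1) ∈ N) :
    finrank K V ≤ 4 * fixDim (ρ a) := by
  classical
  haveI := hρ.1
  set ρA : Representation K A V := ρ.comp A.subtype with hρA
  let w : (A →* Kˣ) → Submodule K V := fun χ => weight ρA ((Units.coeHom K).comp χ)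
  have hwmem : ∀ χ z, z ∈ w χ ↔ ∀ b : A, ρ b z = (χ b : K) • z := fun χ z => mem_weight
  letI act : MulAction G (A →* Kˣ) :=
    { smul := fun g χ => χ.comp (MulAut.conjNormal g⁻¹ : MulAut A).toMonoidHom
      one_smul := fun χ => MonoidHom.ext fun b => by
        show χ ((MulAut.conjNormal (1 : G)⁻¹ : MulAut A) b) = χ b
        rw [inv_one, map_one]; rfl
      mul_smul := fun g h χ => MonoidHom.ext fun b => by
        show χ ((MulAut.conjNormal (g * h)⁻¹ : MulAut A) b) =
          χ ((MulAut.conjNormal h⁻¹ : MulAut A) ((MulAut.conjNormal g⁻¹ : MulAut A) b))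
        rw [mul_inv_rev, map_mul]; rfl }
  have hsmul : ∀ (g : G) (χ : A →* Kˣ) (b : A), (g • χ) b = χ ((MulAut.conjNormal g⁻¹ : MulAut A) b) :=
    fun _ _ _ => rfl
  have hmove : ∀ (g : G) (χ : A →* Kˣ) z, z ∈ w χ → ρ g z ∈ w (g • χ) := by
    intro g χ z hz
    rw [hwmem] at hz ⊢
    intro b
    have h := hz ((MulAut.conjNormal g⁻¹ : MulAut A) b)
    rw [MulAut.conjNormal_apply, inv_inv] at h
    rw [hsmul, ← map_smul, ← h, ← Module.End.mul_apply, ← Module.End.mul_apply, ← map_mul, ← map_mul]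
    congr 2
    group
  -- a first weight
  obtain ⟨z0, -, hz0, hev⟩ := exists_common_eigen ρA hab ⊤ (fun _ _ _ => Submodule.mem_top) top_ne_bot
  choose c hc using hev
  have hc1 : c 1 = 1 := by
    have h := hc 1
    rw [map_one, Module.End.one_apply] at h
    exact (smul_left_injective K hz0 (by simpa using h)).symm
  have hcmul : ∀ b b', c (b * b') = c b * c b' := fun b b' => by
    refine smul_left_injective K hz0 ?_
    show c (b * b') • z0 = (c b * c b') • z0
    rw [← hc, map_mul, Module.End.mul_apply, hc b', map_smul, hc b, smul_smul, mul_comm]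
  let χ0 : A →* Kˣ := MonoidHom.toHomUnits { toFun := c, map_one' := hc1, map_mul' := hcmul }
  have hz0w : z0 ∈ w χ0 := (hwmem _ _).2 fun b => hc b
  let ι := MulAction.orbit G χ0
  haveI : Finite ι := Set.Finite.to_subtype (Set.finite_range _)
  haveI : Fintype ι := Fintype.ofFinite ι
  let W : ι → Submodule K V := fun i => w i
  have hne : ∀ i : ι, ∃ z ∈ w (i : A →* Kˣ), z ≠ 0 := by
    rintro ⟨_, g, rfl⟩
    exact ⟨ρ g z0, hmove g _ _ hz0w, fun h => hz0 (by
      have := congrArg (ρ g⁻¹) h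
      rwa [← Module.End.mul_apply, ← map_mul, inv_mul_cancel, map_one, map_zero, Module.End.one_apply] at this)⟩
  have hind : iSupIndep W := by
    refine (iSupIndep_weight ρA).comp (f := fun i : ι => (Units.coeHom K).comp (i : A →* Kˣ)) ?_
    intro i j hij
    exact Subtype.ext (MonoidHom.ext fun b => Units.ext (congrArg (fun f : A →* K => f b) hij))
  have hW : ∀ g : G, ∀ i : ι, ∀ z ∈ W i, ρ g z ∈ W (g • i) := fun g i z hz => hmove g _ z hz
  have htop : ⨆ i, W i = ⊤ := by
    refine (hρ.2 _ fun g => iSup_le fun i z hz => Submodule.mem_iSup_of_mem (g • i) (hW g i z hz)).resolve_left ?_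
    intro h
    have : z0 ∈ (⊥ : Submodule K V) := h ▸ Submodule.mem_iSup_of_mem (⟨χ0, MulAction.mem_orbit_self χ0⟩ : ι) hz0w
    exact hz0 ((Submodule.mem_bot K).1 this)
  -- more than one weight
  have htriv : ¬ ∀ g : G, g • χ0 = χ0 := by
    intro hfix
    refine hnc fun b hb => Subgroup.mem_center_iff.2 fun g => hinj ?_
    have hall : ∀ z, ρ b z = (χ0 ⟨b, hb⟩ : K) • z := fun z => by
      have hz : z ∈ ⨆ i, W i := htop ▸ Submodule.mem_top
      have : ⨆ i, W i ≤ w χ0 := iSup_le fun i => by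
        obtain ⟨_, g, rfl⟩ := i
        show w (g • χ0) ≤ w χ0
        rw [hfix g]
      exact (hwmem _ _).1 (this hz) ⟨b, hb⟩
    refine LinearMap.ext fun z => ?_
    rw [map_mul, map_mul, Module.End.mul_apply, Module.End.mul_apply, hall, hall, map_smul]
  set y := v * a * v⁻¹ with hy
  have hy3 : y ^ 3 = 1 := by rw [hy, conj_pow, ha, mul_one, mul_inv_cancel]
  refine perm_bound h3 ρ hind htop hW ha ?_
  set F := Nat.card {i : ι // a • i = i} with hF
  by_cases hNtrans : ∀ i : ι, ∃ n ∈ N, n • (⟨χ0, MulAction.mem_orbit_self χ0⟩ : ι) = i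
  · -- translations
    rcases Nat.eq_zero_or_pos F with h0 | hpos
    · omega
    obtain ⟨⟨⟨χ1, hχ1⟩, hfix1⟩⟩ := (Nat.card_pos_iff.1 hpos).1
    have hfix1' : a • χ1 = χ1 := congrArg Subtype.val hfix1
    have hstep : ∀ n ∈ N, ∀ χ ∈ MulAction.orbit G χ0, (n • χ) * χ⁻¹ = (n • χ1) * χ1⁻¹ := by
      intro n hn χ hχ
      refine MonoidHom.ext fun b => Units.ext ?_
      set m : A := (MulAut.conjNormal n⁻¹ : MulAut A) b * b⁻¹ with hm
      have hmc : (m : G) ∈ Subgroup.center G := by
        rw [hm, Subgroup.coe_mul, MulAut.conjNormal_apply, inv_inv, Subgroup.coe_inv]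
        exact hcomm n hn b b.2
      obtain ⟨d, hd⟩ := hρ.schur (ρ m) fun g => by
        rw [commute_iff_eq, ← map_mul, ← map_mul, Subgroup.mem_center_iff.1 hmc g]
      have hval : ∀ ψ ∈ MulAction.orbit G χ0, (ψ m : K) = d := fun ψ hψ => by
        obtain ⟨z, hz, hz0'⟩ := hne ⟨ψ, hψ⟩
        refine smul_left_injective K hz0' ?_
        show (ψ m : K) • z = d • z
        rw [← hd, (hwmem _ _).1 hz m]
      have e : ∀ ψ : A →* Kˣ, ((n • ψ) * ψ⁻¹) b = ψ m := fun ψ => by
        rw [MonoidHom.mul_apply, MonoidHom.inv_apply, hsmul, hm, map_mul ψ, map_inv ψ]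
      rw [e, e, hval χ hχ, hval χ1 hχ1]
    let μ : N →* (A →* Kˣ) :=
      MonoidHom.mk' (fun n => ((n : G) • χ1) * χ1⁻¹) fun n m => by
        have h := hstep (n : G) n.2 ((m : G) • χ1) (MulAction.mem_orbit_of_mem_orbit _ hχ1)
        show ((n : G) * (m : G)) • χ1 * χ1⁻¹ = ((n : G) • χ1 * χ1⁻¹) * ((m : G) • χ1 * χ1⁻¹)
        rw [mul_smul, ← h]
        exact ((mul_assoc (G := A →* Kˣ) _ _ _).trans (congrArg _ (inv_mul_cancel_left (G := A →* Kˣ) _ _))).symm
    have hdist : ∀ (g : G) (χ χ' : A →* Kˣ), g • (χ * χ') = (g • χ) * (g • χ') :=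
      fun _ _ _ => MonoidHom.ext fun _ => rfl
    -- the weights are one coset
    have hmemι : ∀ n : N, μ n * χ1 ∈ MulAction.orbit G χ0 := fun n => by
      show ((n : G) • χ1 * χ1⁻¹) * χ1 ∈ _
      rw [show ((n : G) • χ1 * χ1⁻¹) * χ1 = (n : G) • χ1 from inv_mul_cancel_right (G := A →* Kˣ) _ _]
      exact MulAction.mem_orbit_of_mem_orbit _ hχ1
    let Φ : μ.range → ι := fun l => ⟨l * χ1, by
      obtain ⟨n, hn⟩ := l.2
      rw [← hn]
      exact hmemι n⟩
    have hΦ : Function.Bijective Φ := by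
      refine ⟨fun l l' h => Subtype.ext (mul_right_cancel (congrArg Subtype.val h)), fun i => ?_⟩
      obtain ⟨n, hn, rfl⟩ := hNtrans i
      obtain ⟨n1, hn1, h1⟩ := hNtrans ⟨χ1, hχ1⟩
      refine ⟨⟨μ ⟨n * n1⁻¹, mul_mem hn (inv_mem hn1)⟩, ⟨_, rfl⟩⟩, Subtype.ext ?_⟩
      show ((n * n1⁻¹) • χ1 * χ1⁻¹) * χ1 = n • χ0
      have h1' : n1 • χ0 = χ1 := congrArg Subtype.val h1
      rw [show ((n * n1⁻¹) • χ1 * χ1⁻¹) * χ1 = (n * n1⁻¹) • χ1 from inv_mul_cancel_right (G := A →* Kˣ) _ _, ← h1', ← mul_smul,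
        inv_mul_cancel_right]
    let C : Subgroup μ.range :=
      { carrier := {l | a • (l : A →* Kˣ) = l}
        one_mem' := by
          show a • (1 : A →* Kˣ) = 1
          exact MonoidHom.ext fun _ => rfl
        mul_mem' := fun {l l'} h h' => by
          show a • ((l : A →* Kˣ) * l') = (l : A →* Kˣ) * l'
          rw [hdist, h, h']
        inv_mem' := fun {l} h => by
          show a • ((l : A →* Kˣ))⁻¹ = ((l : A →* Kˣ))⁻¹
          conv_rhs => rw [← (h : a • (l : A →* Kˣ) = l)]
          exact MonoidHom.ext fun _ => rfl }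
    have hFC : F = Nat.card C := by
      refine (Nat.card_congr (Equiv.subtypeEquiv (Equiv.ofBijective Φ hΦ) fun l => ?_)).symm
      show a • (l : A →* Kˣ) = l ↔ a • Φ l = Φ l
      rw [Subtype.ext_iff, MulAction.orbit.coe_smul]
      show a • (l : A →* Kˣ) = l ↔ a • ((l : A →* Kˣ) * χ1) = l * χ1
      rw [hdist, hfix1', mul_left_inj]
    have hι : Fintype.card ι = Nat.card μ.range := by
      rw [← Nat.card_eq_fintype_card]
      exact (Nat.card_congr (Equiv.ofBijective Φ hΦ)).symm
    obtain ⟨k, hk⟩ : Nat.card C ∣ Nat.card μ.range := Subgroup.card_subgroup_dvd_card C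
    have hkN : k ∣ Nat.card N := (Dvd.intro_left _ hk.symm).trans (Subgroup.card_range_dvd μ)
    have hk1 : k ≠ 1 := by
      intro h1
      have hCtop : C = ⊤ := Subgroup.eq_top_of_card_eq _ (by rw [hk, h1, mul_one])
      have hafix : ∀ i : ι, a • i = i := fun i => by
        obtain ⟨l, rfl⟩ := hΦ.2 i
        have hl : l ∈ C := hCtop ▸ Subgroup.mem_top l
        refine Subtype.ext ?_
        show a • ((l : A →* Kˣ) * χ1) = l * χ1
        rw [hdist, hfix1', (hl : a • (l : A →* Kˣ) = l)]
      refine htriv fun g => ?_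
      have hg : g ∈ Subgroup.closure ({a, y} : Set G) := hgen ▸ Subgroup.mem_top g
      suffices h : ∀ i : ι, g • i = i from congrArg Subtype.val (h ⟨χ0, MulAction.mem_orbit_self χ0⟩)
      induction hg using Subgroup.closure_induction with
      | mem z hz =>
        intro i
        rcases hz with rfl | rfl
        · exact hafix i
        · rw [hy, mul_smul, mul_smul, hafix, smul_inv_smul]
      | one => exact fun i => by rw [one_smul]
      | mul z z' _ _ h h' => exact fun i => by rw [mul_smul, h', h]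
      | inv z _ h => exact fun i => by rw [inv_smul_eq_iff, h]
    have h6 : k.Coprime 6 := hN6.coprime_dvd_left hkN
    have hk0 : k ≠ 0 := fun h => by
      rw [h, mul_zero] at hk
      exact Nat.card_pos.ne' hk
    have hk5 : 5 ≤ k := by
      by_contra hlt
      interval_cases k <;> first | omega | exact absurd h6 (by norm_num)
    rw [hι, hk, hFC]
    nlinarith
  · -- one of the two products is intransitive
    by_contra hF4
    set i0 : ι := ⟨χ0, MulAction.mem_orbit_self χ0⟩
    have hscott : ∀ b : G, b ^ 3 = 1 → Nat.card {i : ι // b • i = i} = F →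
        Subgroup.closure ({a, b} : Set G) = ⊤ → ∀ i, i ∈ MulAction.orbit (Subgroup.zpowers (a * b)) i0 := by
      intro b hb hbF hb' i
      by_contra hi
      have h1 := scott_orbits (ι := ι) hb'
      have h2 := two_le_fixDim_permEnd hi
      have h3' := orbits_three (ι := ι) ha
      have h4 := orbits_three (ι := ι) hb
      omega
    have hyF : Nat.card {i : ι // y • i = i} = F := by
      refine (Nat.card_congr (Equiv.subtypeEquiv (MulAction.toPerm v) fun i => ?_)).symm
      show a • i = i ↔ y • v • i = v • i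
      rw [hy, ← mul_smul (v * a * v⁻¹), inv_mul_cancel_right, mul_smul, smul_left_cancel_iff]
    have hyiF : Nat.card {i : ι // y⁻¹ • i = i} = F := by
      rw [← hyF]
      refine Nat.card_congr (Equiv.subtypeEquivRight fun i => ?_)
      rw [inv_smul_eq_iff, eq_comm]
    have hgeni : Subgroup.closure ({a, y⁻¹} : Set G) = ⊤ := by
      rw [eq_top_iff, ← hgen, Subgroup.closure_le]
      rintro z (rfl | rfl)
      · exact Subgroup.subset_closure (Or.inl rfl)
      · exact (inv_mem_iff (H := Subgroup.closure ({a, y⁻¹} : Set G))).1 (Subgroup.subset_closure (Or.inr rfl))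
    set H := MulAction.stabilizer G i0 ⊔ N with hH
    have d1 := index_dvd_of_smul i0 (H := H) le_sup_right le_sup_left (hscott y hy3 hyF hgen) hxy
    have d2 := index_dvd_of_smul i0 (H := H) le_sup_right le_sup_left
      (hscott y⁻¹ (by rw [inv_pow, hy3, inv_one]) hyiF hgeni) hxyi
    have hnd : ¬ p ∣ p ^ 2 - 1 := fun h => hp.out.one_lt.ne' (Nat.dvd_one.1 (by
      have h' := Nat.dvd_sub (dvd_pow_self p two_ne_zero) h
      rwa [show p ^ 2 - (p ^ 2 - 1) = 1 by have := Nat.one_le_pow 2 p hp.out.pos; omega] at h'))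
    have hcop : H.index.Coprime p := (((hp.out.coprime_iff_not_dvd).2 hnd).symm).coprime_dvd_left d2
    have h2 : H.index ∣ 2 := hcop.dvd_of_dvd_mul_right d1
    rcases (Nat.dvd_prime Nat.prime_two).1 h2 with h | h
    · rw [Subgroup.index_eq_one] at h
      refine hNtrans fun i => ?_
      obtain ⟨g, rfl⟩ := MulAction.exists_smul_eq G i0 i
      have hg : g ∈ H := h ▸ Subgroup.mem_top g
      rw [hH, sup_comm, ← SetLike.mem_coe, Subgroup.normal_mul] at hg
      obtain ⟨s, hs, t, ht, rfl⟩ := hg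
      exact ⟨_, hs, by rw [mul_smul, (ht : t • i0 = i0)]⟩
    · exact index_ne_two hperf H h

end Cfsg.Lib.FixSixth
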