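import Cfsg.Agent.FixSixth.Blocks

/-!
# Orbit counting for two generators and the bound from a permuted decomposition
-/

set_option autoImplicit false

namespace Cfsg.Lib.FixSixth

open Module LinearMap

universe u v w x

section Scott

variable {G : Type u} [Group G] {ι : Type x} [MulAction G ι]

/-- The permutation operator on functions. -/
def permEnd (g : G) : End ℚ (ι → ℚ) := LinearMap.funLeft ℚ ℚ (fun i => g⁻¹ • i)

theorem permEnd_apply (g : G) (f : ι → ℚ) (i : ι) : permEnd g f i = f (g⁻¹ • i) := rfl

theorem permEnd_mul (a b : G) : permEnd (ι := ι) (a * b) = permEnd a * permEnd b := by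
  refine LinearMap.ext fun f => funext fun i => ?_
  rw [Module.End.mul_apply, permEnd_apply, permEnd_apply, permEnd_apply, mul_inv_rev, mul_smul]

theorem mem_ker_permEnd {g : G} {f : ι → ℚ} :
    f ∈ ker (permEnd g - 1) ↔ ∀ i, f (g • i) = f i := by
  rw [mem_ker_sub_one, funext_iff]
  constructor
  · intro h i
    have := h (g • i)
    rw [permEnd_apply, inv_smul_smul] at this
    exact this.symm
  · intro h i
    rw [permEnd_apply, ← h (g⁻¹ • i), smul_inv_smul]

variable [Fintype ι] [MulAction.IsPretransitive G ι]

/-- The inequality of Scott for two generators of a transitive group. -/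
theorem scott_orbits {a b : G} (hgen : Subgroup.closure ({a, b} : Set G) = ⊤) :
    fixDim (permEnd (ι := ι) a) + fixDim (permEnd (ι := ι) b) + fixDim (permEnd (ι := ι) (a * b)) ≤
      Fintype.card ι + 2 := by
  classical
  rcases isEmpty_or_nonempty ι with hemp | ⟨⟨i0⟩⟩
  · have h : ∀ g : G, fixDim (permEnd (ι := ι) g) = 0 := fun g => finrank_zero_of_subsingleton
    simp [h]
  set A : End ℚ (ι → ℚ) := permEnd a with hA
  set B : End ℚ (ι → ℚ) := permEnd b with hB
  set C : End ℚ (ι → ℚ) := permEnd (a * b) with hC
  have hAB : C = A * B := permEnd_mul a b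
  set A' : End ℚ (ι → ℚ) := 1 - A with hA'
  set B' : End ℚ (ι → ℚ) := 1 - B with hB'
  set C' : End ℚ (ι → ℚ) := 1 - C with hC'
  have hker : ∀ (T : End ℚ (ι → ℚ)), ker (1 - T) = ker (T - 1) := fun T => by
    rw [← neg_sub T 1, LinearMap.ker_neg]
  -- the two maps
  let δ : (range A' × range B' × range C') →ₗ[ℚ] (ι → ℚ) :=
    (range A').subtype.coprod ((A.comp (range B').subtype).coprod (-(range C').subtype))
  let β : (ι → ℚ) →ₗ[ℚ] (range A' × range B' × range C') :=
    A'.rangeRestrict.prod (B'.rangeRestrict.prod C'.rangeRestrict)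
  have hδβ : δ.comp β = 0 := by
    refine LinearMap.ext fun v => ?_
    show A' v + (A (B' v) + -(C' v)) = 0
    rw [hA', hB', hC', hAB]
    simp only [LinearMap.sub_apply, Module.End.one_apply, Module.End.mul_apply, map_sub]
    abel
  have hle : range β ≤ ker δ := by
    rintro _ ⟨v, rfl⟩
    exact LinearMap.congr_fun hδβ v
  -- only the constants are fixed
  have hconst : ker β ≤ Submodule.span ℚ {fun _ => (1 : ℚ)} := by
    intro f hf
    have hfa : f ∈ ker (A - 1) := by
      rw [← hker]; exact congrArg Subtype.val (congrArg Prod.fst hf)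
    have hfb : f ∈ ker (B - 1) := by
      rw [← hker]; exact congrArg Subtype.val (congrArg Prod.fst (congrArg Prod.snd hf))
    rw [hA, mem_ker_permEnd] at hfa
    rw [hB, mem_ker_permEnd] at hfb
    have hall : ∀ g : G, ∀ i, f (g • i) = f i := by
      intro g
      have hg : g ∈ Subgroup.closure ({a, b} : Set G) := hgen ▸ Subgroup.mem_top g
      induction hg using Subgroup.closure_induction with
      | mem z hz =>
        rcases hz with rfl | rfl
        · exact hfa
        · exact hfb
      | one => exact fun i => by rw [one_smul]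
      | mul z z' _ _ h h' => exact fun i => by rw [mul_smul, h, h']
      | inv z _ h => exact fun i => by rw [← h (z⁻¹ • i), smul_inv_smul]
    refine Submodule.mem_span_singleton.2 ⟨f i0, funext fun i => ?_⟩
    obtain ⟨g, rfl⟩ := MulAction.exists_smul_eq G i0 i
    simp [hall]
  -- the augmentation kernel is covered
  have hcover : ker (∑ i : ι, LinearMap.proj (R := ℚ) (φ := fun _ : ι => ℚ) i) ≤ range δ := by
    have hA'le : range A' ≤ range δ := by
      rintro v hv
      exact ⟨(⟨v, hv⟩, 0, 0), by simp [δ]⟩
    have hB'le : range B' ≤ range δ := by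
      rintro v hv
      have h1 : A v ∈ range δ := ⟨(0, ⟨v, hv⟩, 0), by simp [δ]⟩
      have h2 : A' v ∈ range δ := hA'le ⟨v, rfl⟩
      have h3 := Submodule.add_mem _ h1 h2
      rwa [show A v + A' v = v by simp [hA']] at h3
    have hdiff : ∀ (g : G) (i : ι), (Pi.single (g • i) 1 : ι → ℚ) - Pi.single i 1 ∈ range δ := by
      have hone : ∀ (g : G) (i : ι), permEnd g (Pi.single i 1 : ι → ℚ) = Pi.single (g • i) 1 := fun g i => by
        funext j
        rw [permEnd_apply]
        by_cases h : j = g • i
        · simp [h]
        · have : g⁻¹ • j ≠ i := fun h' => h (by rw [← h', smul_inv_smul])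
          simp [h, this]
      intro g
      have hg : g ∈ Subgroup.closure ({a, b} : Set G) := hgen ▸ Subgroup.mem_top g
      induction hg using Subgroup.closure_induction with
      | mem z hz =>
        intro i
        rw [← neg_sub, Submodule.neg_mem_iff]
        rcases hz with rfl | rfl
        · refine hA'le ⟨Pi.single i 1, ?_⟩
          rw [hA', hA, LinearMap.sub_apply, Module.End.one_apply, hone]
        · refine hB'le ⟨Pi.single i 1, ?_⟩
          rw [hB', hB, LinearMap.sub_apply, Module.End.one_apply, hone]
      | one => exact fun i => by simp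
      | mul z z' _ _ h h' =>
        intro i
        have := Submodule.add_mem _ (h (z' • i)) (h' i)
        rwa [sub_add_sub_cancel, ← mul_smul] at this
      | inv z _ h =>
        intro i
        have := Submodule.neg_mem _ (h (z⁻¹ • i))
        rwa [smul_inv_smul, neg_sub] at this
    intro f hf
    have hsum : ∑ i : ι, f i = 0 := by simpa using hf
    have hf' : f = ∑ i : ι, f i • ((Pi.single i 1 : ι → ℚ) - Pi.single i0 1) := by
      simp only [smul_sub, Finset.sum_sub_distrib, ← Finset.sum_smul, hsum, zero_smul, sub_zero]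
      exact pi_eq_sum_univ' f
    rw [hf']
    refine Submodule.sum_mem _ fun i _ => Submodule.smul_mem _ _ ?_
    obtain ⟨g, rfl⟩ := MulAction.exists_smul_eq G i0 i
    exact hdiff g i0
  -- count
  have h1 := LinearMap.finrank_range_add_finrank_ker β
  have h2 := LinearMap.finrank_range_add_finrank_ker δ
  have h3 := Submodule.finrank_mono hle
  have h4 : finrank ℚ ↥(ker β) ≤ 1 :=
    (Submodule.finrank_mono hconst).trans (finrank_span_le_card _ |>.trans (by simp))
  have h5 := LinearMap.finrank_range_add_finrank_ker (∑ i : ι, LinearMap.proj (R := ℚ) (φ := fun _ : ι => ℚ) i)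
  have h6 : finrank ℚ ↥(range (∑ i : ι, LinearMap.proj (R := ℚ) (φ := fun _ : ι => ℚ) i)) ≤ 1 :=
    (Submodule.finrank_le _).trans (by simp)
  have h7 := Submodule.finrank_mono hcover
  have h8 : ∀ T : End ℚ (ι → ℚ), finrank ℚ ↥(range (1 - T)) + fixDim T = Fintype.card ι := fun T => by
    have := LinearMap.finrank_range_add_finrank_ker (1 - T)
    rw [hker, Module.finrank_pi] at this
    exact this
  rw [Module.finrank_prod, Module.finrank_prod] at h2
  rw [Module.finrank_pi] at h1 h5
  have := h8 A
  have := h8 B
  have := h8 C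
  rw [← hA', ← hB', ← hC'] at *
  omega

omit [MulAction.IsPretransitive G ι] in
/-- Orbits of an element of order three. -/
theorem orbits_three {a : G} (ha : a ^ 3 = 1) :
    Fintype.card ι + 2 * Nat.card {i : ι // a • i = i} ≤ 3 * fixDim (permEnd (ι := ι) a) := by
  classical
  let s : Setoid ι := MulAction.orbitRel (Subgroup.zpowers a) ι
  let R := Quotient s
  let q : ι → R := Quotient.mk s
  have hinj : Function.Injective (LinearMap.funLeft ℚ ℚ q) :=
    LinearMap.funLeft_injective_of_surjective _ _ _ Quotient.mk_surjective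
  have hle : range (LinearMap.funLeft ℚ ℚ q) ≤ ker (permEnd a - 1) := by
    rintro _ ⟨f, rfl⟩
    refine mem_ker_permEnd.2 fun i => ?_
    show f (q (a • i)) = f (q i)
    exact congrArg f (Quotient.sound ⟨⟨a, Subgroup.mem_zpowers a⟩, rfl⟩)
  have hR : Fintype.card R ≤ fixDim (permEnd (ι := ι) a) := by
    have := Submodule.finrank_mono hle
    rwa [LinearMap.finrank_range_of_inj hinj, Module.finrank_pi] at this
  have hfin : IsOfFinOrder a := isOfFinOrder_iff_pow_eq_one.2 ⟨3, by norm_num, ha⟩
  have hfib : ∀ r : R, (Finset.univ.filter fun i => q i = r).card +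
      2 * ((Finset.univ.filter fun i : ι => a • i = i).filter fun i => q i = r).card ≤ 3 := by
    intro r
    obtain ⟨i, rfl⟩ := Quotient.mk_surjective r
    change (Finset.univ.filter fun l => q l = q i).card +
      2 * ((Finset.univ.filter fun l : ι => a • l = l).filter fun l => q l = q i).card ≤ 3
    have hmem : ∀ j, q j = q i → ∃ k : ℕ, k < 3 ∧ j = a ^ k • i := fun j hj => by
      obtain ⟨⟨g, hg⟩, rfl⟩ := Quotient.exact hj
      obtain ⟨k, rfl⟩ := hfin.mem_powers_iff_mem_zpowers.2 hg
      exact ⟨k % 3, Nat.mod_lt _ (by norm_num), congrArg (fun z : G => z • i) (pow_eq_pow_mod k ha)⟩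
    by_cases hF : ∃ j, q j = q i ∧ a • j = j
    · obtain ⟨j, hj, hfix⟩ := hF
      have hone : ∀ l, q l = q i → l = j := fun l hl => by
        obtain ⟨⟨g, hg⟩, rfl⟩ := Quotient.exact (hl.trans hj.symm)
        have hst : Subgroup.zpowers a ≤ MulAction.stabilizer G j := Subgroup.zpowers_le.2 hfix
        exact hst hg
      have h1 : (Finset.univ.filter fun l => q l = q i).card ≤ 1 := Finset.card_le_one.2 fun l hl l' hl' => by
        rw [hone l (Finset.mem_filter.1 hl).2, hone l' (Finset.mem_filter.1 hl').2]
      have h2 : ((Finset.univ.filter fun l : ι => a • l = l).filter fun l => q l = q i).card ≤ 1 :=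
        (Finset.card_le_card fun l hl => Finset.mem_filter.2 ⟨Finset.mem_univ _, (Finset.mem_filter.1 hl).2⟩).trans h1
      omega
    · push Not at hF
      have h2 : ((Finset.univ.filter fun l : ι => a • l = l).filter fun l => q l = q i) = ∅ :=
        Finset.filter_eq_empty_iff.2 fun l hl h => hF l h (Finset.mem_filter.1 hl).2
      have h1 : (Finset.univ.filter fun l => q l = q i) ⊆ (Finset.range 3).image fun k => a ^ k • i := fun l hl => by
        obtain ⟨k, hk, rfl⟩ := hmem l (Finset.mem_filter.1 hl).2
        exact Finset.mem_image.2 ⟨k, Finset.mem_range.2 hk, rfl⟩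
      have h3 := (Finset.card_le_card h1).trans Finset.card_image_le
      rw [h2, Finset.card_range] at *
      simpa using h3
  have hsum := Finset.sum_le_sum (s := (Finset.univ : Finset R)) fun r _ => hfib r
  rw [Finset.sum_add_distrib, ← Finset.mul_sum, ← Finset.card_eq_sum_card_fiberwise (fun i _ => Finset.mem_univ (q i)),
    ← Finset.card_eq_sum_card_fiberwise (fun i _ => Finset.mem_univ (q i)), Finset.sum_const, smul_eq_mul] at hsum
  rw [Nat.card_eq_fintype_card, Fintype.card_subtype]
  simp only [Finset.card_univ] at hsum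
  omega

/-- An intransitive cyclic group has two orbits. -/
theorem two_le_fixDim_permEnd {c : G} {i j : ι} (h : j ∉ MulAction.orbit (Subgroup.zpowers c) i) :
    2 ≤ fixDim (permEnd (ι := ι) c) := by
  classical
  let O : Set ι := MulAction.orbit (Subgroup.zpowers c) i
  let f1 : ι → ℚ := fun _ => 1
  let f2 : ι → ℚ := fun l => if l ∈ O then 1 else 0
  have hmem : ∀ n, (![f1, f2] : Fin 2 → ι → ℚ) n ∈ ker (permEnd c - 1) := by
    have hO : ∀ l, c • l ∈ O ↔ l ∈ O := fun l => by
      show (⟨c, Subgroup.mem_zpowers c⟩ : Subgroup.zpowers c) • l ∈ O ↔ l ∈ O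
      simp only [O, ← MulAction.orbit_eq_iff, MulAction.orbit_smul]
    intro n
    fin_cases n
    · exact mem_ker_permEnd.2 fun _ => rfl
    · exact mem_ker_permEnd.2 fun l => by simp [f2, hO]
  have hli : LinearIndependent ℚ (fun n => (⟨_, hmem n⟩ : ker (permEnd (ι := ι) c - 1))) := by
    refine LinearIndependent.of_comp (Submodule.subtype _) ?_
    show LinearIndependent ℚ ![f1, f2]
    rw [LinearIndependent.pair_iff' (fun h => one_ne_zero (α := ℚ) (congrFun h i))]
    intro r hr
    have h1 := congrFun hr i
    have h2 := congrFun hr j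
    simp [f1, f2, O, h, MulAction.mem_orbit_self] at h1 h2
    linarith
  have := hli.fintype_card_le_finrank
  simpa [fixDim] using this

end Scott

section Bound

variable {K : Type w} [Field K] {V : Type v} [AddCommGroup V] [Module K V] [FiniteDimensional K V]
variable {G : Type u} [Group G] {ι : Type x} [Fintype ι] [MulAction G ι] [MulAction.IsPretransitive G ι]

/-- A transitively permuted decomposition on which an element of order three fixes at most a quarter. -/
theorem perm_bound (h3 : (3 : K) ≠ 0) (ρ : Representation K G V) {W : ι → Submodule K V}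
    (hind : iSupIndep W) (htop : ⨆ i, W i = ⊤) (hW : ∀ g : G, ∀ i, ∀ v ∈ W i, ρ g v ∈ W (g • i))
    {a : G} (ha : a ^ 3 = 1) (hF : 4 * Nat.card {i : ι // a • i = i} ≤ Fintype.card ι) :
    finrank K V ≤ 4 * fixDim (ρ a) := by
  classical
  rcases isEmpty_or_nonempty ι with hemp | ⟨⟨i0⟩⟩
  · have : (⊤ : Submodule K V) = ⊥ := by rw [← htop, iSup_of_empty]
    rw [← finrank_top K V, this, finrank_bot]
    exact Nat.zero_le _
  have h := (fixDim_perm h3 (T := ρ a) (by rw [← map_pow, ha, map_one]) hind htop (fun i => a • i)
    (fun i => by rw [← mul_smul, ← mul_smul, show a * a * a = a ^ 3 by rw [pow_succ, pow_two], ha, one_smul])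
    (hW a)).1
  have hd : ∀ i, finrank K ↥(W i) = finrank K ↥(W i0) := by
    have hle : ∀ (g : G) i, finrank K ↥(W i) ≤ finrank K ↥(W (g • i)) := fun g i => by
      refine LinearMap.finrank_le_finrank_of_injective
        (f := ((ρ g).comp (W i).subtype).codRestrict (W (g • i)) fun v => hW g i v v.2) ?_
      intro v v' hv
      have h' : ρ g (v : V) = ρ g (v' : V) := congrArg Subtype.val hv
      have h'' := congrArg (ρ g⁻¹) h'
      rw [← Module.End.mul_apply, ← Module.End.mul_apply, ← map_mul, inv_mul_cancel, map_one] at h''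
      exact Subtype.ext h''
    intro i
    obtain ⟨g, rfl⟩ := MulAction.exists_smul_eq G i0 i
    refine le_antisymm ?_ (hle g i0)
    have := hle g⁻¹ (g • i0)
    rwa [inv_smul_smul] at this
  have hn : finrank K V = Fintype.card ι * finrank K ↥(W i0) := by
    rw [← finrank_top K V, ← htop, show (⨆ i, W i) = ⨆ i ∈ (Finset.univ : Finset ι), W i by simp, finrank_biSup hind,
      Finset.sum_congr rfl (fun i _ => hd i), Finset.sum_const, smul_eq_mul, Finset.card_univ]
  rw [Finset.sum_congr rfl (fun i _ => hd i), Finset.sum_const, smul_eq_mul] at h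
  rw [Nat.card_eq_fintype_card, Fintype.card_subtype] at hF
  have hc := Finset.card_filter_add_card_filter_not (s := (Finset.univ : Finset ι)) (fun i => a • i = i)
  rw [Finset.card_univ] at hc
  simp only [ne_eq] at h hc
  rw [hn]
  nlinarith

end Bound

end Cfsg.Lib.FixSixth
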