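import Cfsg.Agent.FixSixth.Bounds
import Cfsg.Agent.FixSixth.Lifts
import Cfsg.Agent.FixSixth.Small
import Mathlib.GroupTheory.Frattini

/-!
# The bound for a group above `SL₂(p)`
-/

set_option autoImplicit false

namespace Cfsg.Lib.FixSixth

open Module LinearMap Matrix

universe u v w

variable {p : ℕ} [hp : Fact p.Prime]

local notation "SLp" => SpecialLinearGroup (Fin 2) (ZMod p)

theorem sl_perfect (hp5 : 5 ≤ p) : commutator SLp = ⊤ := by
  refine Matrix.SL2.commutator_eq_top (a := (2 : ZMod p)) ?_ ?_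
  · intro h
    have h' : ((2 : ℕ) : ZMod p) = 0 := by exact_mod_cast h
    rw [ZMod.natCast_eq_zero_iff] at h'
    have := Nat.le_of_dvd (by norm_num) h'
    omega
  · intro h
    have h' : ((3 : ℕ) : ZMod p) = 0 := by
      push_cast
      linear_combination h
    rw [ZMod.natCast_eq_zero_iff] at h'
    have := Nat.le_of_dvd (by norm_num) h'
    omega

/-- A minimal supplement. -/
theorem exists_supplement {L : Type u} [Group L] [Finite L] (hp5 : 5 ≤ p)
    {π : L →* SpecialLinearGroup (Fin 2) (ZMod p)} (hπ : Function.Surjective π)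
    (hodd : Odd (Nat.card π.ker))
    (hcyc : ∀ R : Subgroup L, IsPGroup 3 R → IsCyclic R) :
    ∃ (S : Subgroup L) (σ : S →* SpecialLinearGroup (Fin 2) (ZMod p)), Function.Surjective σ ∧
      commutator S = ⊤ ∧ Group.IsNilpotent σ.ker ∧ (Nat.card σ.ker).Coprime 6 ∧
      (∀ T : Subgroup S, T.map σ = ⊤ → T = ⊤) := by
  classical
  obtain ⟨S, hS, hmin⟩ := (Set.toFinite {S : Subgroup L | S.map π = ⊤}).exists_minimal
    ⟨⊤, Subgroup.map_top_of_surjective π hπ⟩
  let σ : S →* SpecialLinearGroup (Fin 2) (ZMod p) := π.comp S.subtype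
  have hσ : Function.Surjective σ := fun q => by
    have hq : q ∈ S.map π := hS ▸ Subgroup.mem_top q
    obtain ⟨g, hg, rfl⟩ := hq
    exact ⟨⟨g, hg⟩, rfl⟩
  have hsup : ∀ T : Subgroup S, T.map σ = ⊤ → T = ⊤ := by
    intro T hT
    have h1 : (T.map S.subtype).map π = ⊤ := by rw [Subgroup.map_map]; exact hT
    have h2 := hmin h1 (Subgroup.map_subtype_le T)
    rw [eq_top_iff]
    intro g _
    obtain ⟨g', hg', hgg⟩ := h2 g.2
    rwa [← Subtype.ext hgg]
  have hperf : commutator S = ⊤ := hsup _ (by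
    rw [commutator_def, Subgroup.map_commutator, Subgroup.map_top_of_surjective σ hσ, ← commutator_def,
      sl_perfect hp5])
  have hfr : σ.ker ≤ frattini S := by
    refine le_iInf fun M => le_iInf fun hM => ?_
    by_contra hle
    refine hM.1 (hsup M ?_)
    have hjoin : M ⊔ σ.ker = ⊤ := hM.2 _ (left_lt_sup.2 hle)
    rw [← Subgroup.map_top_of_surjective σ hσ, ← hjoin, Subgroup.map_sup, (Subgroup.map_eq_bot_iff _).2 le_rfl, sup_bot_eq]
  haveI : Group.IsNilpotent (frattini S) := frattini_nilpotent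
  have hnil : Group.IsNilpotent σ.ker :=
    Group.nilpotent_of_surjective ((Subgroup.subgroupOfEquivOfLe hfr).toMonoidHom)
      (Subgroup.subgroupOfEquivOfLe hfr).surjective
  have hoddσ : Odd (Nat.card σ.ker) := by
    refine hodd.of_dvd_nat ?_
    let j : σ.ker →* π.ker := (S.subtype.comp σ.ker.subtype).codRestrict π.ker fun g => g.2
    exact Subgroup.card_dvd_of_injective j fun a b h =>
      Subtype.ext (Subtype.ext (congrArg Subtype.val h :))
  haveI := hnil
  have h3 : ¬ 3 ∣ Nat.card σ.ker := by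
    intro h
    haveI : Fact (Nat.Prime 3) := ⟨Nat.prime_three⟩
    obtain ⟨P⟩ := (inferInstance : Nonempty (Sylow 3 σ.ker))
    have htf := (Group.isNilpotent_of_finite_tfae (G := σ.ker)).out 0 3
    haveI hPn : (P : Subgroup σ.ker).Normal := htf.1 hnil 3 inferInstance P
    haveI : (P : Subgroup σ.ker).Characteristic := P.characteristic_of_normal hPn
    set N := (P : Subgroup σ.ker).map σ.ker.subtype with hN
    have hNp : IsPGroup 3 N := P.2.map _
    have hScyc : ∀ R : Subgroup S, IsPGroup 3 R → IsCyclic R := fun R hR => by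
      haveI := hcyc (R.map S.subtype) (hR.map _)
      exact isCyclic_of_surjective _ (R.equivMapOfInjective S.subtype S.subtype_injective).symm.surjective
    haveI := hScyc N hNp
    obtain ⟨z, hz⟩ := IsCyclic.exists_generator (α := N)
    have hcomm : ∀ φ ψ : MulAut N, φ * ψ = ψ * φ := fun φ ψ => by
      refine MulEquiv.ext fun x => ?_
      obtain ⟨i, rfl⟩ := hz x
      rw [map_zpow, map_zpow]
      congr 1
      obtain ⟨a, ha⟩ := hz (φ z)
      obtain ⟨b, hb⟩ := hz (ψ z)
      rw [MulAut.mul_apply, MulAut.mul_apply, ← hb, map_zpow, ← ha, map_zpow, ← hb]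
      change (z ^ a) ^ b = (z ^ b) ^ a
      rw [← _root_.zpow_mul, ← _root_.zpow_mul, mul_comm]
    have hker : commutator S ≤ (MulAut.conjNormal : S →* MulAut N).ker := by
      rw [commutator_def, Subgroup.commutator_le]
      intro g _ g' _
      rw [MonoidHom.mem_ker, map_commutatorElement, commutatorElement_eq_one_iff_mul_comm]
      exact hcomm _ _
    rw [hperf] at hker
    have hcent : N ≤ Subgroup.center S := fun x hx => Subgroup.mem_center_iff.2 fun g => by
      have h := MonoidHom.mem_ker.1 (hker (Subgroup.mem_top g))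
      have := congrArg (fun f : MulAut N => ((f ⟨x, hx⟩ : N) : S)) h
      simp only [MulAut.conjNormal_apply, MulAut.one_apply] at this
      exact mul_inv_eq_iff_eq_mul.1 this
    have hbot := central_trivial hperf hcent fun r hr hrN R hR => by
      have hr3 : r = 3 := by
        obtain ⟨k, hk⟩ := IsPGroup.iff_card.1 hNp
        rw [hk] at hrN
        exact (Nat.prime_dvd_prime_iff_eq hr Nat.prime_three).1 (hr.dvd_of_dvd_pow hrN)
      subst hr3
      haveI := hScyc R hR
      obtain ⟨c, hc⟩ := IsCyclic.exists_generator (α := R)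
      refine ⟨c, fun g hg => ?_⟩
      obtain ⟨i, hi⟩ := hc ⟨g, hg⟩
      have hi' : (c : S) ^ i = g := congrArg Subtype.val hi
      exact ⟨-i, by rw [← hi', ← _root_.zpow_add, add_neg_cancel, _root_.zpow_zero]; exact one_mem _⟩
    have hPbot : (P : Subgroup σ.ker) = ⊥ := (Subgroup.map_eq_bot_iff_of_injective _ σ.ker.subtype_injective).1 hbot
    have hd := P.dvd_card_of_dvd_card h
    rw [hPbot, Subgroup.card_bot] at hd
    exact absurd (Nat.le_of_dvd one_pos hd) (by norm_num)
  refine ⟨S, σ, hσ, hperf, hnil, ?_, hsup⟩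
  rw [show (6 : ℕ) = 2 * 3 from rfl]
  exact Nat.Coprime.mul_right (Nat.coprime_two_right.2 hoddσ)
    ((Nat.prime_three.coprime_iff_not_dvd.2 h3).symm)

/-- A lift of `p`-power order. -/
theorem exists_p_lift {S : Type u} [Group S] [Finite S] {Q : Type v} [Group Q] {π : S →* Q}
    (hπ : Function.Surjective π) {u0' : Q} (hu : orderOf u0' = p) :
    ∃ (v : S) (m : ℕ), π v = u0' ∧ v ^ p ^ m = 1 := by
  obtain ⟨a, ha⟩ := hπ u0'
  obtain ⟨m, d, hd, hn⟩ := Nat.exists_eq_pow_mul_and_not_dvd (orderOf_pos a).ne' p hp.out.ne_one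
  obtain ⟨c, hc⟩ : ∃ c, d * c ≡ 1 [MOD p] := by
    obtain ⟨c, hc⟩ := Nat.exists_mul_mod_eq_one_of_coprime ((hp.out.coprime_iff_not_dvd).2 hd).symm hp.out.one_lt
    exact ⟨c, by rw [Nat.ModEq, hc.2, Nat.mod_eq_of_lt hp.out.one_lt]⟩
  have hup : u0' ^ p = 1 := hu ▸ pow_orderOf_eq_one u0'
  refine ⟨a ^ (d * c), m, ?_, ?_⟩
  · rw [map_pow, ha, pow_eq_pow_mod _ hup, hc, ← pow_eq_pow_mod _ hup, pow_one]
  · rw [← pow_mul, show d * c * p ^ m = p ^ m * d * c by ring, pow_mul, ← hn, pow_orderOf_eq_one, one_pow]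

variable {K : Type w} [Field K] [IsAlgClosed K]

/-- The groups above `SL₂(p)`, `p ≥ 7`. -/
theorem sl_group_bound {L : Type u} [Group L] [Finite L] (hp7 : 7 ≤ p) (h3 : (3 : K) ≠ 0)
    {π : L →* SpecialLinearGroup (Fin 2) (ZMod p)} (hπ : Function.Surjective π)
    (hodd : Odd (Nat.card π.ker)) (hcyc : ∀ R : Subgroup L, IsPGroup 3 R → IsCyclic R)
    {V : Type v} [AddCommGroup V] [Module K V] [FiniteDimensional K V] (ρ₀ : Representation K L V) :
    ∃ g : L, g ≠ 1 ∧ finrank K V ≤ 6 * fixDim (ρ₀ g) := by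
  classical
  obtain ⟨S, σ, hσ, hperf, hnil, hco6, hsup⟩ := exists_supplement (by omega) hπ hodd hcyc
  set ρ : Representation K S V := ρ₀.comp S.subtype
  suffices hS : ∃ g : S, g ≠ 1 ∧ finrank K V ≤ 6 * fixDim (ρ g) by
    obtain ⟨g, hg, h⟩ := hS
    exact ⟨g, fun h => hg (Subtype.ext h), h⟩
  haveI : NeZero p := ⟨hp.out.ne_zero⟩
  have hp3 : p % 3 = 1 ∨ p % 3 = 2 := by
    have : ¬ 3 ∣ p := fun h => by
      rw [Nat.prime_dvd_prime_iff_eq Nat.prime_three hp.out] at h
      omega
    omega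
  have hker3 : ¬ 3 ∣ Nat.card σ.ker := fun h => by
    have : (3 : ℕ) ∣ 1 := by rw [← hco6.gcd_eq_one]; exact Nat.dvd_gcd h (by norm_num)
    norm_num at this
  rcases hp3 with h1 | h2
  · -- a Frobenius group
    haveI : Fact (Nat.Prime 3) := ⟨Nat.prime_three⟩
    obtain ⟨b, hb⟩ := exists_prime_orderOf_dvd_card' (G := (ZMod p)ˣ) 3 (by
      rw [Nat.card_eq_fintype_card, ZMod.card_units]; omega)
    have hb3 : b ^ 3 = 1 := hb ▸ pow_orderOf_eq_one b
    set s := ((b : ZMod p) ^ 2).val with hs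
    have hp3' : ¬ p ∣ 3 := fun h => by
      have := Nat.le_of_dvd (by norm_num) h
      omega
    obtain ⟨t, h, e, s', M, ht, htM, ⟨d, hd⟩, hMdvd, hpM, hh1, hhe, -, -, hth, hs'⟩ :=
      exists_frobenius_lift hσ (orderOf_u0 (p := p)) (by norm_num : 0 < 3) hp3'
        (by rw [t0_pow, hb3, t0_one]) (t0_conj_u0 b)
    subst hd
    have hd3 : ¬ 3 ∣ d := fun h' => hker3 (h'.trans (Nat.dvd_of_mul_dvd_mul_left (by norm_num) hMdvd))
    set x := t ^ d with hx
    have hx3 : x ^ 3 = 1 := by rw [hx, ← pow_mul, mul_comm, htM]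
    have hx1 : x ≠ 1 := by
      intro h'
      have h'' := congrArg σ h'
      rw [hx, map_pow, ht, t0_pow, map_one] at h''
      have hbd : b ^ d = 1 := by
        refine Units.ext ?_
        have := congrArg (fun q : SpecialLinearGroup (Fin 2) (ZMod p) => (q : Matrix (Fin 2) (Fin 2) (ZMod p)) 0 0) h''
        simpa [t0] using this
      exact hd3 (hb ▸ orderOf_dvd_of_pow_eq_one hbd)
    set r := s' ^ d with hr
    have hxh : x * h * x⁻¹ = h ^ r := by
      have hiter : ∀ j, t ^ j * h * (t ^ j)⁻¹ = h ^ (s' ^ j) := fun j => by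
        induction j with
        | zero => simp
        | succ j ih =>
          rw [show t ^ (j + 1) * h * (t ^ (j + 1))⁻¹ = t * (t ^ j * h * (t ^ j)⁻¹) * t⁻¹ by rw [pow_succ']; group,
            ih, ← conj_pow, hth, ← pow_mul, pow_succ']
      exact hiter d
    have hrb : (r : ZMod p) = ((b ^ (2 * d) : (ZMod p)ˣ) : ZMod p) := by
      rw [hr, Nat.cast_pow, hs', ZMod.natCast_zmod_val, Units.val_pow_eq_pow_val, ← pow_mul]
    have hb1 : b ^ (2 * d) ≠ 1 := fun h' => by
      have h'' := orderOf_dvd_of_pow_eq_one h'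
      rw [hb] at h''
      rcases Nat.prime_three.dvd_mul.1 h'' with h0 | h0
      · norm_num at h0
      · exact hd3 h0
    have hr1 : (r : ZMod p) ≠ 1 := by
      rw [hrb]
      exact fun h' => hb1 (Units.ext (by rw [h', Units.val_one]))
    have hr3 : (r : ZMod p) ^ 3 = 1 := by
      rw [hrb, ← Units.val_pow_eq_pow_val, ← pow_mul, mul_comm, pow_mul, hb3, one_pow, Units.val_one]
    by_cases hpK : (p : K) = 0
    · haveI : CharP K p := (CharP.charP_iff_prime_eq_zero hp.out).2 hpK
      letI := ZMod.algebra K p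
      have hcast : (r : K) = algebraMap (ZMod p) K (r : ZMod p) := by rw [map_natCast]
      rcases frobenius_char (p := p) (e := e) h3 (T := ρ x) (H := ρ h) (s := r)
          (by rw [← map_pow, hx3, map_one]) (by rw [← map_pow, hhe, map_one])
          (by rw [← map_mul, ← map_pow, ← map_mul, ← hxh, inv_mul_cancel_right])
          (by rw [hcast, ← map_pow, hr3, map_one])
          (by rw [hcast]; exact fun h' => hr1 ((algebraMap (ZMod p) K).injective (by rw [h', map_one]))) with h' | h'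
      · exact ⟨x, hx1, h'⟩
      · exact ⟨h, hh1, h'⟩
    · obtain ⟨i, hi, hord⟩ := (Nat.dvd_prime_pow hp.out).1 (orderOf_dvd_of_pow_eq_one hhe)
      obtain ⟨j, rfl⟩ : ∃ j, i = j + 1 := ⟨i - 1, by
        have : i ≠ 0 := fun h0 => hh1 (orderOf_eq_one_iff.1 (by rw [hord, h0, pow_zero]))
        omega⟩
      set h0 := h ^ p ^ j with hh0
      have hh0p : h0 ^ p = 1 := by
        rw [hh0, ← pow_mul, ← pow_succ, ← hord, pow_orderOf_eq_one]
      have hh01 : h0 ≠ 1 := fun h' => by
        have h'' := orderOf_dvd_of_pow_eq_one h'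
        rw [hord] at h''
        have := (Nat.pow_dvd_pow_iff_le_right hp.out.one_lt).1 h''
        omega
      have hx0h : x * h0 * x⁻¹ = h0 ^ r := by
        rw [hh0, ← conj_pow, hxh, ← pow_mul, ← pow_mul, mul_comm]
      rcases frobenius_cross hpK h3 ρ hx3 hh0p hx0h hr1 with h' | h'
      · exact ⟨x, hx1, by omega⟩
      · exact ⟨h0, hh01, by omega⟩
  · -- the configuration of Scott
    have hp11 : 11 ≤ p := by
      have h2 := hp.out
      by_contra hlt
      push Not at hlt
      interval_cases p <;> first | omega | norm_num at h2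
    obtain ⟨x, hx, hx3⟩ := exists_order_lift hσ (by norm_num : 0 < 3) (x0_cube (p := p))
      (Nat.prime_three.coprime_iff_not_dvd.2 hker3)
    obtain ⟨v, m, hv, hvm⟩ := exists_p_lift (p := p) hσ (orderOf_u0 (p := p))
    have hgen : Subgroup.closure ({x, v * x * v⁻¹} : Set S) = ⊤ := hsup _ (by
      rw [MonoidHom.map_closure, Set.image_pair, map_mul, map_mul, map_inv, hx, hv, y0_eq,
        closure_x0_y0 (by omega)])
    let d : Supp σ := ⟨x, v, m, hx, hx3, hv, hvm, hgen, hσ, hperf, hnil, hco6⟩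
    have hx1 : x ≠ 1 := fun h => x0_ne_one (p := p) (by rw [← hx, h, map_one])
    by_cases hpK : (p : K) = 0
    · haveI : CharP K p := (CharP.charP_iff_prime_eq_zero hp.out).2 hpK
      letI := ZMod.algebra K p
      haveI : IsCyclic (ZMod p)ˣ := inferInstance
      obtain ⟨g, hg⟩ := IsCyclic.exists_generator (α := (ZMod p)ˣ)
      have hkp : ¬ p ∣ p - 1 := fun h => by
        have := Nat.le_of_dvd (by omega) h
        omega
      obtain ⟨t, h, e, s', M, ht, htM, hkM, -, hpM, hh1, hhe, hπh1, hπh, hth, hs'⟩ :=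
        exists_frobenius_lift hσ (orderOf_u0 (p := p)) (by omega : 0 < p - 1) hkp
          (by rw [t0_pow, ← ZMod.card_units p, pow_card_eq_one, t0_one]) (t0_conj_u0 g)
      let c : Cfg σ :=
        { x := x, t := t, h := h, g := g, e := e, s := s', M := M, hg := hg, hx := hx, hx3 := hx3, ht := ht,
          hM := htM, hpM := hpM, hpm1 := hkM, hh := hhe, hπh := hπh, hπh1 := hπh1, hth := hth,
          hs := by rw [hs', ZMod.natCast_zmod_val] }
      exact d.char_bound h3 h2 hp11 c rfl ρ
    · refine ⟨x, hx1, ?_⟩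
      have := d.cross_bound h3 h2 hp11 hpK V ρ
      show finrank K V ≤ 6 * fixDim (ρ d.x)
      omega

end Cfsg.Lib.FixSixth
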