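import Cfsg.Agent.FixSixth.Blocks
import Cfsg.Agent.FixSixth.SLMat

/-!
# The modules of homogeneous forms of `SL₂(p)` in characteristic `p`
-/

set_option autoImplicit false

namespace Cfsg.Lib.FixSixth

open Module LinearMap Matrix

universe v w

section Basis

variable {K : Type w} [Field K] {V : Type v} [AddCommGroup V] [Module K V] [FiniteDimensional K V]

/-- The eigenspaces of an operator with a spanning family of eigenvectors. -/
theorem finrank_eigen_of_spanning {n : ℕ} (b : Fin n → V) (hsp : Submodule.span K (Set.range b) = ⊤)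
    (hn : finrank K V = n) {T : End K V} (c : Fin n → K) (hb : ∀ i, T (b i) = c i • b i) (l : K)
    [DecidableEq K] :
    finrank K ↥(Module.End.eigenspace T l) = (Finset.univ.filter fun i => c i = l).card := by
  classical
  have hli : LinearIndependent K b := by
    refine linearIndependent_of_top_le_span_of_card_eq_finrank hsp.ge ?_
    rw [Fintype.card_fin, hn]
  have heq : Module.End.eigenspace T l = Submodule.span K (b '' {i | c i = l}) := by
    refine le_antisymm (fun v hv => ?_) ?_
    · have hv' : v ∈ Submodule.span K (Set.range b) := hsp ▸ Submodule.mem_top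
      obtain ⟨r, rfl⟩ := (Submodule.mem_span_range_iff_exists_fun K).1 hv'
      rw [Module.End.mem_eigenspace_iff, map_sum, Finset.smul_sum] at hv
      have h0 : ∑ i, (r i * c i - l * r i) • b i = 0 := by
        rw [← sub_eq_zero] at hv
        rw [← hv, ← Finset.sum_sub_distrib]
        exact Finset.sum_congr rfl fun i _ => by rw [map_smul, hb, smul_smul, smul_smul, sub_smul]
      have h1 := Fintype.linearIndependent_iff.1 hli _ h0
      refine Submodule.sum_mem _ fun i _ => ?_
      by_cases hi : c i = l
      · exact Submodule.smul_mem _ _ (Submodule.subset_span ⟨i, hi, rfl⟩)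
      · have : r i = 0 := by
          have h2 : r i * (c i - l) = 0 := by linear_combination h1 i
          exact (mul_eq_zero.1 h2).resolve_right (sub_ne_zero.2 hi)
        rw [this, zero_smul]
        exact zero_mem _
    · rw [Submodule.span_le]
      rintro _ ⟨i, hi, rfl⟩
      rw [SetLike.mem_coe, Module.End.mem_eigenspace_iff, hb]
      exact congrArg (· • b i) hi
  have h2 : b '' {i | c i = l} = Set.range (b ∘ (Subtype.val : {i // c i = l} → Fin n)) := by
    rw [Set.range_comp, Subtype.range_coe_subtype]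
  rw [heq, h2, finrank_span_eq_card (hli.comp _ Subtype.val_injective), Fintype.card_subtype]

end Basis

variable (K : Type w) [Field K]

/-- The coordinate forms. -/
def coordFn (j : Fin 2) : (Fin 2 → K) → K := fun v => v j

/-- Forms of degree `k`. -/
def forms (k : ℕ) : Submodule K ((Fin 2 → K) → K) := Submodule.span K (Set.range (coordFn K)) ^ k

/-- The monomial `v₀^i v₁^(k-i)`. -/
def monoFn (k i : ℕ) : (Fin 2 → K) → K := fun v => v 0 ^ i * v 1 ^ (k - i)

variable {K}

/-- Products of `i` copies of one linear form and `k - i` of another span the forms of degree `k`. -/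
theorem forms_eq_span {a b : (Fin 2 → K) → K}
    (hab : Submodule.span K ({a, b} : Set ((Fin 2 → K) → K)) = Submodule.span K (Set.range (coordFn K)))
    (k : ℕ) :
    forms K k = Submodule.span K (Set.range fun i : Fin (k + 1) => a ^ (i : ℕ) * b ^ (k - i)) := by
  rw [forms, ← hab]
  induction k with
  | zero =>
    rw [pow_zero, Submodule.one_eq_span]
    congr 1
    ext f
    simp
  | succ k ih =>
    rw [pow_succ, ih, Submodule.span_mul_span]
    refine le_antisymm (Submodule.span_mono ?_) (Submodule.span_mono ?_)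
    · rintro _ ⟨_, ⟨i, rfl⟩, g, hg, rfl⟩
      rcases hg with rfl | rfl
      · exact ⟨⟨i + 1, by omega⟩, by
          simp only [show k + 1 - ((i : ℕ) + 1) = k - i by omega, pow_succ]; ring⟩
      · exact ⟨⟨i, by omega⟩, by
          simp only [show k + 1 - (i : ℕ) = (k - i) + 1 by omega, pow_succ]; ring⟩
    · rintro _ ⟨i, rfl⟩
      by_cases hi : (i : ℕ) = k + 1
      · refine ⟨a ^ k * b ^ (k - k), ⟨⟨k, by omega⟩, rfl⟩, a, by simp, ?_⟩
        simp [hi, pow_succ]
      · refine ⟨a ^ (i : ℕ) * b ^ (k - i), ⟨⟨i, by omega⟩, rfl⟩, b, by simp, ?_⟩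
        have : k + 1 - (i : ℕ) = (k - i) + 1 := by omega
        simp only [this, pow_succ]
        ring

theorem forms_eq_mono (k : ℕ) :
    forms K k = Submodule.span K (Set.range fun i : Fin (k + 1) => monoFn K k i) := by
  have h : Submodule.span K ({coordFn K 0, coordFn K 1} : Set ((Fin 2 → K) → K)) =
      Submodule.span K (Set.range (coordFn K)) := by
    congr 1
    ext f
    simp [Fin.exists_fin_two, eq_comm]
  rw [forms_eq_span h k]
  rfl

theorem monoFn_independent [Infinite K] (k : ℕ) :
    LinearIndependent K fun i : Fin (k + 1) => monoFn K k i := by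
  classical
  rw [Fintype.linearIndependent_iff]
  intro c hc i
  have hpoly : ∑ j : Fin (k + 1), Polynomial.monomial (j : ℕ) (c j) = 0 := by
    refine Polynomial.funext fun s => ?_
    have h := congrFun hc ![s, 1]
    simp [Finset.sum_apply, monoFn] at h
    simpa [Polynomial.eval_finset_sum] using h
  have h := congrArg (fun P => Polynomial.coeff P (i : ℕ)) hpoly
  simp [Polynomial.finset_sum_coeff, Polynomial.coeff_monomial, Fin.val_inj] at h
  exact h

instance forms_finite (k : ℕ) : FiniteDimensional K (forms K k) := by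
  rw [forms_eq_mono k]
  exact Module.Finite.span_of_finite K (Set.finite_range _)

theorem finrank_forms [Infinite K] (k : ℕ) : finrank K (forms K k) = k + 1 := by
  rw [forms_eq_mono k, finrank_span_eq_card (monoFn_independent k), Fintype.card_fin]

variable {p : ℕ} [hp : Fact p.Prime] [Algebra (ZMod p) K]

/-- Substitution by a matrix over `ZMod p`. -/
noncomputable def substFn (g : SpecialLinearGroup (Fin 2) (ZMod p)) :
    ((Fin 2 → K) → K) →ₐ[K] ((Fin 2 → K) → K) where
  toFun f := fun v => f (v ᵥ* (g : Matrix (Fin 2) (Fin 2) (ZMod p)).map (algebraMap (ZMod p) K))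
  map_one' := rfl
  map_mul' _ _ := rfl
  map_zero' := rfl
  map_add' _ _ := rfl
  commutes' _ := rfl

theorem substFn_apply (g : SpecialLinearGroup (Fin 2) (ZMod p)) (f : (Fin 2 → K) → K) (v : Fin 2 → K) :
    substFn g f v = f (v ᵥ* (g : Matrix (Fin 2) (Fin 2) (ZMod p)).map (algebraMap (ZMod p) K)) := rfl

theorem substFn_forms (g : SpecialLinearGroup (Fin 2) (ZMod p)) (k : ℕ) :
    forms K k ≤ (forms K k).comap (substFn g).toLinearMap := by
  rw [← Submodule.map_le_iff_le_comap, forms, Submodule.map_pow]
  gcongr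
  rw [Submodule.map_span, Submodule.span_le]
  rintro _ ⟨_, ⟨j, rfl⟩, rfl⟩
  have : substFn g (coordFn K j) =
      algebraMap (ZMod p) K ((g : Matrix (Fin 2) (Fin 2) (ZMod p)) 0 j) • coordFn K 0 +
        algebraMap (ZMod p) K ((g : Matrix (Fin 2) (Fin 2) (ZMod p)) 1 j) • coordFn K 1 := by
    funext v
    simp [substFn_apply, coordFn, Matrix.vecMul, dotProduct, Fin.sum_univ_two]
    rw [Algebra.smul_def, Algebra.smul_def]
    ring
  show substFn g (coordFn K j) ∈ _
  rw [this]
  exact Submodule.add_mem _ (Submodule.smul_mem _ _ (Submodule.subset_span ⟨0, rfl⟩))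
    (Submodule.smul_mem _ _ (Submodule.subset_span ⟨1, rfl⟩))

variable (K)

/-- The representation on forms of degree `k`. -/
noncomputable def formsRep (k : ℕ) :
    Representation K (SpecialLinearGroup (Fin 2) (ZMod p)) (forms K k) where
  toFun g := (substFn g).toLinearMap.restrict (substFn_forms g k)
  map_one' := by
    refine LinearMap.ext fun f => Subtype.ext (funext fun v => ?_)
    show substFn 1 (f : (Fin 2 → K) → K) v = (f : (Fin 2 → K) → K) v
    simp [substFn_apply]
  map_mul' g h := by
    refine LinearMap.ext fun f => Subtype.ext (funext fun v => ?_)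
    show substFn (g * h) (f : (Fin 2 → K) → K) v = substFn g (substFn h (f : (Fin 2 → K) → K)) v
    simp [substFn_apply, Matrix.vecMul_vecMul, Matrix.map_mul]

theorem formsRep_apply (k : ℕ) (g : SpecialLinearGroup (Fin 2) (ZMod p)) (f : forms K k) (v : Fin 2 → K) :
    ((formsRep K k g f : forms K k) : (Fin 2 → K) → K) v =
      (f : (Fin 2 → K) → K) (v ᵥ* (g : Matrix (Fin 2) (Fin 2) (ZMod p)).map (algebraMap (ZMod p) K)) := rfl

variable {K} [CharP K p]

/-- The top monomial. -/
def topMono (k : ℕ) : forms K k :=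
  ⟨monoFn K k k, by rw [forms_eq_mono k]; exact Submodule.subset_span ⟨⟨k, by omega⟩, rfl⟩⟩

theorem topMono_ne (k : ℕ) : topMono (K := K) k ≠ 0 := fun h => by
  have := congrFun (congrArg Subtype.val h) ![1, 1]
  simp [topMono, monoFn] at this

theorem u0_topMono (k : ℕ) : formsRep K k (u0 p) (topMono k) = topMono k := by
  refine Subtype.ext (funext fun v => ?_)
  rw [formsRep_apply]
  simp [topMono, monoFn, u0, Matrix.vecMul, dotProduct, Fin.sum_univ_two]

/-- Monomials are eigenvectors of the torus. -/
theorem t0_mono (k : ℕ) (a : (ZMod p)ˣ) (i : ℕ) (hi : monoFn K k i ∈ forms K k) :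
    formsRep K k (t0 a) ⟨monoFn K k i, hi⟩ =
      (algebraMap (ZMod p) K (a : ZMod p) ^ i * algebraMap (ZMod p) K ((a⁻¹ : (ZMod p)ˣ) : ZMod p) ^ (k - i)) •
        (⟨monoFn K k i, hi⟩ : forms K k) := by
  refine Subtype.ext (funext fun v => ?_)
  rw [formsRep_apply]
  simp only [t0]
  generalize ((a⁻¹ : (ZMod p)ˣ) : ZMod p) = y
  generalize (a : ZMod p) = x
  simp [monoFn, Matrix.vecMul, dotProduct, Fin.sum_univ_two]
  ring

theorem t0_topMono (k : ℕ) (a : (ZMod p)ˣ) :
    formsRep K k (t0 a) (topMono k) = algebraMap (ZMod p) K (a : ZMod p) ^ k • topMono (K := K) k := by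
  rw [topMono, t0_mono k a k, Nat.sub_self, pow_zero, mul_one]

/-- The only fixed forms of the unipotent element are multiples of the top monomial. -/
theorem fixed_u0 [Infinite K] {k : ℕ} (hk : k < p) {f : forms K k} (hf : formsRep K k (u0 p) f = f) :
    ∃ c : K, f = c • topMono k := by
  classical
  have hmem : (f : (Fin 2 → K) → K) ∈ Submodule.span K (Set.range fun i : Fin (k + 1) => monoFn K k i) := by
    rw [← forms_eq_mono]; exact f.2
  obtain ⟨c, hc⟩ := (Submodule.mem_span_range_iff_exists_fun K).1 hmem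
  set q : Polynomial K := ∑ i : Fin (k + 1), Polynomial.monomial (k - (i : ℕ)) (c i) with hq
  have heval : ∀ s : K, q.eval s = (f : (Fin 2 → K) → K) ![1, s] := fun s => by
    rw [← hc, hq, Polynomial.eval_finset_sum, Finset.sum_apply]
    refine Finset.sum_congr rfl fun i _ => ?_
    simp [monoFn]
  have hstep : ∀ s : K, q.eval (s + 1) = q.eval s := fun s => by
    rw [heval, heval]
    have h := congrFun (congrArg Subtype.val hf) ![1, s]
    rw [formsRep_apply] at h
    rw [← h]
    refine congrArg (f : (Fin 2 → K) → K) ?_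
    funext j
    fin_cases j <;> simp [u0, Matrix.vecMul, dotProduct, Fin.sum_univ_two, add_comm]
  have hdeg : q.natDegree ≤ k := by
    refine Polynomial.natDegree_sum_le_of_forall_le _ _ fun i _ => ?_
    exact (Polynomial.natDegree_monomial_le _).trans (Nat.sub_le _ _)
  have hconst : q = Polynomial.C (q.eval 0) := by
    refine sub_eq_zero.1 (Polynomial.eq_zero_of_natDegree_lt_card_of_eval_eq_zero _
      (f := fun j : Fin p => ((j : ℕ) : K)) ?_ (fun j => ?_) ?_)
    · intro a b hab
      refine Fin.ext ?_
      have h1 := (CharP.natCast_eq_natCast K p).1 hab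
      exact Nat.ModEq.eq_of_lt_of_lt h1 a.2 b.2
    · have h1 : ∀ n : ℕ, q.eval (n : K) = q.eval 0 := fun n => by
        induction n with
        | zero => simp
        | succ n ih => rw [Nat.cast_succ, hstep, ih]
      simp [h1]
    · rw [Fintype.card_fin]
      exact lt_of_le_of_lt (Polynomial.natDegree_sub_le _ _) (by simpa using lt_of_le_of_lt hdeg hk)
  have hzero : ∀ i : Fin (k + 1), (i : ℕ) ≠ k → c i = 0 := fun i hi => by
    have hcoef : q.coeff (k - (i : ℕ)) = c i := by
      rw [hq, Polynomial.finset_sum_coeff, Finset.sum_eq_single i]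
      · simp
      · intro j _ hj
        rw [Polynomial.coeff_monomial, if_neg]
        intro h
        exact hj (Fin.ext (by omega))
      · simp
    rw [← hcoef, hconst, Polynomial.coeff_C, if_neg (by omega)]
  refine ⟨c ⟨k, by omega⟩, Subtype.ext ?_⟩
  rw [← hc, Finset.sum_eq_single (⟨k, by omega⟩ : Fin (k + 1))]
  · rfl
  · intro j _ hj
    rw [hzero j fun h => hj (Fin.ext h), zero_smul]
  · simp

/-- The forms of degree less than `p` are spanned by the orbit of the top monomial. -/
theorem orbit_topMono [Infinite K] {k : ℕ} (hk : k < p) :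
    Submodule.span K (Set.range fun g => formsRep (p := p) K k g (topMono k)) = ⊤ := by
  classical
  set O := Submodule.span K (Set.range fun g => formsRep (p := p) K k g (topMono k)) with hO
  let b : Fin (k + 1) → forms K k := fun i =>
    ⟨monoFn K k i, by rw [forms_eq_mono]; exact Submodule.subset_span ⟨i, rfl⟩⟩
  have hbind : LinearIndependent K b :=
    LinearIndependent.of_comp (forms K k).subtype (monoFn_independent k)
  have hbsp : Submodule.span K (Set.range b) = ⊤ := by
    refine hbind.span_eq_top_of_card_eq_finrank ?_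
    rw [Fintype.card_fin, finrank_forms]
  by_contra hne
  obtain ⟨φ, hφ, hφO⟩ := Submodule.exists_dual_map_eq_bot_of_lt_top (lt_top_iff_ne_top.2 hne) inferInstance
  -- the elements `(0 1; -1 0) u^j`
  let w : SpecialLinearGroup (Fin 2) (ZMod p) := ⟨!![0, -1; 1, 0], by simp [Matrix.det_fin_two]⟩
  have horb : ∀ j : ℕ, ∑ i : Fin (k + 1), ((Nat.choose k i : K) * (j : K) ^ (i : ℕ)) * φ (b i) = 0 := fun j => by
    have hz : φ (formsRep K k (u0 p ^ j * w) (topMono k)) = 0 := by
      have : φ (formsRep K k (u0 p ^ j * w) (topMono k)) ∈ O.map φ :=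
        Submodule.mem_map_of_mem (Submodule.subset_span ⟨_, rfl⟩)
      rwa [hφO, Submodule.mem_bot] at this
    have he : formsRep K k (u0 p ^ j * w) (topMono k) =
        ∑ i : Fin (k + 1), ((Nat.choose k i : K) * (j : K) ^ (i : ℕ)) • b i := by
      refine Subtype.ext (funext fun v => ?_)
      rw [formsRep_apply, Submodule.coe_sum, Finset.sum_apply]
      show monoFn K k k _ = ∑ i : Fin (k + 1), ((Nat.choose k i : K) * (j : K) ^ (i : ℕ)) * monoFn K k i v
      have hM : ((u0 p ^ j * w : SpecialLinearGroup (Fin 2) (ZMod p)) : Matrix (Fin 2) (Fin 2) (ZMod p)) =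
          !![(j : ZMod p), -1; 1, 0] := by
        show (u0 p ^ j : SpecialLinearGroup (Fin 2) (ZMod p)).1 * !![0, -1; 1, 0] = _
        rw [coe_u0_pow]
        simp [Matrix.mul_fin_two]
      rw [hM]
      simp [monoFn, Matrix.vecMul, dotProduct, Fin.sum_univ_two]
      rw [add_pow, ← Fin.sum_univ_eq_sum_range (fun i => (v 0 * (j : K)) ^ i * v 1 ^ (k - i) * (Nat.choose k i : K)) (k + 1)]
      refine Finset.sum_congr rfl fun i _ => ?_
      ring
    rw [he, map_sum] at hz
    simpa [map_smul] using hz
  set P : Polynomial K := ∑ i : Fin (k + 1), Polynomial.monomial (i : ℕ) ((Nat.choose k i : K) * φ (b i)) with hP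
  have hP0 : P = 0 := by
    refine Polynomial.eq_zero_of_natDegree_lt_card_of_eval_eq_zero _
      (f := fun j : Fin p => ((j : ℕ) : K)) ?_ (fun j => ?_) ?_
    · intro a b hab
      refine Fin.ext ?_
      have h1 := (CharP.natCast_eq_natCast K p).1 hab
      exact Nat.ModEq.eq_of_lt_of_lt h1 a.2 b.2
    · rw [hP, Polynomial.eval_finset_sum, ← horb j]
      refine Finset.sum_congr rfl fun i _ => ?_
      simp only [Polynomial.eval_monomial]
      ring
    · rw [Fintype.card_fin]
      refine lt_of_le_of_lt (Polynomial.natDegree_sum_le_of_forall_le _ _ fun i _ => ?_) hk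
      exact (Polynomial.natDegree_monomial_le _).trans (by omega)
  refine hφ (LinearMap.ext_on hbsp ?_)
  rintro _ ⟨i, rfl⟩
  have h := congrArg (fun Q => Polynomial.coeff Q (i : ℕ)) hP0
  simp [hP, Polynomial.finset_sum_coeff, Polynomial.coeff_monomial, Fin.val_inj] at h
  rcases h with h | h
  · exfalso
    rw [CharP.cast_eq_zero_iff K p] at h
    have hdiv : p ∣ Nat.factorial k := by
      rw [← Nat.choose_mul_factorial_mul_factorial (Nat.le_of_lt_succ i.2)]
      exact Dvd.dvd.mul_right (Dvd.dvd.mul_right h _) _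
    exact absurd ((hp.out.dvd_factorial).1 hdiv) (by omega)
  · exact h

/-- The forms of degree less than `p` form an irreducible representation. -/
theorem formsRep_irr [Infinite K] {k : ℕ} (hk : k < p) : Irr (formsRep (p := p) K k) := by
  refine ⟨⟨⟨topMono k, 0, topMono_ne k⟩⟩, fun q hq => ?_⟩
  by_cases hq0 : q = ⊥
  · exact Or.inl hq0
  refine Or.inr (top_le_iff.1 ?_)
  rw [← orbit_topMono (p := p) hk, Submodule.span_le]
  -- a fixed vector of the unipotent element inside `q`
  set T : End K (forms K k) := formsRep K k (u0 p) with hT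
  have hnil : (T - 1) ^ p = 0 := by
    haveI : Nontrivial (End K (forms K k)) := by
      haveI : Nontrivial (forms K k) := ⟨⟨topMono k, 0, topMono_ne k⟩⟩
      infer_instance
    haveI : CharP (End K (forms K k)) p :=
      charP_of_injective_algebraMap (algebraMap K (End K (forms K k))).injective p
    rw [sub_pow_char_of_commute (R := End K (forms K k)) (p := p) (Commute.one_right T), one_pow, hT,
      ← map_pow, show u0 p ^ p = 1 by simpa [orderOf_u0] using pow_orderOf_eq_one (u0 p), map_one, sub_self]
  obtain ⟨f, hf, hf0⟩ := Submodule.exists_mem_ne_zero_of_ne_bot hq0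
  have hex : ∃ n : ℕ, (((T - 1) ^ n : End K (forms K k))) f = 0 := ⟨p, by rw [hnil]; rfl⟩
  classical
  obtain ⟨g, hg, hg0, hgfix⟩ : ∃ g ∈ q, g ≠ 0 ∧ T g = g := by
    have hspec := Nat.find_spec hex
    have hpos : Nat.find hex ≠ 0 := fun h => hf0 (by rw [h, pow_zero] at hspec; exact hspec)
    obtain ⟨n, hn⟩ := Nat.exists_eq_succ_of_ne_zero hpos
    rw [hn, pow_succ', Module.End.mul_apply] at hspec
    refine ⟨((T - 1) ^ n) f, ?_, Nat.find_min hex (by omega), mem_ker_sub_one.1 hspec⟩
    clear hspec hn
    induction n with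
    | zero => exact hf
    | succ n ih =>
      rw [pow_succ', Module.End.mul_apply, LinearMap.sub_apply, Module.End.one_apply]
      exact Submodule.sub_mem _ (hq _ ih) ih
  obtain ⟨c, hc⟩ := fixed_u0 hk hgfix
  have hc0 : c ≠ 0 := fun h => hg0 (by rw [hc, h, zero_smul])
  have htop : topMono k ∈ q := by
    have := Submodule.smul_mem q c⁻¹ hg
    rwa [hc, smul_smul, inv_mul_cancel₀ hc0, one_smul] at this
  rintro _ ⟨g', rfl⟩
  exact hq g' htop

/-- Multiplicities of the torus on forms. -/
theorem formsRep_wt [Infinite K] [DecidableEq K] (k : ℕ) (a : (ZMod p)ˣ) (l : K) :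
    finrank K ↥(Module.End.eigenspace (formsRep K k (t0 a)) l) =
      (Finset.univ.filter fun i : Fin (k + 1) =>
        algebraMap (ZMod p) K (a : ZMod p) ^ (i : ℕ) *
          algebraMap (ZMod p) K ((a⁻¹ : (ZMod p)ˣ) : ZMod p) ^ (k - i) = l).card := by
  have hmem : ∀ i : Fin (k + 1), monoFn K k i ∈ forms K k := fun i => by
    rw [forms_eq_mono]; exact Submodule.subset_span ⟨i, rfl⟩
  have hbind : LinearIndependent K fun i : Fin (k + 1) => (⟨monoFn K k i, hmem i⟩ : forms K k) :=
    LinearIndependent.of_comp (forms K k).subtype (monoFn_independent k)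
  have hsp : Submodule.span K (Set.range fun i : Fin (k + 1) => (⟨monoFn K k i, hmem i⟩ : forms K k)) = ⊤ := by
    refine hbind.span_eq_top_of_card_eq_finrank ?_
    rw [Fintype.card_fin, finrank_forms]
  have heig : ∀ i : Fin (k + 1), formsRep K k (t0 a) (⟨monoFn K k i, hmem i⟩ : forms K k) =
      (algebraMap (ZMod p) K (a : ZMod p) ^ (i : ℕ) * algebraMap (ZMod p) K ((a⁻¹ : (ZMod p)ˣ) : ZMod p) ^ (k - i)) •
        (⟨monoFn K k i, hmem i⟩ : forms K k) := fun i => t0_mono k a _ (hmem i)
  exact finrank_eigen_of_spanning _ hsp (finrank_forms k) _ heig l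

/-- The fixed space of the element of order three on forms. -/
theorem formsRep_fix [Infinite K] {l : K} (hl : l ^ 2 + l + 1 = 0) (hl1 : l ≠ 1) (k : ℕ) :
    fixDim (formsRep K k (x0 p)) =
      (Finset.univ.filter fun i : Fin (k + 1) => (2 * k - (i : ℕ)) % 3 = 0).card := by
  classical
  have hl3 : l ^ 3 = 1 := by linear_combination (l - 1) * hl
  set a : (Fin 2 → K) → K := coordFn K 0 - l • coordFn K 1 with ha
  set b : (Fin 2 → K) → K := coordFn K 0 - l ^ 2 • coordFn K 1 with hb
  have hab : Submodule.span K ({a, b} : Set ((Fin 2 → K) → K)) = Submodule.span K (Set.range (coordFn K)) := by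
    refine le_antisymm (Submodule.span_le.2 ?_) (Submodule.span_le.2 ?_)
    · rintro _ (rfl | rfl) <;>
        exact Submodule.sub_mem _ (Submodule.subset_span ⟨0, rfl⟩)
          (Submodule.smul_mem _ _ (Submodule.subset_span ⟨1, rfl⟩))
    · have hd : l ^ 2 - l ≠ 0 := by
        have : l * (l - 1) ≠ 0 := mul_ne_zero (fun h => by rw [h] at hl; simp at hl) (sub_ne_zero.2 hl1)
        rwa [show l ^ 2 - l = l * (l - 1) by ring]
      have h1 : coordFn K 1 ∈ Submodule.span K ({a, b} : Set ((Fin 2 → K) → K)) := by
        have h : (l ^ 2 - l)⁻¹ • (a - b) = coordFn K 1 := by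
          rw [ha, hb, sub_sub_sub_cancel_left, ← sub_smul, smul_smul, inv_mul_cancel₀ hd, one_smul]
        rw [← h]
        exact Submodule.smul_mem _ _ (Submodule.sub_mem _ (Submodule.subset_span (by simp))
          (Submodule.subset_span (by simp)))
      rintro _ ⟨j, rfl⟩
      match j with
      | 1 => exact h1
      | 0 =>
        rw [show coordFn K 0 = a + l • coordFn K 1 by rw [ha, sub_add_cancel]]
        exact Submodule.add_mem _ (Submodule.subset_span (by simp)) (Submodule.smul_mem _ _ h1)
  have hsub : ∀ v : Fin 2 → K,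
      a (v ᵥ* ((x0 p : SpecialLinearGroup (Fin 2) (ZMod p)) : Matrix (Fin 2) (Fin 2) (ZMod p)).map
        (algebraMap (ZMod p) K)) = l * a v ∧
      b (v ᵥ* ((x0 p : SpecialLinearGroup (Fin 2) (ZMod p)) : Matrix (Fin 2) (Fin 2) (ZMod p)).map
        (algebraMap (ZMod p) K)) = l ^ 2 * b v := by
    intro v
    constructor <;> simp [ha, hb, coordFn, x0, Matrix.vecMul, dotProduct, Fin.sum_univ_two]
    · linear_combination (v 1) * hl
    · linear_combination (v 1) * hl + (v 1) * l * hl3
  have hmem : ∀ i : Fin (k + 1), a ^ (i : ℕ) * b ^ (k - i) ∈ forms K k := fun i => by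
    rw [forms_eq_span hab]; exact Submodule.subset_span ⟨i, rfl⟩
  let B : Fin (k + 1) → forms K k := fun i => ⟨_, hmem i⟩
  have hBsp : Submodule.span K (Set.range B) = ⊤ := by
    refine Submodule.map_injective_of_injective (forms K k).injective_subtype ?_
    rw [Submodule.map_span, Submodule.map_top, Submodule.range_subtype, ← Set.range_comp]
    exact (forms_eq_span hab k).symm
  have heig : ∀ i, formsRep K k (x0 p) (B i) = (l ^ (2 * k - (i : ℕ))) • B i := fun i => by
    refine Subtype.ext (funext fun v => ?_)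
    rw [formsRep_apply]
    show (a ^ (i : ℕ) * b ^ (k - i)) _ = l ^ (2 * k - (i : ℕ)) * (a ^ (i : ℕ) * b ^ (k - i)) v
    simp only [Pi.mul_apply, Pi.pow_apply, (hsub v).1, (hsub v).2]
    rw [mul_pow, mul_pow, ← pow_mul, show 2 * k - (i : ℕ) = i + 2 * (k - i) by omega, pow_add]
    ring
  have h := finrank_eigen_of_spanning B hBsp (finrank_forms k) _ heig 1
  rw [Module.End.eigenspace_def, one_smul] at h
  rw [fixDim, h]
  refine congrArg Finset.card (Finset.filter_congr fun i _ => ?_)
  have hord : orderOf l = 3 := by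
    haveI : Fact (Nat.Prime 3) := ⟨Nat.prime_three⟩
    exact orderOf_eq_prime hl3 hl1
  rw [← orderOf_dvd_iff_pow_eq_one, hord]
  omega

end Cfsg.Lib.FixSixth
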